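import Cfsg.Agent.H17.KnDef2

/-!
# Project KN, piece PP2: finite facts
-/

set_option autoImplicit false
set_option maxRecDepth 100000

namespace Cfsg.Agent.H80.KnPP2a

open Equiv Subgroup
open Cfsg.Agent.H11.A16 (fl ω)
open Cfsg.Agent.H17.Kn

/-- Coordinates on `FF`. -/
abbrev Q4 : Type := Fin 4 × Fin 4 × Fin 4 × Fin 4

/-- The element with given components. -/
def fv (q : Q4) : N2 := wb 0 q.1 * wb 1 q.2.1 * wb 2 q.2.2.1 * wb 3 q.2.2.2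

def sw : Fin 4 → Fin 4 := ![1, 0, 2, 3]
def md : Fin 4 → Fin 4 := ![3, 2, 1, 0]
def od : Fin 4 → Bool := ![false, true, true, false]

def Ts (q : Q4) : Q4 := (sw q.1, sw q.2.1, sw q.2.2.1, sw q.2.2.2)
def T0' (q : Q4) : Q4 := (fl q.1, q.2.1, q.2.2.1, q.2.2.2)
def Ta (q : Q4) : Q4 := (fl q.1, fl q.2.1, q.2.2.1, q.2.2.2)
def Tb (q : Q4) : Q4 := (fl q.1, q.2.1, fl q.2.2.1, q.2.2.2)
def Tp (q : Q4) : Q4 :=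
  if (od q.1 ^^ od q.2.1 ^^ od q.2.2.1 ^^ od q.2.2.2) = true then
    (md (fl q.1), md q.2.1, md q.2.2.1, md q.2.2.2) else (fl q.1, q.2.1, q.2.2.1, q.2.2.2)
def Tt (q : Q4) : Q4 := (q.1, ω q.2.1, q.2.2.1, q.2.2.2)
def V1 (q : Q4) : Q4 := (q.2.1, q.1, q.2.2.2, q.2.2.1)
def V2 (q : Q4) : Q4 := (q.2.2.1, q.2.2.2, q.1, q.2.1)
def Tg (q : Q4) : Q4 := Ts (Tp (Ts (Tb (Ts (Ta (Ts (Tb (Ts (Ta (Ts (Tp q)))))))))))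

theorem wb_FF : ∀ i k, wb i k ∈ FF := by decide +kernel

theorem fv_FF (q : Q4) : fv q ∈ FF :=
  mul_mem (mul_mem (mul_mem (wb_FF _ _) (wb_FF _ _)) (wb_FF _ _)) (wb_FF _ _)

theorem fs : ∀ q, s12 * pm2 (fv q) * s12⁻¹ = pm2 (fv (Ts q)) := by decide +kernel
theorem ft : ∀ q, th 1 * pm2 (fv q) * (th 1)⁻¹ = pm2 (fv (Tt q)) := by decide +kernel
theorem f0' : ∀ q, dl 0 * fv q * (dl 0)⁻¹ = fv (T0' q) := by decide +kernel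
theorem fa : ∀ q, dl 0 * dl 2 * fv q * (dl 0 * dl 2)⁻¹ = fv (Ta q) := by decide +kernel
theorem fb : ∀ q, dl 0 * dl 4 * fv q * (dl 0 * dl 4)⁻¹ = fv (Tb q) := by decide +kernel
theorem fv1 : ∀ q, xe 2 4 * fv q * (xe 2 4)⁻¹ = fv (V1 q) := by decide +kernel
theorem fv2 : ∀ q, xe 3 4 * fv q * (xe 3 4)⁻¹ = fv (V2 q) := by decide +kernel

/-- The twisted image of a generator. -/
def im1 (i k : Fin 4) : N2 := dl 0 * wb i k * (dl 0)⁻¹ * zp (if od k = true then 1 else 0)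

theorem fp : ∀ q : Q4, im1 0 q.1 * im1 1 q.2.1 * im1 2 q.2.2.1 * im1 3 q.2.2.2 = fv (Tp q) := by
  decide +kernel

theorem fq : ∀ i k, im1 i k ∈ FF ∧ ((wb i k ∈ T1 ∧ dl 0 * wb i k * (dl 0)⁻¹ = im1 i k) ∨
    (f0⁻¹ * wb i k ∈ T1 ∧ dl 0 * (f0⁻¹ * wb i k) * (dl 0)⁻¹ ∈ FF ∧
      f0 * z2 * (dl 0 * (f0⁻¹ * wb i k) * (dl 0)⁻¹) = im1 i k)) := by
  decide +kernel

theorem g1 : ∀ q, Tg (V1 q) = V1 (Tg q) := by decide +kernel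
theorem g2 : ∀ q, Tg (V2 q) = V2 (Tg q) := by decide +kernel
theorem g3 : ∀ k, Tg (k, k, k, k) = (k, k, k, k) := by decide +kernel
theorem g4 : Tg (0, 3, 3, 3) = (2, 1, 1, 1) := by decide +kernel
theorem g5 : ∀ q, Tt (T0' q) = T0' (Tt q) := by decide +kernel
theorem g6 : ∀ q, fv (T0' q) * fv q ≠ fv (0, 2, 0, 0) * z2⁻¹ := by decide +kernel

theorem g7 : z2 = fv (0, 0, 0, 0) ∧ xe 1 4 = fv (1, 1, 1, 1) ∧ xe 1 4 * z2 = fv (2, 2, 2, 2) ∧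
    1 = fv (3, 3, 3, 3) := by decide +kernel
theorem g8 : fv (0, 3, 3, 3) ≠ fv (2, 1, 1, 1) ∧ fv (V1 (0, 3, 3, 3)) ≠ fv (2, 1, 1, 1) ∧
    fv (V2 (0, 3, 3, 3)) ≠ fv (2, 1, 1, 1) ∧ fv (V1 (V2 (0, 3, 3, 3))) ≠ fv (2, 1, 1, 1) := by
  decide +kernel
theorem g9 : dl 0 * dl 2 ∈ SE ∧ dl 0 * dl 4 ∈ SE ∧ xe 2 4 ∈ SE ∧ xe 3 4 ∈ SE ∧ f0 ∈ FF ∧ z2 ∈ FF ∧
    dl 0 ∈ S2 ∧ dl 0 ∉ SE ∧ dl 0 * dl 0 = 1 ∧ dl 0 * f0 * (dl 0)⁻¹ = f0 ∧ dl 0 ∈ PP ∧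
    par (dl 0) = 1 ∧ Tt (0, 0, 0, 0) = (0, 2, 0, 0) := by decide +kernel

end Cfsg.Agent.H80.KnPP2a
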