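import Cfsg.Agent.H17.KnCongr
import Cfsg.Agent.H80.KnPP2a

/-!
# Project KN, piece PP2: the element `p` is the sign change
-/

set_option autoImplicit false

namespace Cfsg.Agent.H80.KnPP2

open Equiv Subgroup Cfsg.Agent.H63
open Cfsg.Agent.H11.A16 (Ω)
open Cfsg.Agent.H89.Rec (Syl)
open Cfsg.Agent.H17.Kn Cfsg.Agent.H80.KnPP2a

universe u

variable {G : Type u} [Group G] {J : N2 → G} {φ : G → Perm Ω} {s p : G}

/-- `g` acts on `FF` as `T` on the coordinates. -/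
def AF (J : N2 → G) (g : G) (T : Q4 → Q4) : Prop := ∀ q, R J g (fv q) (fv (T q))

theorem AF.mul {g g' : G} {T T' : Q4 → Q4} (h : AF J g T) (h' : AF J g' T') :
    AF J (g * g') (fun q => T (T' q)) := fun q => (h' q).trans (h _)

theorem exq (m1 : Mod1) {u : N2} (hu : u ∈ FF) : ∃ q, u = fv q := by
  obtain ⟨a, b, c, e, h⟩ := m1.nfF u hu
  exact ⟨(a, b, c, e), h⟩

theorem AF.nrm [Finite G] (m1 : Mod1) (he : Em J FF) {g : G} {T : Q4 → Q4} (h : AF J g T) :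
    g ∈ N[im J FF] := by
  refine mem_normalizer_fintype fun n hn => ?_
  obtain ⟨u, hu, rfl⟩ := he.mem.1 hn
  obtain ⟨q, rfl⟩ := exq m1 hu
  rw [h q]
  exact mem_im (fv_FF _)

theorem AF.comm [Finite G] (m1 : Mod1) (he : Em J FF) {g g' : G} {T T' : Q4 → Q4} (h : AF J g T)
    (h' : AF J g' T') (e : ∀ q, T (T' q) = T' (T q)) : g * g' * g⁻¹ * g'⁻¹ ∈ C[im J FF] := by
  refine mem_centralizer_iff.2 fun x hx => ?_
  have hy : (g' * g)⁻¹ * x * (g' * g)⁻¹⁻¹ ∈ im J FF :=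
    (mem_normalizer_iff.1 (inv_mem ((h'.mul h).nrm m1 he)) x).1 hx
  obtain ⟨u, hu, k⟩ := he.mem.1 hy
  obtain ⟨q, rfl⟩ := exq m1 hu
  have a : g' * g * J (fv q) * (g' * g)⁻¹ = J (fv (T' (T q))) := h'.mul h q
  have b : g * g' * J (fv q) * (g * g')⁻¹ = J (fv (T (T' q))) := h.mul h' q
  rw [e, ← a, k] at b
  calc x * (g * g' * g⁻¹ * g'⁻¹)
      = g' * g * ((g' * g)⁻¹ * x * (g' * g)⁻¹⁻¹) * (g' * g)⁻¹ * (g * g' * g⁻¹ * g'⁻¹) := by group
    _ = g * g' * g⁻¹ * g'⁻¹ * x := by rw [← b]; group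

theorem af_self (he : Em J SE) (l : FF ≤ SE) {t : N2} (ht : t ∈ SE) {T : Q4 → Q4}
    (e : ∀ q, t * fv q * t⁻¹ = fv (T q)) : AF J (J t) T := fun q =>
  e q ▸ he.self ht (l (fv_FF q))

theorem pf0 [Finite G] (hB : Base.{u}) (hf : FbStmt.{u}) (h : Pa J φ s p) : R J p f0 f0 := by
  refine h.pf.resolve_right fun hz => ?_
  obtain ⟨-, -, -, -, -, -, -, -, l2, -, -, -, l3, -, -, -, -, -, -, -, l4, -⟩ := hB.m2.le
  obtain ⟨ma, mb, m24, m34, mf, mz, -⟩ := g9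
  have he := h.emS
  have hF : Em J FF := he.mono l3
  have as : AF J s Ts := fun q => h.sY _ (l4 (fv_FF q)) _ (l4 (fv_FF _)) (fs q)
  have aa : AF J (J (dl 0 * dl 2)) Ta := af_self he l3 ma fa
  have ab : AF J (J (dl 0 * dl 4)) Tb := af_self he l3 mb fb
  have a1 : AF J (J (xe 2 4)) V1 := af_self he l3 m24 fv1
  have a2 : AF J (J (xe 3 4)) V2 := af_self he l3 m34 fv2
  have pw : ∀ i k, R J p (wb i k) (im1 i k) := fun i k => by
    rcases (fq i k).2 with ⟨a, b⟩ | ⟨a, b, c⟩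
    · exact b ▸ h.pT _ a
    · have := R.mul hF hz (h.pT _ a) mf (mul_mem mf mz) (mul_mem (inv_mem mf) (wb_FF i k)) b
      rwa [mul_inv_cancel_left, c] at this
  have ap : AF J p Tp := fun q => by
    rw [← fp q]
    have w := wb_FF
    have v := fun i k => (fq i k).1
    exact R.mul hF (R.mul hF (R.mul hF (pw _ _) (pw _ _) (w _ _) (v _ _) (w _ _) (v _ _)) (pw _ _)
      (mul_mem (w _ _) (w _ _)) (mul_mem (v _ _) (v _ _)) (w _ _) (v _ _)) (pw _ _)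
      (mul_mem (mul_mem (w _ _) (w _ _)) (w _ _)) (mul_mem (mul_mem (v _ _) (v _ _)) (v _ _))
      (w _ _) (v _ _)
  obtain ⟨g, ag⟩ : ∃ g, AF J g Tg :=
    ⟨_, as.mul (ap.mul (as.mul (ab.mul (as.mul (aa.mul (as.mul (ab.mul (as.mul (aa.mul
      (as.mul ap))))))))))⟩
  have a12 : AF J (J (xe 2 4 * xe 3 4)) fun q => V1 (V2 q) := by
    rw [he.mul _ m24 _ m34]
    exact a1.mul a2
  have fx : ∀ k, Commute g (J (fv (k, k, k, k))) := fun k => by
    have := ag (k, k, k, k)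
    rw [g3, R, mul_inv_eq_iff_eq_mul] at this
    exact this
  obtain ⟨v, hv, e⟩ := hf J φ s h.toSt g (ag.nrm hB.m1 hF) (fun v hv => by
      rcases hB.m2.lVV v hv with rfl | rfl | rfl | rfl
      · rw [he.one]; simp
      · exact ag.comm hB.m1 hF a1 g1
      · exact ag.comm hB.m1 hF a2 g2
      · exact ag.comm hB.m1 hF a12 fun q => by rw [g1, g2]) (fun u hu => by
      obtain ⟨e0, e1, e2, e3⟩ := g7
      rcases hB.m2.lPI u hu with rfl | rfl | rfl | rfl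
      · rw [e3]; exact fx 3
      · rw [e0]; exact fx 0
      · rw [e1]; exact fx 1
      · rw [e2]; exact fx 2)
  have k := e _ (fv_FF (0, 3, 3, 3))
  have k' := ag (0, 3, 3, 3)
  rw [g4] at k'
  obtain ⟨n0, n1, n2, n3⟩ := g8
  rcases hB.m2.lVV v hv with rfl | rfl | rfl | rfl
  · rw [one_mul, inv_one, mul_one] at k
    exact n0 (k.uniq hF k' (fv_FF _) (fv_FF _))
  · rw [fv1] at k
    exact n1 (k.uniq hF k' (fv_FF _) (fv_FF _))
  · rw [fv2] at k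
    exact n2 (k.uniq hF k' (fv_FF _) (fv_FF _))
  · rw [show xe 2 4 * xe 3 4 * fv (0, 3, 3, 3) * (xe 2 4 * xe 3 4)⁻¹ =
      xe 2 4 * (xe 3 4 * fv (0, 3, 3, 3) * (xe 3 4)⁻¹) * (xe 2 4)⁻¹ by group, fv2, fv1] at k
    exact n3 (k.uniq hF k' (fv_FF _) (fv_FF _))

theorem nrmSE {u : N2} (hu : u ∈ SE) : dl 0 * u * (dl 0)⁻¹ ∈ SE := by
  obtain ⟨-, -, -, -, -, -, m, -, -, -, -, -⟩ := g9
  refine ⟨S2.mul_mem (S2.mul_mem m hu.1) (S2.inv_mem m), ?_⟩
  have a : par u = 0 := hu.2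
  have b := par_mul (dl 0) (dl 0)⁻¹
  rw [mul_inv_cancel, show par 1 = 0 from (one_mem EV)] at b
  change par _ = 0
  rw [par_mul, par_mul, a, add_zero, ← b]

theorem pSE [Finite G] (hB : Base.{u}) (hf : FbStmt.{u}) (h : Pa J φ s p) : Ex J p (dl 0) SE := by
  intro u hu
  obtain ⟨-, -, -, -, -, -, -, -, l2, -, -, -, l3, -⟩ := hB.m2.le
  obtain ⟨-, -, -, -, mf, -, -, -, -, e, -⟩ := g9
  rcases hB.m2.iSE u hu with a | a
  · exact h.pT u a
  · have := R.mul h.emS (pf0 hB hf h) (h.pT _ a) (l3 mf) (l3 mf) (l2 a) (nrmSE (l2 a))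
    rw [mul_inv_cancel_left] at this
    nth_rw 1 [← e] at this
    rwa [show dl 0 * f0 * (dl 0)⁻¹ * (dl 0 * (f0⁻¹ * u) * (dl 0)⁻¹) = dl 0 * u * (dl 0)⁻¹ by group]
      at this

theorem psq [Finite G] (hB : Base.{u}) (hf : FbStmt.{u}) (ht : ThStmt.{u}) (h : Pa J φ s p) :
    p * p = 1 := by
  refine h.psq.resolve_right fun hz => ?_
  obtain ⟨-, -, -, -, -, -, -, -, -, -, -, -, l3, -⟩ := hB.m2.le
  obtain ⟨-, -, -, -, -, mz, -, -, -, -, -, -, et⟩ := g9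
  have hF : Em J FF := h.emS.mono l3
  obtain ⟨θ, hθ⟩ := ht J φ s h.toSt 1
  have at' : AF J θ Tt := fun q => hθ _ (fv_FF q) _ (fv_FF _) (ft q)
  have ap : AF J p T0' := fun q => f0' q ▸ pSE hB hf h _ (l3 (fv_FF q))
  have hc := at'.comm hB.m1 hF ap g5
  have ab : ∀ a ∈ im J FF, ∀ b ∈ C[im J FF], Commute a b := fun a ha b hb =>
    mem_centralizer_iff.1 hb a ha
  have le : im J FF ≤ C[im J FF] := fun a ha => mem_centralizer_iff.2 fun b hb => by
    obtain ⟨u, hu, rfl⟩ := hF.mem.1 ha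
    obtain ⟨v, hv, rfl⟩ := hF.mem.1 hb
    rw [← hF.mul _ hv _ hu, ← hF.mul _ hu _ hv, (hB.m2.ab.2.1 v hv u hu).eq]
  have sy : Syl (im J FF) C[im J FF] :=
    h.sylF.mono le (centralizer_le (im_mono (X := U1) (Y := FF) inf_le_right))
  have pN : p ∈ N[im J FF] := ap.nrm hB.m1 hF
  have pC : p ∈ N[C[im J FF]] := by
    refine mem_normalizer_fintype fun n hn => mem_centralizer_iff.2 fun x hx => ?_
    have := mem_centralizer_iff.1 hn _ ((mem_normalizer_iff.1 (inv_mem pN) x).1 hx)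
    calc x * (p * n * p⁻¹) = p * (p⁻¹ * x * p⁻¹⁻¹ * n) * p⁻¹ := by group
      _ = p * n * p⁻¹ * x := by rw [this]; group
  have m : fv (0, 2, 0, 0) * z2⁻¹ ∈ FF := mul_mem (fv_FF _) (inv_mem mz)
  generalize hc' : θ * p * θ⁻¹ * p⁻¹ = c at hc
  have y : c * (p * c * p⁻¹) = J (fv (0, 2, 0, 0) * z2⁻¹) := by
    have a := at' (0, 0, 0, 0)
    rw [et, ← g7.1, R] at a
    rw [hF.mul _ (fv_FF _) _ (inv_mem mz), hF.inv mz, ← a, ← hz, ← hc']
    group
  have y' : p * c * p⁻¹ * c = J (fv (0, 2, 0, 0) * z2⁻¹) := by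
    have := (ab _ (mem_im m) c hc).eq
    rw [← y] at this ⊢
    exact mul_left_cancel (a := c) (by rw [← this]; group)
  obtain ⟨c0, h0, e⟩ := (hB.gen (G := G)).csq _ _ p c sy ab pC (y' ▸ mem_im m) hc
  obtain ⟨u, hu, rfl⟩ := hF.mem.1 h0
  obtain ⟨q, rfl⟩ := exq hB.m1 hu
  rw [y', ap q, ← hF.mul _ (fv_FF _) _ (fv_FF _)] at e
  exact g6 q (hF.inj _ (mul_mem (fv_FF _) (fv_FF _)) _ m e)

theorem pp2 (hB : Base.{u}) (hf : FbStmt.{u}) (ht : ThStmt.{u}) : Pp2Stmt.{u} := by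
  intro G _ _ J φ s p h
  obtain ⟨-, -, -, -, -, l5, l6, l7, l2, -, l10, l11, -⟩ := hB.m2.le
  obtain ⟨-, -, -, -, -, -, m2, n2, dd, -, mP, pd, -⟩ := g9
  have lE : EE ≤ SE := l5.trans (l6.trans l2)
  have lP : PP ≤ S2 := l10.trans l11
  have pn : p ∉ im J SE := fun a => by
    obtain ⟨u, hu, rfl⟩ := h.emS.mem.1 a
    refine h.pn (mem_im ⟨hB.m3.cEE u fun e he => ?_, hu.2⟩)
    refine h.emS.inj _ (mul_mem hu (lE he)) _ (mul_mem (lE he) hu) ?_
    rw [h.emS.mul _ hu _ (lE he), h.emS.mul _ (lE he) _ hu]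
    exact (mem_centralizer_iff.1 h.pc _ (mem_im he)).symm
  obtain ⟨J', he, e, e0⟩ := (hB.gen (G := G)).ext J SE S2 (dl 0) p h.emS inf_le_left m2 n2
    hB.m2.iS2 (pSE hB hf h) (by rw [dd, h.emS.one, psq hB hf ht h]) pn
  have eE : ∀ u ∈ EE, J' u = J u := fun u hu => e u (lE hu)
  have nA : NA J' = NA J := NA_congr fun u hu => e u (l2 (l7 hu))
  refine ⟨J', h.toSt.congr hB.m2 e, he, ?_, fun k hk => ?_⟩
  · have : im J' PP = im J EE ⊔ zpowers p := by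
      refine le_antisymm (im_le fun u hu => ?_) (sup_le ?_ ?_)
      · rcases hB.m2.iPP u hu with a | a
        · exact mem_sup_left (eE u a ▸ mem_im a)
        · rw [← mul_inv_cancel_left (dl 0) u, he.mul _ m2 _ (lP a.1), e0, eE _ a]
          exact mul_mem (mem_sup_right (mem_zpowers p)) (mem_sup_left (mem_im a))
      · rw [← im_congr eE]
        exact im_mono inf_le_left
      · rw [zpowers_le, ← e0]
        exact mem_im mP
    rw [this, im_congr eE]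
    exact h.syl
  · obtain ⟨g, a, b, c, d⟩ := h.exP k hk
    have cE : ∀ u ∈ EE, R J' g u (k * u * k⁻¹) := fun u hu =>
      (c u (l5 hu)).congr (eE u hu) (eE _ ((hB.m2.nrm k).2.1 u hu))
    have kP := (hB.m2.nrm k).1 _ mP
    have cd : R J' g (dl 0) (k * dl 0 * k⁻¹) := by
      have mE : dl 0 * (k * dl 0 * k⁻¹) ∈ EE := by
        refine ⟨mul_mem mP kP, ?_⟩
        have b := par_mul k k⁻¹
        rw [mul_inv_cancel, show par 1 = 0 from (one_mem EV)] at b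
        change par _ = 0
        rw [par_mul, par_mul, par_mul, pd, add_comm (par k), add_assoc, ← b]
        decide
      rw [R, e0, d, ← eE _ mE, ← e0, ← he.mul _ m2 _ (lP mE.1), ← mul_assoc, dd, one_mul]
    refine ⟨g, nA ▸ a, b, fun u hu => ?_⟩
    rcases hB.m2.iPP u hu with a | a
    · exact cE u a
    · have := R.mul he cd (cE _ a) m2 (lP kP) (lP a.1) (lP ((hB.m2.nrm k).1 _ a.1))
      rwa [mul_inv_cancel_left,
        show k * dl 0 * k⁻¹ * (k * ((dl 0)⁻¹ * u) * k⁻¹) = k * u * k⁻¹ by group] at this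

end Cfsg.Agent.H80.KnPP2
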