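import Cfsg.Agent.H42.HtDefs

/-!
# Project HT, piece NW: the core configuration seen from `τ`
-/

set_option autoImplicit false

namespace Cfsg.Agent.H80.HtNW

open Cfsg Cfsg.Agent.H63 Cfsg.Agent.H63.SL Cfsg.Agent.H63.AN Subgroup
open Cfsg.Agent.H7.AA (ev d2 Acts KA NA)
open Cfsg.Agent.H78 (c3 altOn symOn)
open Cfsg.Agent.H42.HT
open Equiv (swap Perm)
open Equiv.Perm (sign)

universe u

variable {G : Type u} [Group G] {ψ : Al →* G} {t τ h : G}

theorem sgn {s : Finset (Fin 10)} {σ : P} (hσ : σ ∈ altOn s) : sign σ = 1 :=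
  (H78.mem_altOn.1 hσ).2

theorem al_eq (co : Co ψ t τ h) {σ : P} (hσ : σ ∈ off 0 1) : ev (cf h ψ) σ = ev ψ σ := by
  rw [H7.AA.ev_cj, (co.hB σ hσ).eq, mul_inv_cancel_right]

theorem comm_conj {a b : G} (g : G) (hc : Commute a b) : Commute (g * a * g⁻¹) (g * b * g⁻¹) := by
  have := hc.map (MulAut.conj g)
  simpa only [MulAut.conj_apply] using this

theorem da (F : FF) (fr : Fr ψ t) (co : Co ψ t τ h) : Acts (cf h ψ) t (swap 0 1) := by
  rw [H7.AA.acts_cj]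
  have hc : Commute (h⁻¹ * t * h) t := by
    have e := comm_conj h⁻¹ co.d1.cm.symm
    rw [← co.ht] at e
    simpa only [inv_inv, mul_assoc, inv_mul_cancel_left, inv_mul_cancel, mul_one] using e
  obtain ⟨p, hp⟩ := fr.act _ hc
  have hq : ∀ σ ∈ off 0 1, Commute p σ := fun σ hσ => by
    refine hp.comm_perm fr.inj (sgn hσ) ?_
    have h1 : Commute t (ev ψ σ) := H7.AA.KA_ev fr.tK σ
    exact (((co.hB σ hσ).inv_left.mul_left h1).mul_left (co.hB σ hσ)).eq
  rcases F.c8 0 1 (by decide) p hq with rfl | rfl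
  · exfalso
    have h2 : (h⁻¹ * t * h) * (h⁻¹ * t * h) = 1 := by
      calc (h⁻¹ * t * h) * (h⁻¹ * t * h) = h⁻¹ * (t * t) * h := by group
        _ = 1 := by rw [fr.t2]; group
    rcases fr.r2 _ hp.KA hc ⟨1, by rw [pow_one, pow_two, h2]⟩ with e | e
    · apply fr.t1
      calc t = h * (h⁻¹ * t * h) * h⁻¹ := by group
        _ = 1 := by rw [e]; group
    · apply co.d1.ne
      rw [← co.ht]
      calc h * t * h⁻¹ = h * (h⁻¹ * t * h) * h⁻¹ := by rw [e]
        _ = t := by group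
  · exact hp

/-- The key step. -/
theorem key (F : FF) (fr : Fr ψ t) (fa : ∀ g : G, Fr (cf g ψ) (g * t * g⁻¹)) (co : Co ψ t τ h) :
    Commute (ev ψ v) (ev (cf h ψ) (c3 4 0 1)) := by
  have sc : sign (d2 0 6 1 7 : P) = 1 := by decide
  have sc' : sign (d2 2 6 3 7 : P) = 1 := by decide
  have sw : sign w = 1 := by decide
  have sy : sign (d2 0 1 6 7 : P) = 1 := by decide
  set k : G := ev ψ (d2 0 6 1 7) * h with hk
  -- the second frame on `off 0 1`
  have eps : ∀ σ ∈ off 0 1, ev (cf k ψ) σ = ev ψ (d2 0 6 1 7 * σ * (d2 0 6 1 7)⁻¹) := fun σ hσ => by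
    rw [H7.AA.ev_conj sc (sgn hσ), ← al_eq co hσ, H7.AA.ev_cj, H7.AA.ev_cj, hk]
    group
  have cy : Commute τ (ev ψ (d2 0 1 6 7)) := co.d1.ac.comm sy (by decide)
  have e1 : k * t * k⁻¹ = τ * ev ψ (d2 0 1 6 7) := by
    have := fr.cls τ _ co.d1.cm co.d1.ac _ sc
    rw [show (d2 0 6 1 7 * swap 0 1 * (d2 0 6 1 7)⁻¹ * (swap 0 1)⁻¹ : P) = d2 0 1 6 7 by decide]
      at this
    rw [cy.eq, ← this, ← co.ht, hk]
    group
  have e2 : τ * ev ψ (d2 0 1 6 7) =
      ev ψ (d2 2 6 3 7) * (τ * ev ψ w) * (ev ψ (d2 2 6 3 7))⁻¹ := by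
    have c1 : Commute τ (ev ψ (d2 2 6 3 7)) := co.d1.ac.comm sc' (by decide)
    rw [show (d2 0 1 6 7 : P) = d2 2 6 3 7 * w * (d2 2 6 3 7)⁻¹ by decide, H7.AA.ev_conj sc' sw,
      ← mul_assoc (ev ψ (d2 2 6 3 7)), ← c1.eq]
    group
  have tauK : τ ∈ KA (cf h ψ) := co.ht ▸ (fa h).tK
  have ea : Acts (cf h ψ) (k * t * k⁻¹) (swap 6 7) := by
    have a1 : Acts (cf h ψ) (ev ψ (d2 2 6 3 7)) (d2 2 6 3 7) := by
      rw [← al_eq co (H78.mem_altOn.2 (by decide))]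
      exact H7.AA.acts_ev sc'
    have a2 := a1.conj ((H7.AA.acts_of_KA tauK).mul (H7.AA.acts_cj.2 co.hw))
    rw [show (d2 2 6 3 7 * (1 * swap 2 3) * (d2 2 6 3 7)⁻¹ : P) = swap 6 7 by decide] at a2
    rw [e1, e2]
    exact a2
  have conj_eq : ∀ σ : P, h * k⁻¹ * ev (cf k ψ) σ * (h * k⁻¹)⁻¹ = ev (cf h ψ) σ := fun σ => by
    rw [H7.AA.ev_cj, H7.AA.ev_cj]
    group
  have cs : ∀ (i j : Fin 10), ∀ σ ∈ off i j, swap i j * σ = σ * swap i j := fun i j σ hσ => by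
    have hi : σ i = i := (H78.mem_altOn.1 hσ).1 i (by simp)
    have hj : σ j = j := (H78.mem_altOn.1 hσ).1 j (by simp)
    rw [Equiv.mul_swap_eq_swap_mul, hi, hj]
  obtain ⟨φ, φi, hφ⟩ := (fa k).perf {6, 7}ᶜ (h * k⁻¹) (by decide) fun σ hσ => by
    rw [conj_eq]
    exact (show Commute _ _ from ea.comm (sgn hσ) (cs 6 7 σ hσ)).symm
  obtain ⟨p, hp⟩ := F.a8 6 7 (by decide) φ φi
  have ap : ∀ σ ∈ off 6 7, ev (cf h ψ) σ = ev (cf k ψ) (p * σ * p⁻¹) := fun σ hσ => by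
    rw [← conj_eq, (hφ ⟨σ, hσ⟩).2, hp]
  have spc : ∀ (q : P) {σ : P}, sign σ = 1 → sign (q * σ * q⁻¹) = 1 := fun q σ hσ => by
    rw [H7.AA.sign_conj', hσ]
  -- `p` fixes six points
  have pf : ∀ i ∈ ({2, 3, 4, 5, 8, 9} : Finset (Fin 10)), p i = i := by
    refine F.cen _ (by decide) p fun σ hσ => ?_
    have m1 : σ ∈ off 0 1 := H78.altOn_mono (by decide) hσ
    have m2 : σ ∈ off 6 7 := H78.altOn_mono (by decide) hσ
    have cc : Commute (d2 0 6 1 7 : P) σ :=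
      H78.commute_of_mem_symOn (X := {0, 1, 6, 7}) (Y := {2, 3, 4, 5, 8, 9}) (by decide)
        (H78.mem_symOn.2 (by decide)) hσ.1
    have e : ev (cf k ψ) (p * σ * p⁻¹) = ev (cf k ψ) σ := by
      rw [← ap σ m2, al_eq co m1, eps σ m1, cc.eq, mul_inv_cancel_right]
    have := H7.AA.ev_inj (fa k).inj (spc p (sgn hσ)) (sgn hσ) e
    exact mul_inv_eq_iff_eq_mul.1 this
  -- the action of `τ` in the second frame
  obtain ⟨r, hr⟩ := (fa k).act τ (by rw [e1]; exact (Commute.refl τ).mul_right cy)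
  have r1 : p⁻¹ * r * p = 1 ∨ p⁻¹ * r * p = swap 6 7 := by
    refine F.c8 6 7 (by decide) _ fun σ hσ => ?_
    have := hr.comm_perm (fa k).inj (spc p (sgn hσ)) (by
      rw [← ap σ hσ]; exact H7.AA.KA_ev tauK σ)
    calc p⁻¹ * r * p * σ = p⁻¹ * (r * (p * σ * p⁻¹)) * p := by group
      _ = σ * (p⁻¹ * r * p) := by rw [this]; group
  have r2 : (swap 6 7)⁻¹ * r = 1 ∨ (swap 6 7)⁻¹ * r = swap 0 1 := by
    refine F.c8 0 1 (by decide) _ fun σ hσ => ?_
    have m : swap 6 7 * σ * (swap 6 7)⁻¹ ∈ off 0 1 :=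
      F.sw 0 1 (by decide) _ (show (swap 6 7 * swap 0 1 : P) = swap 0 1 * swap 6 7 by decide) σ hσ
    have e : ev (cf k ψ) (r * σ * r⁻¹) = ev (cf k ψ) (swap 6 7 * σ * (swap 6 7)⁻¹) := by
      rw [← hr σ (sgn hσ), eps σ hσ, eps _ m, co.d1.ac _ (spc _ (sgn hσ))]
      congr 1
      have : (swap 0 1 * d2 0 6 1 7 : P) = d2 0 6 1 7 * swap 6 7 := by decide
      calc swap 0 1 * (d2 0 6 1 7 * σ * (d2 0 6 1 7)⁻¹) * (swap 0 1)⁻¹
          = (swap 0 1 * d2 0 6 1 7) * σ * (swap 0 1 * d2 0 6 1 7 : P)⁻¹ := by group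
        _ = _ := by rw [this]; group
    have := H7.AA.ev_inj (fa k).inj (spc r (sgn hσ)) (spc _ (sgn hσ)) e
    calc (swap 6 7)⁻¹ * r * σ = (swap 6 7)⁻¹ * (r * σ * r⁻¹) * r := by group
      _ = σ * ((swap 6 7)⁻¹ * r) := by rw [this]; group
  have r3 : r = swap 6 7 ∨ r = swap 6 7 * swap 0 1 := by
    rcases r2 with e | e
    · exact Or.inl (inv_mul_eq_one.1 e).symm
    · exact Or.inr (inv_mul_eq_iff_eq_mul.1 e)
  have r4 : p⁻¹ * r * p = swap 6 7 := by
    refine r1.resolve_left fun e => ?_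
    have : r = 1 := by
      calc r = p * (p⁻¹ * r * p) * p⁻¹ := by group
        _ = 1 := by rw [e]; group
    rcases r3 with e' | e' <;> rw [this] at e' <;> revert e' <;> decide
  have r5 : r = swap 6 7 := by
    refine r3.resolve_right fun e => ?_
    have := congrArg sign r4
    rw [show p⁻¹ * r * p = p⁻¹ * r * p⁻¹⁻¹ by rw [inv_inv], H7.AA.sign_conj', e] at this
    revert this
    decide
  have pc : p * swap 6 7 = swap 6 7 * p := by
    rw [r5] at r4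
    calc p * swap 6 7 = p * (p⁻¹ * swap 6 7 * p) := by rw [r4]
      _ = swap 6 7 * p := by group
  have p01 : ∀ i : Fin 10, swap 6 7 i = i → i ∉ ({2, 3, 4, 5, 8, 9} : Finset (Fin 10)) →
      d2 6 2 7 3 (p i) = p i := fun i h1 h2 => by
    have f1 : swap 6 7 (p i) = p i := by
      have := congrArg (fun q : P => q i) pc
      simp only [Equiv.Perm.mul_apply, h1] at this
      exact this.symm
    have f2 : p i ∉ ({2, 3, 4, 5, 8, 9} : Finset (Fin 10)) := fun m =>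
      h2 (by rw [← p.injective (pf _ m)]; exact m)
    revert f1 f2
    generalize p i = j
    revert j
    decide
  have cv : Commute (d2 6 2 7 3 : P) (p * c3 4 0 1 * p⁻¹) := by
    rw [H78.c3_conj]
    exact H78.commute_c3_of_fixed (by rw [pf 4 (by decide)]; decide) (p01 0 (by decide) (by decide))
      (p01 1 (by decide) (by decide))
  have ev1 : ev ψ v = ev (cf k ψ) (d2 6 2 7 3) := by
    rw [eps _ (H78.mem_altOn.2 (by decide))]
    congr 1
    decide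
  rw [ev1, ap _ (H78.mem_altOn.2 (by decide))]
  exact H7.AA.ev_comm (by decide) (spc p (by decide)) cv.eq

/-- The even permutations whose image commutes with `x`. -/
def cS (χ : Al →* G) (x : G) : Subgroup P where
  carrier := {σ | sign σ = 1 ∧ Commute x (ev χ σ)}
  one_mem' := ⟨by simp, by rw [H7.AA.ev_one]; exact Commute.one_right _⟩
  mul_mem' := fun {a b} ha hb =>
    ⟨by rw [map_mul, ha.1, hb.1, mul_one], by rw [H7.AA.ev_mul ha.1 hb.1]; exact ha.2.mul_right hb.2⟩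
  inv_mem' := fun {a} ha =>
    ⟨by rw [map_inv, ha.1, inv_one], by rw [H7.AA.ev_inv ha.1]; exact ha.2.inv_right⟩

theorem sA (F : FF) (fr : Fr ψ t) (fa : ∀ g : G, Fr (cf g ψ) (g * t * g⁻¹)) (co : Co ψ t τ h) :
    ∀ σ ∈ A8, Commute (ev ψ v) (ev (cf h ψ) σ) := by
  have m0 : c3 4 0 1 ∈ cS (cf h ψ) (ev ψ v) := ⟨by decide, key F fr fa co⟩
  have mB : ∀ σ ∈ B6, σ ∈ cS (cf h ψ) (ev ψ v) := fun σ hσ => by
    refine ⟨sgn hσ, ?_⟩
    rw [al_eq co (H78.altOn_mono (by decide) hσ)]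
    exact H7.AA.ev_comm (by decide) (sgn hσ)
      (H78.commute_of_mem_symOn (X := {0, 1, 2, 3}) (Y := {0, 1, 2, 3}ᶜ) disjoint_compl_right
        (H78.mem_symOn.2 (by decide)) hσ.1).eq
  have mc : ∀ b : P, b ∈ B6 → ∀ c : P, b * c3 4 0 1 * b⁻¹ = c → c ∈ cS (cf h ψ) (ev ψ v) :=
    fun b hb c e => e ▸ mul_mem (mul_mem (mB b hb) m0) (inv_mem (mB b hb))
  have le : A8 ≤ cS (cf h ψ) (ev ψ v) := by
    refine H78.altOn_le_of_c3 (u := 0) (v := 1) (by decide) fun i hi h0 h1 => ?_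
    have : i = 4 ∨ i = 5 ∨ i = 6 ∨ i = 7 ∨ i = 8 ∨ i = 9 := by
      revert i
      decide
    rcases this with rfl | rfl | rfl | rfl | rfl | rfl
    · exact m0
    · exact mc (c3 4 5 6) (H78.mem_altOn.2 (by decide)) _ (by decide)
    · exact mc (c3 4 6 5) (H78.mem_altOn.2 (by decide)) _ (by decide)
    · exact mc (c3 4 7 5) (H78.mem_altOn.2 (by decide)) _ (by decide)
    · exact mc (c3 4 8 5) (H78.mem_altOn.2 (by decide)) _ (by decide)
    · exact mc (c3 4 9 5) (H78.mem_altOn.2 (by decide)) _ (by decide)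
  exact fun σ hσ => (le hσ).2

theorem nw : NwStmt.{u} := by
  intro F G _ _ ψ t fr fa τ h co
  have sw : sign w = 1 := by decide
  have sv : sign v = 1 := by decide
  have cw : Commute τ (ev ψ w) := co.d1.ac.comm sw (by decide)
  exact
    { u2 := by rw [← H7.AA.ev_mul sw sw, show w * w = 1 by decide, H7.AA.ev_one]
      ut := cw.symm
      ua := H7.AA.acts_cj.2 co.hw
      s2 := by rw [← H7.AA.ev_mul sv sv, show v * v = 1 by decide, H7.AA.ev_one]
      su := H7.AA.ev_comm sv sw (by decide)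
      st := by
        rw [fr.cls τ _ co.d1.cm co.d1.ac v sv,
          show v * swap 0 1 * v⁻¹ * (swap 0 1)⁻¹ = w by decide, cw.eq]
      sA := sA F fr fa co
      dt := co.d1.cm.symm
      du := H7.AA.KA_ev fr.tK _
      ds := H7.AA.KA_ev fr.tK _
      da := da F fr co
      nu := fun c => fr.nl _ (co.d1.cj.trans c)
      ns := fun c => fr.nl _ (co.d1.cj.trans c) }

end Cfsg.Agent.H80.HtNW
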