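import Cfsg.Agent.H50.DerDefs

/-! Pieces RED and LIN0 of the derangement index bound. -/

set_option autoImplicit false

namespace Cfsg.Agent.H80.DerRed

open Cfsg.Agent.H50.Der MulAction

universe u

theorem fpf_inj {M V : Type u} [Group M] [CommGroup V] [MulDistribMulAction M V] (x : M)
    (hx : ∀ v : V, x • v = v → v = 1) (z w : V) (h : z⁻¹ * x • z = w⁻¹ * x • w) : z = w := by
  have h1 : x • (z * w⁻¹) = z * w⁻¹ := by
    rw [smul_mul', smul_inv']
    have h2 : x • z = z * (w⁻¹ * x • w) := by rw [← h]; group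
    rw [h2]; group
  have := hx _ h1
  exact mul_inv_eq_one.1 this

theorem red : RedStmt.{u} := by
  intro M V _ _ _ _ _ E U Z _ hf hc hZ hb ht
  classical
  have hu : ∀ c : M ⧸ E, ∃ u ∈ U, (u : M ⧸ E) = c := by
    intro c
    obtain ⟨g, rfl⟩ := QuotientGroup.mk_surjective c
    obtain ⟨u, hu, h⟩ := hc g
    exact ⟨u, hu, QuotientGroup.eq.2 h⟩
  choose u huU huc using hu
  have hne : ∀ c d : M ⧸ E, (u c)⁻¹ * u d ∈ E → c = d := by
    intro c d h
    rw [← huc c, ← huc d]
    exact QuotientGroup.eq.2 h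
  have hcard : Nat.card (Option (M ⧸ E)) = E.index + 1 := by
    rw [Finite.card_option]; rfl
  have h1 : E.index + 1 ≤ Nat.card Z := by
    obtain ⟨v, hv, hv1⟩ : ∃ v ∈ Z, v ≠ 1 := by
      by_contra hn
      push Not at hn
      exact hb ((Subgroup.eq_bot_iff_forall _).2 hn)
    let f : Option (M ⧸ E) → Z := fun o =>
      match o with
      | none => 1
      | some c => ⟨u c • v, hZ _ (huU c) v hv⟩
    have h0 : ∀ c, u c • v ≠ 1 := by
      intro c h
      apply hv1
      have : (u c)⁻¹ • u c • v = 1 := by rw [h, smul_one]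
      rwa [inv_smul_smul] at this
    have hf' : Function.Injective f := by
      rintro (_ | c) (_ | d) h
      · rfl
      · exact absurd (congrArg Subtype.val h).symm (h0 d)
      · exact absurd (congrArg Subtype.val h) (h0 c)
      · have h2 : u c • v = u d • v := congrArg Subtype.val h
        have h3 : ((u c)⁻¹ * u d) • v = v := by
          rw [mul_smul, ← h2, inv_smul_smul]
        by_cases he : (u c)⁻¹ * u d ∈ E
        · rw [hne c d he]
        · exact absurd (hf _ he v h3) hv1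
    rw [← hcard]
    exact Nat.card_le_card_of_injective f hf'
  have h2 : E.index + 1 ≤ Nat.card (V ⧸ Z) := by
    obtain ⟨s, hs⟩ : ∃ s, s ∉ Z := by
      by_contra hn
      push Not at hn
      exact ht ((Subgroup.eq_top_iff' _).2 hn)
    let f : Option (M ⧸ E) → V ⧸ Z := fun o =>
      match o with
      | none => 1
      | some c => ((u c • s : V) : V ⧸ Z)
    have h0 : ∀ c, ((u c • s : V) : V ⧸ Z) ≠ 1 := by
      intro c h
      apply hs
      have h3 := hZ _ (U.inv_mem (huU c)) _ ((QuotientGroup.eq_one_iff _).1 h)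
      rwa [inv_smul_smul] at h3
    have hf' : Function.Injective f := by
      rintro (_ | c) (_ | d) h
      · rfl
      · exact absurd h.symm (h0 d)
      · exact absurd h (h0 c)
      · have h2 : (u c • s)⁻¹ * u d • s ∈ Z := QuotientGroup.eq.1 h
        have h3 := hZ _ (U.inv_mem (huU c)) _ h2
        rw [smul_mul', smul_inv', inv_smul_smul, ← mul_smul] at h3
        by_cases he : (u c)⁻¹ * u d ∈ E
        · rw [hne c d he]
        · exfalso
          have hxU : (u c)⁻¹ * u d ∈ U := U.mul_mem (U.inv_mem (huU c)) (huU d)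
          generalize (u c)⁻¹ * u d = x at h3 he hxU
          let φ : Z → Z := fun z => ⟨(z : V)⁻¹ * x • (z : V),
            Z.mul_mem (Z.inv_mem z.2) (hZ x hxU _ z.2)⟩
          have hi : Function.Injective φ := by
            intro z w h
            exact Subtype.ext (fpf_inj x (hf x he) _ _ (congrArg Subtype.val h))
          obtain ⟨z, hz⟩ := Finite.surjective_of_injective hi ⟨_, h3⟩
          have h4 : (z : V) = s := fpf_inj x (hf x he) _ _ (congrArg Subtype.val hz)
          exact hs (h4 ▸ z.2)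
    rw [← hcard]
    exact Nat.card_le_card_of_injective f hf'
  rw [Subgroup.card_eq_card_quotient_mul_card_subgroup Z, sq]
  exact Nat.mul_le_mul h2 h1

theorem lin (a : LinAStmt.{u}) (b : LinBStmt.{u}) (o : LinOStmt.{u}) (e : LinEStmt.{u}) :
    LinStmt.{u} := by
  intro M V _ _ _ _ _ E hE hf hfa hco ⟨y0, hy0E, hy01, v, hv1, hyv⟩
  classical
  -- a power of prime order
  have ho : orderOf y0 ≠ 1 := fun h => hy01 (orderOf_eq_one_iff.1 h)
  obtain ⟨r, hr, hro⟩ := Nat.exists_prime_and_dvd ho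
  haveI : Fact r.Prime := ⟨hr⟩
  have hpos : orderOf y0 ≠ 0 := (orderOf_pos y0).ne'
  obtain ⟨y, hyE, hyo, hyv'⟩ : ∃ y ∈ E, orderOf y = r ∧ y • v = v := by
    refine ⟨y0 ^ (orderOf y0 / r), E.pow_mem hy0E _, orderOf_pow_orderOf_div hpos hro, ?_⟩
    exact (stabilizer M v).pow_mem (mem_stabilizer_iff.2 hyv) _
  have hy1 : y ≠ 1 := by
    rintro rfl
    rw [orderOf_one] at hyo
    exact hr.one_lt.ne hyo
  have hrE : r ∣ Nat.card E := by
    rw [← hyo]
    exact E.orderOf_dvd_natCard hyE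
  have hrV : ¬ r ∣ Nat.card V := by
    intro h
    exact hr.one_lt.ne' (Nat.eq_one_of_dvd_coprimes hco h hrE)
  -- a Sylow subgroup of `E` containing `y`
  have hp : IsPGroup r (Subgroup.zpowers (⟨y, hyE⟩ : E)) := by
    apply IsPGroup.of_card (n := 1)
    rw [Nat.card_zpowers, pow_one, ← hyo, Subgroup.orderOf_mk]
  obtain ⟨P, hP⟩ := hp.exists_le_sylow
  let R0 : Subgroup M := (P : Subgroup E).map E.subtype
  let U : Subgroup M := Subgroup.normalizer (R0 : Set M)
  have hsup : U ⊔ E = ⊤ := Sylow.normalizer_sup_eq_top P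
  have hcov : Cov E U := by
    intro g
    have hg : g ∈ ((U ⊔ E : Subgroup M) : Set M) := by rw [hsup]; trivial
    rw [Subgroup.mul_normal] at hg
    obtain ⟨x, hx, t, ht, rfl⟩ := hg
    exact ⟨x, hx, by simpa using ht⟩
  have hR0p : IsPGroup r R0 := P.isPGroup'.map _
  have hR0E : R0 ≤ E := Subgroup.map_subtype_le _
  have hR0U : R0 ≤ U := Subgroup.le_normalizer
  have hR0n : Nm U R0 := fun m hm z hz => (Subgroup.mem_normalizer_iff.1 hm z).1 hz
  have hyR : y ∈ R0 := ⟨⟨y, hyE⟩, hP (Subgroup.mem_zpowers _), rfl⟩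
  by_cases hirr : ∀ Z : Subgroup V, (∀ u ∈ U, ∀ v ∈ Z, u • v ∈ Z) → Z = ⊥ ∨ Z = ⊤
  swap
  · push Not at hirr
    obtain ⟨Z, hZ, hb, ht⟩ := hirr
    exact red M V E U Z hE hf hcov hZ hb ht
  obtain ⟨R, hR⟩ := exists_minimal_of_wellFoundedLT
    (fun S : Subgroup M => S ≤ R0 ∧ Nm U S ∧ ∃ y ∈ S, y ≠ 1 ∧ ∃ v : V, v ≠ 1 ∧ y • v = v)
    ⟨R0, le_rfl, hR0n, y, hyR, hy1, v, hv1, hyv'⟩
  obtain ⟨h1, h2, h3⟩ := hR.prop
  have hlc : LC V E U R r :=
    { nE := hE, fpf := hf, faith := hfa, cov := hcov, pr := hr, cop := hrV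
      pg := hR0p.to_le h1, RE := h1.trans hR0E, RU := h1.trans hR0U, nR := h2, irr := hirr
      ns := h3
      mn := by
        intro S hS hn z hz w hw hzw
        by_contra hz1
        exact hS.not_ge (hR.le_of_le ⟨hS.le.trans h1, hn, z, hz, hz1, w, hw, hzw⟩ hS.le) }
  by_cases hcm : Cm R
  · exact a M V E U R r hlc hcm
  · have hbs := b M V E U R r hlc hcm
    by_cases h2 : r = 2
    · subst h2
      exact e M V E U R hlc hbs
    · exact o M V E U R r hlc hbs h2

end Cfsg.Agent.H80.DerRed
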