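import Cfsg.Agent.H56.HLDefs

/-! Project HL, piece B5a. -/

set_option autoImplicit false
set_option linter.unusedSectionVars false

namespace Cfsg.Agent.H80.HlB5a

open MulAction Subgroup Cfsg.Agent.H83 Cfsg.Agent.H56.TT Cfsg.Agent.H56.HL
open scoped Cfsg.Agent.H63

universe u v

variable {G : Type u} [Group G] {Ω : Type v} [MulAction G Ω] {NN : Ω → Subgroup G} {q : ℕ}
  {E F V : Subgroup G} {p p' : Ω}

theorem vx_le (hV : Vx (NN p) q V) (h : p' ∈ Fx Ω V) : V ≤ UU NN p p' := fun x hx =>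
  mem_UU (hV.le hx) (h hx) (Is2.of_sq (hV.sq x hx))

variable (h : St NN q) (bk : BK NN q)
include h

theorem vx_fix (hV : Vx (NN p) q V) : p ∈ Fx Ω V := hV.le.trans (h.fix p)

include bk

theorem eq_UU (hEF : Adj (NN p) q E F) (hp : p ≠ p') (h1 : p' ∈ Fx Ω E) (h2 : p' ∈ Fx Ω F) :
    UU NN p p' = E ⊔ F := by
  obtain ⟨E', F', a, e, -⟩ := bk p p' hp
  refine ((h.kit p).l3.fb hEF).syl.max _ (UU_le NN p p') ?_
    (sup_le (vx_le hEF.vl h1) (vx_le hEF.vr h2))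
  rw [e]
  exact ((h.kit p).l3.fb a).syl.isPGroup

theorem eq_fix {y : Ω} (hp : p ≠ p') (hy : p ≠ y) (h1 : UU NN p y ≤ stabilizer G p') :
    UU NN p p' = UU NN p y := by
  obtain ⟨E', F', a, e, -⟩ := bk p y hy
  rw [e] at h1 ⊢
  exact eq_UU h bk a hp (le_sup_left.trans h1) (le_sup_right.trans h1)

theorem fixt (hEF : Adj (NN p) q E F) {t : G} (ht : t ∈ E ⊓ F) (h1 : t ≠ 1) {y : Ω}
    (hy : t • y = y) : y ∈ Fx Ω E ∨ y ∈ Fx Ω F := by
  by_cases e : p = y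
  · exact Or.inl (e ▸ vx_fix h hEF.vl)
  obtain ⟨E', F', a, e', -⟩ := bk p y e
  have h2 := hEF.vl.sq t ht.1
  have h3 : t ∈ E' ⊔ F' := e' ▸ mem_UU (hEF.vl.le ht.1) hy (Is2.of_sq h2)
  have h4 : E' ⊔ F' ≤ stabilizer G y := e' ▸ UU_le_stab NN p y
  rcases ((h.kit p).l3.fb a).inv t h3 h2 with h5 | h5
  · rcases (h.kit p).ka.inZ hEF ht h1 a.vl h5 with rfl | rfl
    exacts [Or.inl (le_sup_left.trans h4), Or.inr (le_sup_left.trans h4)]
  · rcases (h.kit p).ka.inZ hEF ht h1 a.vr h5 with rfl | rfl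
    exacts [Or.inl (le_sup_right.trans h4), Or.inr (le_sup_right.trans h4)]

/-- every flag is some `UU p y` -/
theorem flag (hEF : Adj (NN p) q E F) : ∃ y, p ≠ y ∧ UU NN p y = E ⊔ F := by
  obtain ⟨b, hb⟩ : ∃ b, p ≠ b := by
    obtain ⟨x, y, hxy⟩ := h.nt
    by_cases e : p = x
    · exact ⟨y, e ▸ hxy⟩
    · exact ⟨x, e⟩
  obtain ⟨E', F', a, e, -⟩ := bk p b hb
  have key : ∀ {X Y}, Adj (NN p) q X Y → Same (NN p) E' X → ∃ y, p ≠ y ∧ UU NN p y = X ⊔ Y := by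
    intro X Y hXY hs
    obtain ⟨g, hg, e1, e2⟩ := (h.kit p).ka.flagTr a hXY hs
    have hgp : g • p = p := h.fix p hg
    refine ⟨g • b, fun e' => hb (MulAction.injective g (hgp.trans e')), ?_⟩
    conv_lhs => rw [← hgp]
    rw [← h.cj_UU, e, cj_sup, e1, e2]
  rcases ((h.kit p).l3.fa hEF).two E' a.vl with hs | hs
  · exact key hEF hs.symm
  · rw [sup_comm]
    exact key hEF.symm hs.symm

/-- a point fixed by `F` and by the neighbour `X`, not by the neighbour `E` -/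
theorem exists_pt {X : Subgroup G} (hE : Adj (NN p) q E F) (hX : Adj (NN p) q X F) (hne : X ≠ E) :
    ∃ y, p ≠ y ∧ UU NN p y = X ⊔ F ∧ y ∈ Fx Ω F ∧ y ∉ Fx Ω E := by
  obtain ⟨y, hy, e⟩ := flag h bk hX
  refine ⟨y, hy, e, le_sup_right.trans (e ▸ UU_le_stab NN p y), fun h1 => ?_⟩
  rcases (h.kit p).ka.inU hX hE.vl (e ▸ vx_le hE.vl h1) with h2 | h2
  exacts [hne h2.symm, hE.ne h2]

omit bk in
theorem alpha (us : USym NN) (hV : Vx (NN p) q V) (h1 : p' ∈ Fx Ω V) : Vx (NN p') q V := by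
  by_cases e : p = p'
  · exact e ▸ hV
  exact ⟨(vx_le hV h1).trans ((us p p' e).le.trans (UU_le NN p' p)), hV.sq, hV.card⟩

end Cfsg.Agent.H80.HlB5a

namespace Cfsg.Agent.H80.HlB5a

open MulAction Subgroup Cfsg.Agent.H83 Cfsg.Agent.H56.TT Cfsg.Agent.H56.HL
open scoped Cfsg.Agent.H63

universe u v

theorem b5a : B5aStmt.{u, v} := by
  intro G Ω _ _ _ _ _ NN q h bk us
  obtain ⟨a, b, hab⟩ := h.nt
  obtain ⟨E, F, hEF, -, -⟩ := bk a b hab
  obtain ⟨t, ht, ht1⟩ := hEF.exists_ne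
  obtain ⟨M, hM, hMF, -⟩ := (h.kit a).ka.third hEF.symm hEF.symm
  obtain ⟨x, -, -, hxE, hxF⟩ := exists_pt h bk hEF.symm hM hMF
  have hEx := alpha h us hEF.vl hxE
  obtain ⟨M', hM'⟩ := (h.kit x).ka.nbr hEx
  obtain ⟨F1, hF1, htF1⟩ := ((h.kit x).l3.fa hM').cov t ht.1 ht1
  have hD : ∀ y, y ∈ Fx Ω F → y ∉ Fx Ω E → y ∈ Fx Ω F1 := fun y h1 h2 =>
    (fixt h bk hF1 ⟨ht.1, htF1⟩ ht1 (h1 ht.2)).resolve_left h2
  have two : ∀ x y p : Ω, x ≠ y → UU NN x y ≤ stabilizer G p → p = x ∨ p = y := by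
    intro x0 y0 p0 h0 hp0
    by_contra hn
    push Not at hn
    obtain ⟨X, hX, hXE, -⟩ := (h.kit a).ka.third hEF hEF
    obtain ⟨y, hay, -, hyF, hyE⟩ := exists_pt h bk hEF hX hXE
    obtain ⟨g, g1, g2⟩ := h.two x0 y0 y a h0 hay.symm
    have h1 : UU NN y a ≤ stabilizer G (g • p0) := by
      rw [← g1, ← g2, ← h.cj_UU, ← cj_stab]
      exact cj_mono g hp0
    have h2 : y ≠ g • p0 := fun e => hn.1 (MulAction.injective g (e.symm.trans g1.symm))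
    have h3 : a ≠ g • p0 := fun e => hn.2 (MulAction.injective g (e.symm.trans g2.symm))
    generalize g • p0 = y' at h1 h2 h3
    have h4 : y' ∈ Fx Ω F :=
      (vx_le (alpha h us hEF.vr hyF) (vx_fix h hEF.vr)).trans h1
    have h5 : y' ∉ Fx Ω E := fun h5 => by
      have h6 := eq_fix h bk h3 hay (us a y hay ▸ h1)
      exact hyE ((vx_le hEF.vl h5).trans (h6.le.trans (UU_le_stab NN a y)))
    have h6 : a ∈ Fx Ω F1 := by
      have h7 := vx_le (alpha h us hF1.vr (hD y hyF hyE)) (hD y' h4 h5)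
      rw [eq_fix h bk h2 hay.symm h1] at h7
      exact h7.trans (UU_le_stab NN y a)
    rcases (h.kit a).ka.inZ hEF ht ht1 (alpha h us hF1.vr h6) htF1 with e | e
    · exact hF1.ne e.symm
    · exact hxF (e ▸ vx_fix h hF1.vr)
  refine ⟨?_, two⟩
  by_contra hq
  have h2 := (h.kit a).l3.two_le
  have hnb := ((h.kit a).l3.fa hEF).nb
  have hfin : ({X | Adj (NN a) q X F} \ {E}).Finite :=
    (Set.finite_of_ncard_ne_zero (by omega)).diff
  have hc : 2 < ({X | Adj (NN a) q X F} \ {E}).ncard := by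
    rw [Set.ncard_diff_singleton_of_mem (show E ∈ {X | Adj (NN a) q X F} from hEF), hnb]
    omega
  obtain ⟨X1, ⟨a1, b1⟩, X2, ⟨a2, b2⟩, X3, ⟨a3, b3⟩, d1, d2, d3⟩ := (Set.two_lt_ncard hfin).1 hc
  obtain ⟨y1, -, e1, f1, g1⟩ := exists_pt h bk hEF a1 b1
  obtain ⟨y2, -, e2, f2, g2⟩ := exists_pt h bk hEF a2 b2
  obtain ⟨y3, -, e3, f3, g3⟩ := exists_pt h bk hEF a3 b3
  have ne : ∀ {X Y y y'}, Adj (NN a) q X F → Adj (NN a) q Y F → X ≠ Y → UU NN a y = X ⊔ F →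
      UU NN a y' = Y ⊔ F → y ≠ y' := by
    intro X Y y y' hX hY hXY e e' hy
    subst hy
    rcases (h.kit a).ka.inU hX hY.vl (le_sup_left.trans (e'.symm.trans e).le) with k | k
    exacts [hXY k.symm, hY.ne k]
  have hadj : Adj (NN y1) q F F1 := by
    refine ⟨alpha h us hEF.vr f1, alpha h us hF1.vr (hD _ f1 g1), fun e => ?_, fun e => ht1 ?_⟩
    · exact hxF (e ▸ vx_fix h hF1.vr)
    · exact mem_bot.1 (e ▸ (⟨ht.2, htF1⟩ : t ∈ F ⊓ F1))
  have k := eq_UU h bk hadj (ne a1 a2 d1 e1 e2) f2 (hD _ f2 g2)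
  rcases two y1 y2 y3 (ne a1 a2 d1 e1 e2) (k ▸ sup_le f3 (hD _ f3 g3)) with e | e
  · exact ne a1 a3 d2 e1 e3 e.symm
  · exact ne a2 a3 d3 e2 e3 e.symm

end Cfsg.Agent.H80.HlB5a
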