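import Cfsg.Agent.H56.HLDefs

/-! Project HL, piece KD: overgroups of a Sylow subgroup. -/

set_option autoImplicit false

namespace Cfsg.Agent.H80.HlKD

open MulAction Subgroup Cfsg.Agent.H83 Cfsg.Agent.H56.TT Cfsg.Agent.H56.HL
open scoped Cfsg.Agent.H63

universe u

variable {G : Type u} [Group G]

theorem cj_le {K X : Subgroup G} {k : G} (hk : k ∈ K) (hX : X ≤ K) : cj k X ≤ K := by
  rintro _ ⟨x, hx, rfl⟩
  exact K.mul_mem (K.mul_mem hk (hX hx)) (K.inv_mem hk)

theorem le_of_class {N E K : Subgroup G} {q : ℕ} (hs : IsSimpleGroup N) (hE : Vx N q E)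
    (h0 : E ≠ ⊥) (h : ∀ X, Same N E X → X ≤ K) : N ≤ K := by
  let J : Subgroup G := ⨆ g : N, cj (g : G) E
  have hn : (J.subgroupOf N).Normal := by
    refine ⟨fun x hx g => mem_subgroupOf.2 ?_⟩
    have : cj (g : G) J ≤ J := by
      refine cj_le_iff.2 (iSup_le fun a => cj_le_iff.1 ?_)
      rw [← cj_mul]
      exact le_iSup (fun g : N => cj (g : G) E) (g * a)
    exact this (conj_mem_cj (mem_subgroupOf.1 hx))
  rcases hn.eq_bot_or_eq_top with e | e
  · refine absurd (eq_bot_iff.2 fun x hx => ?_) h0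
    have h1 : (⟨x, hE.le hx⟩ : N) ∈ J.subgroupOf N :=
      mem_subgroupOf.2 (le_iSup (fun g : N => cj (g : G) E) 1 (by simpa [cj_one] using hx))
    rw [e, mem_bot] at h1
    exact congrArg Subtype.val h1
  · exact (subgroupOf_eq_top.1 e).trans (iSup_le fun g => h _ ⟨g, g.2, rfl⟩)

theorem kd : KDStmt.{u} := by
  intro G _ _ N q h ka
  refine ⟨fun {E F K} hEF h1 h2 h3 => ?_, fun {E F K} hEF h1 h2 h3 h4 => ?_⟩
  · have hE : E ≤ K := le_sup_left.trans h1
    have hF : F ≤ K := le_sup_right.trans h1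
    by_cases hc : ∀ k ∈ K, Adj N q (cj k E) F
    · by_cases hE' : K ≤ N[E]
      · exact Or.inl hE'
      obtain ⟨k0, hk0, h4⟩ := SetLike.not_le_iff_exists.1 hE'
      refine Or.inr fun k hk => cj_eq_self_iff.1 ?_
      have h5 : cj k E ≠ cj (k * k0) E := fun e => h4 (cj_eq_self_iff.1 (by
        rw [cj_mul] at e; exact (cj_inj.1 e).symm))
      refine ka.uniq h5 (hEF.cj (le_normalizer (h2 hk))) ?_ (hc k hk) (hc _ (K.mul_mem hk hk0))
      rw [cj_mul]
      exact (hc k0 hk0).cj (le_normalizer (h2 hk))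
    push Not at hc
    obtain ⟨k, hk, h4⟩ := hc
    have s0 : Same N E (cj k E) := ⟨k, h2 hk, rfl⟩
    have l0 : cj k E ≤ K := cj_le hk hE
    generalize cj k E = X0 at h4 s0 l0
    have k1 : ∀ X, Same N E X → ¬ Adj N q X F → X ≤ K := fun X hX hn => by
      obtain ⟨f, hf, rfl⟩ := (h.fc hEF).trF X0 X s0 hX h4 hn
      exact cj_le (hF hf) l0
    refine absurd (le_antisymm h2 (le_of_class h.simple hEF.vl (fun e => hEF.inf (by simp [e]))
      fun Y hY => ?_)) h3
    by_cases hA : Adj N q Y F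
    swap
    · exact k1 Y hY hA
    have h5 : Y ≠ X0 := fun e => h4 (e ▸ hA)
    obtain ⟨M, m1, m2⟩ := (h.fa hEF).join Y X0 hY s0 h5
    obtain ⟨W, w1, w2, w3⟩ := ka.third m1 m2
    have h6 : W ≤ K := k1 W (hY.trans (ka.sameAdj m1 w1)) fun hW =>
      h4 (ka.uniq w2 w1 m1 hW hA ▸ m2)
    obtain ⟨e, he, rfl⟩ := (h.fc m2).trE W Y w1 m1 w3 h5
    exact cj_le (l0 he) h6
  · obtain ⟨k, hk, h5⟩ := SetLike.not_le_iff_exists.1 h4
    have hF : F ≤ K := le_sup_right.trans h1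
    have h6 : Adj N q (cj k F) E := by
      have := hEF.symm.cj (le_normalizer (h2 hk))
      rwa [cj_eq_self (h3 hk)] at this
    refine SS_le fun M hM => ?_
    by_cases e : M = F
    · exact e ▸ hF
    obtain ⟨f, hf, rfl⟩ := (h.fc hEF.symm).trE _ M h6 hM (fun e => h5 (cj_eq_self_iff.1 e)) e
    exact cj_le (hF hf) (cj_le hk hF)

end Cfsg.Agent.H80.HlKD
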