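import Cfsg.Agent.H56.ZCDefs
import Cfsg.Agent.H6.ZStar

/-!
# A doubly transitive group has no such family of subgroups (`Zc1bStmt`)
-/

set_option autoImplicit false

namespace Cfsg.Agent.H80.Zc1b

open Subgroup Cfsg.Agent.H56.FS Cfsg.Agent.H56.ZC
open scoped commutatorElement

universe u v

variable {H : Type u} [Group H]

theorem cent_cj {g x : H} {W : Subgroup H} (h : g⁻¹ * x * g ∈ centralizer (W : Set H)) :
    x ∈ centralizer (cj g W : Set H) := fun w hw => by
  have := h _ (mem_cj.1 hw)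
  calc w * x = g * (g⁻¹ * w * g * (g⁻¹ * x * g)) * g⁻¹ := by group
    _ = g * (g⁻¹ * x * g * (g⁻¹ * w * g)) * g⁻¹ := by rw [this]
    _ = x * w := by group

theorem char_cases {N : Subgroup H} (hN : MinN N) (K : Subgroup N) [K.Characteristic] :
    K = ⊥ ∨ K = ⊤ := by
  haveI := hN.1
  rcases hN.2.2 (K.map N.subtype) inferInstance (map_subtype_le K) with e | e
  · exact Or.inl ((map_eq_bot_iff_of_injective K N.subtype_injective).1 e)
  · refine Or.inr (map_injective N.subtype_injective ?_)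
    rw [e, ← MonoidHom.range_eq_map, range_subtype]

theorem not_solv {N : Subgroup H} (hN : MinN N) (hna : ¬ IsMulCommutative N) :
    ¬ Group.IsSolvable N := fun hs => by
  haveI : Nontrivial N := (nontrivial_iff_ne_bot N).2 hN.2.1
  rcases char_cases hN (_root_.commutator N) with e | e
  · refine hna ⟨⟨fun a b => ?_⟩⟩
    have : ⁅a, b⁆ ∈ _root_.commutator N := commutator_mem_commutator (mem_top a) (mem_top b)
    rw [e, mem_bot, commutatorElement_eq_one_iff_mul_comm] at this
    exact this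
  · exact (Group.IsSolvable.commutator_lt_top_of_nontrivial N).ne e

theorem map_cj_sub {N : Subgroup H} [N.Normal] (g : H) (A : Subgroup N) :
    (A.map (MulAut.conjNormal g : N ≃* N).toMonoidHom).map N.subtype = cj g (A.map N.subtype) := by
  rw [map_map, cj, map_map]
  rfl

theorem map_cj_sub' {N : Subgroup H} (g : N) (A : Subgroup N) :
    (cj g A).map N.subtype = cj (g : H) (A.map N.subtype) := by
  rw [map_map, cj, map_map]
  rfl

theorem zc1b (l : LineStmt.{u}) (zt : ZtStmt.{u}) : Zc1bStmt.{u, v} := by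
  intro H _ _ Γ _ _ _ h2 b N hN hna p W hp hW hWN hWp hWb hbW hz
  haveI := hN.1
  have prim := MulAction.isPreprimitive_of_is_two_pretransitive h2
  have hco : IsCoatom (MulAction.stabilizer H b) :=
    MulAction.IsPreprimitive.isCoatom_stabilizer_of_isPreprimitive H b
  have hc : N ⊓ MulAction.stabilizer H b ≤ centralizer (W : Set H) := fun x hx w hw => by
    by_cases e : w = 1
    · simp [e]
    · rw [← hz w hw e] at hx
      exact (mem_Ce.1 hx.2).symm
  have hWW : W ≤ centralizer (W : Set H) := (le_inf hWN hWb).trans hc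
  have comm_of : ∀ K : Subgroup H, K ≤ centralizer (K : Set H) → IsMulCommutative K :=
    fun K hK => ⟨⟨fun a b => Subtype.ext (hK b.2 a a.2)⟩⟩
  have hnW : normalizer (W : Set H) = MulAction.stabilizer H b := by
    by_contra e
    have := normalizer_eq_top_iff.1 (hco.2 _ (lt_of_le_of_ne hbW (Ne.symm e)))
    rcases hN.2.2 W this hWN with e | e
    exacts [hW e, hna (comm_of N (e ▸ hWW))]
  have hcj : ∀ g g' : H, cj g W = cj g' W ↔ g • b = g' • b := fun g g' => by
    have : cj g W = cj g' W ↔ cj (g'⁻¹ * g) W = W := by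
      rw [← cj_cj]
      exact ⟨fun e => by rw [e, cj_inv_cj], fun e => by rw [← cj_cj_inv g' (cj g W), e]⟩
    rw [this, cj_eq_iff, hnW, MulAction.mem_stabilizer_iff, mul_smul, inv_smul_eq_iff]
  set S : Set (Subgroup H) := {W' | ∃ g, W' = cj g W} with hS
  have s1 : ∀ A ∈ S, ∀ g : H, cj g A ∈ S := by
    rintro _ ⟨g', rfl⟩ g
    exact ⟨_, cj_cj _ _ _⟩
  have WS : W ∈ S := ⟨1, (cj_one W).symm⟩
  have s2 : ∀ A ∈ S, A ≤ N := by
    rintro _ ⟨g, rfl⟩
    exact cj_le_of_norm (by rw [normalizer_eq_top]; trivial) hWN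
  have s3 : ∀ A ∈ S, A ≠ ⊥ := by
    rintro _ ⟨g, rfl⟩ e
    exact hW (card_eq_one.1 (by rw [← card_cj g, e, card_bot]))
  have s4 : ∀ A ∈ S, ∀ x ∈ A, x ^ p = 1 := by
    rintro _ ⟨g, rfl⟩ x hx
    have := hWp _ (mem_cj.1 hx)
    rw [show g⁻¹ * x * g = g⁻¹ * x * g⁻¹⁻¹ by rw [inv_inv], conj_pow] at this
    exact conj_eq_one_iff.1 this
  have s5 : ∀ A ∈ S, A ≤ centralizer (A : Set H) := by
    rintro _ ⟨g, rfl⟩ x hx
    exact cent_cj (hWW (mem_cj.1 hx))
  have nN : ∀ g x : H, x ∈ N → g⁻¹ * x * g ∈ N := fun g x hx => hN.1.conj_mem' x hx g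
  have s6 : ∀ A ∈ S, N ⊓ normalizer (A : Set H) ≤ centralizer (A : Set H) := by
    rintro _ ⟨g, rfl⟩ x hx
    refine cent_cj (hc (mem_inf.2 ⟨nN g x hx.1, ?_⟩))
    have := cj_eq_iff.2 hx.2
    rw [cj_cj, hcj] at this
    rw [MulAction.mem_stabilizer_iff, mul_assoc, mul_smul, this, inv_smul_smul]
  have s6' : ∀ A ∈ S, ∀ z ∈ A, z ≠ 1 → N ⊓ Ce z ≤ centralizer (A : Set H) := by
    rintro _ ⟨g, rfl⟩ z hz' z1 x hx
    refine cent_cj (hc ?_)
    rw [← hz _ (mem_cj.1 hz') (fun e => z1 (by
      calc z = g * (g⁻¹ * z * g) * g⁻¹ := by group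
        _ = 1 := by rw [e]; group))]
    refine ⟨nN g x hx.1, mem_Ce.2 ?_⟩
    calc g⁻¹ * x * g * (g⁻¹ * z * g) = g⁻¹ * (x * z) * g := by group
      _ = g⁻¹ * (z * x) * g := by rw [mem_Ce.1 hx.2]
      _ = _ := by group
  have s8 : ∀ A ∈ S, ∀ B ∈ S, ∀ A' ∈ S, ∀ B' ∈ S, A ≠ B → A' ≠ B' →
      ∃ g : H, cj g A = A' ∧ cj g B = B' := by
    rintro _ ⟨a, rfl⟩ _ ⟨c, rfl⟩ _ ⟨a', rfl⟩ _ ⟨c', rfl⟩ e e'
    obtain ⟨g, g1, g2⟩ := MulAction.is_two_pretransitive_iff.1 h2 (mt (hcj a c).2 e)
      (mt (hcj a' c').2 e')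
    exact ⟨g, by rw [cj_cj, hcj, mul_smul, g1], by rw [cj_cj, hcj, mul_smul, g2]⟩
  have hsup : sSup S = N := by
    refine (hN.2.2 _ ?_ (sSup_le s2)).resolve_left fun e => hW (le_bot_iff.1 (e ▸ le_sSup WS))
    refine normalizer_eq_top_iff.1 (eq_top_iff.2 fun g _ => cj_eq_iff.1 ?_)
    have key : ∀ g : H, cj g (sSup S) ≤ sSup S := fun g => by
      rw [cj, map_le_iff_le_comap]
      exact sSup_le fun A hA => map_le_iff_le_comap.1 (le_sSup (s1 A hA g))
    refine le_antisymm (key g) ?_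
    conv_lhs => rw [← cj_cj_inv g (sSup S)]
    exact cj_mono g (key g⁻¹)
  have s7 : ∀ A ∈ S, ∀ B ∈ S, A ≠ B → A ⊓ normalizer (B : Set H) = ⊥ := by
    intro A hA B hB e
    rw [eq_bot_iff]
    intro z hz'
    by_contra z1
    have h1 : B ≤ centralizer (A : Set H) := fun x hx => s6' A hA z hz'.1 z1
      ⟨s2 B hB hx, mem_Ce.2 (s6 B hB ⟨s2 A hA hz'.1, hz'.2⟩ x hx)⟩
    refine hna (comm_of N ?_)
    rw [← hsup]
    refine sSup_le fun B' hB' => le_centralizer_iff.1 (sSup_le fun A' hA' => ?_)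
    by_cases e' : B' = A'
    · exact e' ▸ s5 B' hB'
    · obtain ⟨g, rfl, rfl⟩ := s8 A hA B hB B' hB' A' hA' e e'
      exact fun x hx => cent_cj (h1 (mem_cj.1 hx))
  have other : ∀ A ∈ S, ∃ B ∈ S, A ≠ B := by
    rintro _ ⟨a, rfl⟩
    obtain ⟨c, hc⟩ := exists_ne (a • b)
    obtain ⟨g, rfl⟩ := MulAction.exists_smul_eq H b c
    exact ⟨_, ⟨g, rfl⟩, fun e => hc ((hcj _ _).1 e).symm⟩
  have L := l H N hN.1 p hp S s1 s2 s3 s4 s5 s6 s7 s8
  have hcard : ∀ A ∈ S, Nat.card A = p := fun A hA => by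
    obtain ⟨B, hB, e⟩ := other A hA
    exact (L A hA B hB e).1
  by_cases p2 : p = 2
  · subst p2
    obtain ⟨z, z1, hu⟩ := (Nat.card_eq_two_iff' (1 : W)).1 (hcard W WS)
    have z1' : (z : H) ≠ 1 := fun e => z1 (Subtype.ext e)
    have hzW : ∀ w ∈ W, w = 1 ∨ w = z := fun w hw => by
      by_cases e : w = 1
      exacts [Or.inl e, Or.inr (congrArg Subtype.val (hu ⟨w, hw⟩ fun e' => e
        (congrArg Subtype.val e')))]
    have oz : orderOf (⟨z, hWN z.2⟩ : N) = 2 := by
      rw [← orderOf_coe]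
      exact orderOf_eq_prime (hWp _ z.2) z1'
    have iso : IsIsolatedInvolution (⟨z, hWN z.2⟩ : N) := ⟨oz, fun g hg => by
      have hg' : (z : H) * (g * z * (g : H)⁻¹) = g * z * (g : H)⁻¹ * z :=
        congrArg Subtype.val hg.eq
      refine Subtype.ext ?_
      change (g : H) * z * (g : H)⁻¹ = z
      by_cases e : W = cj (g : H) W
      · refine (hzW _ (e.ge (conj_mem_cj z.2))).resolve_left fun e1 => z1' ?_
        simpa using e1
      · have : (z : H) ∈ W ⊓ normalizer (cj (g : H) W : Set H) := ⟨z.2,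
          centralizer_le_normalizer _ fun w hw => by
            rcases hzW _ (mem_cj.1 hw) with e1 | e1
            · have : w = 1 := by
                calc w = g * ((g : H)⁻¹ * w * g) * (g : H)⁻¹ := by group
                  _ = 1 := by rw [e1]; group
              simp [this]
            · have : w = g * z * (g : H)⁻¹ := by rw [← e1]; group
              rw [this, hg']⟩
        rw [s7 W WS _ (s1 W WS g) e] at this
        exact (z1' this).elim⟩
    haveI := H3.pPrimeCore_characteristic 2 N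
    rcases char_cases hN (pPrimeCore 2 N) with e | e
    · obtain ⟨B, hB, e'⟩ := other W WS
      refine s3 B hB ?_
      rw [← s7 B hB W WS e'.symm]
      refine (inf_eq_left.2 fun x hx => centralizer_le_normalizer _ (s6' W WS z z.2 z1'
        ⟨s2 B hB hx, mem_Ce.2 ?_⟩)).symm
      have := H6.zstar N iso ⟨x, s2 B hB hx⟩
      rw [e, mem_bot] at this
      have h3 : (z : H) * x * (z : H)⁻¹ * x⁻¹ = 1 := congrArg Subtype.val this
      calc x * z = ((z : H) * x * (z : H)⁻¹ * x⁻¹)⁻¹ * (z * x) := by group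
        _ = z * x := by rw [h3]; group
    · have := H3.pPrimeCore_coprime 2 N
      rw [e, card_top] at this
      have h3 := orderOf_dvd_natCard (⟨z, hWN z.2⟩ : N)
      rw [oz] at h3
      exact absurd (Nat.Coprime.eq_one_of_dvd this.symm h3) (by decide)
  · refine not_solv hN hna (zt N p hp p2 {B | B.map N.subtype ∈ S} (fun A hA => ?_)
      (fun A hA g => ?_) ?_ (fun A hA x hx => ?_) (fun A hA B hB => ?_)
      fun A hA B hB A' hA' B' hB' e e' => ?_)
    · rw [← hcard _ hA, card_map_of_injective N.subtype_injective]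
    · change _ ∈ S
      rw [map_cj_sub']
      exact s1 _ hA _
    · refine map_injective N.subtype_injective (le_antisymm (map_mono le_top) ?_)
      rw [← MonoidHom.range_eq_map, range_subtype]
      conv_lhs => rw [← hsup]
      refine sSup_le fun A hA => ?_
      have e := map_subgroupOf_eq_of_le (s2 A hA)
      rw [← e]
      exact map_mono (le_sSup (by change _ ∈ S; rw [e]; exact hA))
    · have := s6 _ hA (x := x) ⟨x.2, cj_eq_iff.1 (by rw [← map_cj_sub', cj_eq_iff.2 hx])⟩
      exact fun a ha => Subtype.ext (this a (mem_map_of_mem _ ha))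
    · have hs : Group.IsSolvable ↥(A.map N.subtype ⊔ B.map N.subtype) := by
        by_cases e : A.map N.subtype = B.map N.subtype
        · rw [← e, sup_idem]
          haveI := comm_of _ (s5 _ hA)
          exact Group.isSolvable_of_comm fun a b => mul_comm' a b
        · exact (L _ hA _ hB e).2
      rw [← Subgroup.map_sup] at hs
      exact Group.isSolvable_of_isSolvable_injective
        (f := (equivMapOfInjective _ _ N.subtype_injective).toMonoidHom) (MulEquiv.injective _)
    · obtain ⟨g, g1, g2⟩ := s8 _ hA _ hB _ hA' _ hB'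
        (fun e1 => e (map_injective N.subtype_injective e1))
        (fun e1 => e' (map_injective N.subtype_injective e1))
      exact ⟨MulAut.conjNormal g, map_injective N.subtype_injective (by rw [map_cj_sub, g1]),
        map_injective N.subtype_injective (by rw [map_cj_sub, g2])⟩

end Cfsg.Agent.H80.Zc1b
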