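import Cfsg.Agent.H6.E82Defs

/-! The eigenvalue multiplicities of an element of order `65` on the simple modules of
`SL₂(64)`. -/

set_option autoImplicit false

namespace Cfsg.Agent.H80.E82Eigx

open Finset Module Cfsg.Agent.H82 Cfsg.Agent.H50.SL2S Cfsg.Agent.H6.E82
open scoped MatrixGroups

/-- An independent spanning family of eigenvectors counts the multiplicities. -/
theorem finrank_inf_eig {k W ι : Type*} [Field k] [AddCommGroup W] [Module k W] [Fintype ι]
    (f : Module.End k W) (v : ι → W) (μ : ι → k) (hv : LinearIndependent k v)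
    (h : ∀ j, f (v j) = μ j • v j) (η : k) (q : ι → Prop) [DecidablePred q]
    (hq : ∀ j, μ j = η ↔ q j) :
    finrank k (Submodule.span k (Set.range v) ⊓ f.eigenspace η : Submodule k W) =
      (univ.filter q).card := by
  have e : (Submodule.span k (Set.range v) ⊓ f.eigenspace η : Submodule k W) =
      Submodule.span k (Set.range fun j : {j // q j} => v j) := by
    refine le_antisymm ?_ (Submodule.span_le.2 ?_)
    · rintro x ⟨h1, h2⟩
      obtain ⟨c, rfl⟩ := (Submodule.mem_span_range_iff_exists_fun k).1 h1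
      have h3 := Module.End.mem_eigenspace_iff.1 h2
      have h4 := Fintype.linearIndependent_iff.1 hv (fun j => c j * (μ j - η)) (by
        simp only [map_sum, map_smul, h, smul_smul, smul_sum] at h3
        simp only [mul_sub, sub_smul, sum_sub_distrib, h3, mul_comm η, sub_self])
      refine Submodule.sum_mem _ fun j _ => ?_
      by_cases hj : q j
      · exact Submodule.smul_mem _ _ (Submodule.subset_span ⟨⟨j, hj⟩, rfl⟩)
      · rw [(mul_eq_zero.1 (h4 j)).resolve_right fun e => hj ((hq j).1 (sub_eq_zero.1 e)), zero_smul]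
        exact Submodule.zero_mem _
    · rintro _ ⟨j, rfl⟩
      exact ⟨Submodule.subset_span ⟨j, rfl⟩,
        Module.End.mem_eigenspace_iff.2 (by rw [h, (hq j).2 j.2])⟩
  rw [e, finrank_span_eq_card (b := fun j : {j // q j} => v j) (hv.comp _ Subtype.val_injective),
    Fintype.card_subtype]

section
variable {F k : Type*} [Field F] [Field k] (ι : F →+* k) [Fintype F] (p : ℕ)
  [CharP k p] {g : SL(2, F)} {θ η : k} (h1 : θ * η = 1) (h2 : θ + η = ι (g 0 0 + g 1 1))
  (h3 : ∀ a, ι a ≠ θ)
include h1 h2 h3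

theorem exists_basis {r : ℕ} (hr : r < Fintype.card F) : ∃ v : JJ p r → SL(2, F) → k,
    LinearIndependent k v ∧ Submodule.span k (Set.range v) = Sp k (cc ι) (dd ι) r ∧
      ∀ j, RR k g (v j) = (θ ^ (r - j) * η ^ (j : ℕ)) • v j := by
  classical
  have hd := congrArg ι (SL2_det g)
  simp only [map_sub, map_mul, map_one, map_add] at hd h2
  set a := ι (g 0 0)
  set b := ι (g 0 1)
  have hθ : θ ≠ 0 := left_ne_zero_of_mul_eq_one h1
  have hb : b ≠ 0 := fun e => by
    have : (θ - a) * (θ - ι (g 1 1)) = 0 := by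
      rw [e] at hd
      linear_combination θ * h2 - h1 + hd
    rcases mul_eq_zero.1 this with h | h
    exacts [h3 _ (sub_eq_zero.1 h).symm, h3 _ (sub_eq_zero.1 h).symm]
  have hne : η - θ ≠ 0 := fun e => by
    have : (θ - 1) * (θ + 1) = 0 := by linear_combination h1 - θ * e
    rcases mul_eq_zero.1 this with h | h
    exacts [h3 1 (by rw [map_one]; linear_combination -h),
      h3 (-1) (by rw [map_neg, map_one]; linear_combination -h)]
  set X := b • cc ι + (θ - a) • dd ι with hX
  set Y := b • cc ι + (η - a) • dd ι with hY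
  have eX : RR k g X = θ • X := by
    rw [hX, RR_lin, smul_add, smul_smul, smul_smul]
    congr 2
    · ring
    · linear_combination -θ * h2 + h1 - hd
  have eY : RR k g Y = η • Y := by
    rw [hY, RR_lin, smul_add, smul_smul, smul_smul]
    congr 2
    · ring
    · linear_combination -η * h2 + h1 - hd
  have e1 : Sp k X Y r ≤ Sp k (cc ι) (dd ι) r := Sp_le_Sp r hX hY
  have e2 : Sp k (cc ι) (dd ι) r ≤ Sp k X Y r :=
    Sp_le_Sp r (x := (η - a) / (b * (η - θ))) (y := -(θ - a) / (b * (η - θ)))
      (z := -1 / (η - θ)) (w := 1 / (η - θ))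
      (by rw [hX, hY]; match_scalars <;> field_simp <;> ring)
      (by rw [hX, hY]; match_scalars <;> field_simp <;> ring)
  have hX0 : ∀ t, X (ww F * uu t) ≠ 0 := fun t => by
    simp only [hX, cc, dd, Pi.add_apply, Pi.smul_apply, ent, ent2, map_one, smul_eq_mul, mul_one]
    intro e
    by_cases ht : t = 0
    · exact hb (by simpa [ht] using e)
    · have : ι t ≠ 0 := by simpa using ht
      refine h3 (g 0 0 - g 0 1 / t) ?_
      rw [map_sub, map_div₀]
      field_simp
      linear_combination -e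
  refine ⟨fun j => X ^ (r - j) * Y ^ (j : ℕ), ?_, le_antisymm (Submodule.span_le.2 ?_) ?_,
    fun j => ?_⟩
  · refine Fintype.linearIndependent_iff.2 fun m hm j => ?_
    let z : F → k := fun t => Y (ww F * uu t) / X (ww F * uu t)
    have hz : Function.Injective z := fun s t e => by
      rw [div_eq_div_iff (hX0 s) (hX0 t)] at e
      simp only [hX, hY, cc, dd, Pi.add_apply, Pi.smul_apply, ent, ent2, map_one, smul_eq_mul,
        mul_one] at e
      refine ι.injective (mul_left_cancel₀ (mul_ne_zero hb hne) ?_)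
      linear_combination e
    have := vand hz (⊥ : Submodule k k) (fun j => if h : j ∈ JJ p r then m ⟨j, h⟩ else 0) hr
      (fun t => ?_) j (by simpa [Nat.lt_succ_iff] using (mem_filter.1 j.2).1)
    · rwa [Submodule.mem_bot, dif_pos j.2] at this
    · have e := congrFun hm (ww F * uu t)
      simp only [Finset.sum_apply, Pi.smul_apply, Pi.mul_apply,
        Pi.pow_apply, smul_eq_mul, Pi.zero_apply] at e
      rw [Submodule.mem_bot, ← sum_subset (show JJ p r ⊆ _ from filter_subset _ _)
        (fun j _ hj => by rw [dif_neg hj, smul_zero]), ← sum_coe_sort]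
      refine mul_left_cancel₀ (pow_ne_zero r (hX0 t)) ?_
      rw [mul_zero, mul_sum]
      refine (sum_congr rfl fun j _ => ?_).trans e
      have hj : (j : ℕ) ≤ r := by simpa [Nat.lt_succ_iff] using (mem_filter.1 j.2).1
      have := hX0 t
      rw [dif_pos j.2, smul_eq_mul, div_pow, ← pow_sub_mul_pow _ hj]
      field_simp
  · rintro _ ⟨j, rfl⟩
    have := mem_filter.1 j.2
    exact e1 (mono_mem ι.injective hr p (fun t => by simpa using mem_Sp X Y r 1 (ι t))
      (by simpa [Nat.lt_succ_iff] using this.1) this.2)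
  · exact e2.trans (Sp_le p fun j hj hp => Submodule.subset_span
      ⟨⟨j, mem_filter.2 ⟨by simpa [Nat.lt_succ_iff] using hj, hp⟩⟩, rfl⟩)
  · rw [map_mul, map_pow, map_pow, eX, eY, _root_.smul_pow, _root_.smul_pow, smul_mul_smul_comm]

end

theorem par_aux : ∀ r < 64, ∀ j < r + 1,
    (¬ 2 ∣ r.factorial / (j.factorial * (r - j).factorial) ↔ j &&& r = j) := by
  decide +kernel

theorem JJ_eq {r : ℕ} (hr : r < 64) : JJ 2 r = JS r :=
  filter_congr fun j hj => by
    have h := mem_range.1 hj
    rw [Nat.choose_eq_factorial_div_factorial (Nat.lt_succ_iff.1 h)]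
    exact par_aux r hr j h

theorem eigx (hP : ParStmt) : EigxStmt := by
  intro p r hr e he
  have hθ : IsPrimitiveRoot (p.θ : K) 65 := IsPrimitiveRoot.coe_units_iff.2 p.hθ
  have hi : ((p.θ⁻¹ : Kˣ) : K) = (p.θ : K) ^ 64 := by
    rw [← Units.val_pow_eq_pow_val, inv_eq_of_mul_eq_one_right (by
      rw [← pow_succ']; exact p.hθ.pow_eq_one)]
  obtain ⟨v, h1, h2, h3⟩ := exists_basis p.κ 2 (g := x0 p) (θ := (p.θ : K))
    (η := ((p.θ⁻¹ : Kˣ) : K)) p.θ.mul_inv (by rw [← p.hτ]; simp [x0]) (hP.2 p).2.2.1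
    (r := r) (by rw [card_F]; exact hr)
  rw [dm, SP, ← h2, finrank_inf_eig (reg (x0 p)) v _ h1 h3 _
    (fun j => (r + (65 - 2) * (j : ℕ)) % 65 = e) fun j => ?_, EE, ← JJ_eq hr, card_filter,
    card_filter, sum_coe_sort (JJ 2 r) fun j => if (r + (65 - 2) * j) % 65 = e then 1 else 0]
  have hj : (j : ℕ) ≤ r := by simpa [Nat.lt_succ_iff] using (mem_filter.1 j.2).1
  have e1 : (p.θ : K) ^ (r - j) * ((p.θ⁻¹ : Kˣ) : K) ^ (j : ℕ) =
      (p.θ : K) ^ ((r + (65 - 2) * (j : ℕ)) % 65) := by
    rw [hi, ← pow_mul, ← pow_add, ← pow_eq_pow_mod _ hθ.pow_eq_one]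
    congr 1
    omega
  rw [e1]
  exact ⟨hθ.pow_inj (Nat.mod_lt _ (by decide)) he, fun h => by rw [h]⟩

end Cfsg.Agent.H80.E82Eigx
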