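/-
The spin cover of the Eichler group of a quadratic form in odd characteristic.
-/
import Cfsg.Agent.H80.FrameLift
import Cfsg.Agent.H26.PC1Geo

set_option autoImplicit false

namespace Cfsg.Agent.H80

open Cfsg.Agent.H26 Cfsg.Agent.H26.PForm Cfsg.Agent.H30 Subgroup CliffordAlgebra QuadraticMap
open scoped commutatorElement

universe u

variable {F V : Type u} [Field F] [AddCommGroup V] [Module F V] [Finite F] [FiniteDimensional F V]
  {Q : QuadraticForm F V} (hQ : (polarBilin Q).Nondegenerate)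

/-- The spin group. -/
def spinE : Subgroup ((ofQuad Q hQ).E × (CliffordAlgebra Q)ˣ) where
  carrier := {z | (∀ w, involute z.2.1 * ι Q w = ι Q (z.1.1 w) * z.2.1) ∧ z.2.1 * reverse z.2.1 = 1}
  one_mem' := ⟨fun w => by simp, by simp⟩
  mul_mem' := by
    rintro ⟨g, x⟩ ⟨h, y⟩ ⟨hx, hx'⟩ ⟨hy, hy'⟩
    refine ⟨fun w => ?_, ?_⟩
    · change involute (x.1 * y.1) * _ = ι Q (g.1 (h.1 w)) * (x.1 * y.1)
      rw [map_mul, mul_assoc, hy, ← mul_assoc, hx, mul_assoc]
    · change x.1 * y.1 * reverse (x.1 * y.1) = 1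
      rw [reverse.map_mul, mul_assoc, ← mul_assoc y.1, hy', one_mul, hx']
  inv_mem' := by
    rintro ⟨g, x⟩ ⟨hx, hx'⟩
    refine ⟨fun w => ?_, ?_⟩
    · change involute (x⁻¹).1 * _ = ι Q (g.1⁻¹ w) * (x⁻¹).1
      have h1 := hx (g.1⁻¹ w)
      rw [apply_inv_apply] at h1
      rw [Units.eq_mul_inv_iff_mul_eq, mul_assoc, ← h1, ← mul_assoc, ← map_mul, Units.inv_mul,
        map_one, one_mul]
    · change (x⁻¹).1 * reverse (x⁻¹).1 = 1
      rw [Units.inv_eq_of_mul_eq_one_right hx', reverse_reverse,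
        ← Units.inv_eq_of_mul_eq_one_right hx', Units.inv_mul]

omit [Finite F] in
include hQ in
theorem exists_scalar_of_rel {x : CliffordAlgebra Q} (hx : ∀ w, involute x * ι Q w = ι Q w * x)
    (hx' : x * reverse x = 1) : x = 1 ∨ x = -1 := by
  obtain ⟨r, rfl⟩ := exists_algebraMap_of_contractLeft (x := x) (fun d => by
    obtain ⟨w, rfl⟩ : ∃ w, polarBilin Q w = d :=
      (LinearMap.BilinForm.toDual (polarBilin Q) hQ).surjective d
    rw [contractLeft_polar, hx, sub_self])
  have := clifford_nontrivial Q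
  rw [reverse.commutes, ← map_mul, map_eq_one_iff _ (algebraMap F _).injective,
    mul_self_eq_one_iff] at hx'
  rcases hx' with h | h <;> simp [h]

omit [FiniteDimensional F V] in
theorem exists_rel (g : (ofQuad Q hQ).E) : ∃ x : CliffordAlgebra Q,
    (∀ w, involute x * ι Q w = ι Q (g.1 w) * x) ∧ x * reverse x = 1 := by
  refine E_induction (p := fun g => ∃ x : CliffordAlgebra Q,
    (∀ w, involute x * ι Q w = ι Q (g w) * x) ∧ x * reverse x = 1) (fun e y ν h => ?_)
    ⟨1, fun w => by simp, by simp⟩ ?_ g.2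
  · obtain ⟨x, h1, h2⟩ := spinRel_eich (Q := Q) e y
    refine ⟨x, fun w => ?_, by simpa using h2⟩
    rw [h1, H30.eich_apply h.sing h.orth', EV.equiv_apply, PForm.eich_apply, sub_eq_zero.1 h.nu]
    congr 2
    change _ = w + polar Q w e • y - (1 * (polar Q w y + Q y * polar Q w e)) • e
    module
  · rintro g k - - ⟨x, hx, hx'⟩ ⟨y, hy, hy'⟩
    refine ⟨x * y, fun w => ?_, ?_⟩
    · rw [map_mul, mul_assoc, hy, ← mul_assoc, hx, mul_assoc, mul_apply']
    · rw [reverse.map_mul, mul_assoc, ← mul_assoc y, hy', one_mul, hx']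

theorem isUnit_of_rel {g : (ofQuad Q hQ).E} {x : CliffordAlgebra Q}
    (hx : ∀ w, involute x * ι Q w = ι Q (g.1 w) * x) (hx' : x * reverse x = 1) : IsUnit x := by
  obtain ⟨y, hy, hy'⟩ := exists_rel hQ g⁻¹
  have h := exists_scalar_of_rel hQ (x := y * x) (fun w => by
    rw [map_mul, mul_assoc, hx, ← mul_assoc, hy, mul_assoc]
    congr 2
    exact inv_apply_apply _ _)
    (by rw [reverse.map_mul, mul_assoc, ← mul_assoc x, hx', one_mul, hy'])
  rcases h with h | h
  · exact ⟨⟨x, reverse x, hx', by rw [← left_inv_eq_right_inv h hx', h]⟩, rfl⟩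
  · have h' : -y * x = 1 := by rw [neg_mul, h, neg_neg]
    exact ⟨⟨x, reverse x, hx', by rw [← left_inv_eq_right_inv h' hx', h']⟩, rfl⟩

/-- The spin cover. -/
theorem exists_spin (h2 : (2 : F) ≠ 0) {a b c : V} (ha : Q a = 1) (hb : Q b = 1) (hc : Q c = 1)
    (hab : polar Q a b = 0) (hac : polar Q a c = 0) (hbc : polar Q b c = 0)
    (h3 : 3 ≤ Module.finrank F V) :
    ∃ (S : Type u) (_ : Group S) (_ : Finite S) (π : S →* (ofQuad Q hQ).E),
      Cfsg.IsStemExtension π ∧ 2 ≤ Nat.card π.ker := by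
  let π : spinE hQ →* (ofQuad Q hQ).E := (MonoidHom.fst _ _).comp (spinE hQ).subtype
  let z : spinE hQ := ⟨(1, -1), fun w => by simp, by simp⟩
  have hk : ∀ x ∈ π.ker, x = 1 ∨ x = z := fun x hx => by
    have h1 : x.1.1 = 1 := hx
    refine (exists_scalar_of_rel hQ (x := x.1.2.1) (fun w => by simpa [h1] using x.2.1 w) x.2.2).imp
      (fun e => Subtype.ext (Prod.ext h1 (Units.ext e))) fun e => Subtype.ext (Prod.ext h1 (Units.ext e))
  have := Module.finite_of_finite F (M := V)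
  have : Finite π.ker := Finite.of_surjective (fun b : Bool => if b then (⟨z, rfl⟩ : π.ker) else 1)
    fun x => (hk x x.2).elim (fun e => ⟨false, Subtype.ext e.symm⟩) fun e => ⟨true, Subtype.ext e.symm⟩
  have hz : z ≠ 1 := fun e => by
    have := clifford_nontrivial Q
    have h1 : (-1 : CliffordAlgebra Q) = 1 := congrArg (fun x : spinE hQ => x.1.2.1) e
    refine h2 ((algebraMap F (CliffordAlgebra Q)).injective ?_)
    rw [map_zero, map_ofNat, ← one_add_one_eq_two, add_eq_zero_iff_neg_eq, h1]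
  have key : ∀ v, Q v = 1 → ∃ x : spinE hQ, x.1.2.1 = ι Q a * ι Q v := fun v hv => by
    have e : ∀ v, Q v = 1 → ∀ w, involute (ι Q v) * ι Q w = ι Q ((refl Q v).1 w) * ι Q v := by
      intro v hv w
      rw [involute_ι, refl_apply, hv, inv_one, one_mul, map_sub, map_smul, sub_mul, smul_mul_assoc,
        ι_sq_scalar, hv, map_one, Algebra.smul_def, mul_one, ← ι_mul_ι_add_swap]
      noncomm_ring
    let g : (ofQuad Q hQ).E := ⟨_, refl_mul_refl_mem_E hQ h3 (ha ▸ one_ne_zero) (ha.trans hv.symm)⟩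
    have e1 : ∀ w, involute (ι Q a * ι Q v) * ι Q w = ι Q (g.1 w) * (ι Q a * ι Q v) := fun w => by
      rw [map_mul, mul_assoc, e v hv, ← mul_assoc, e a ha, mul_assoc]; rfl
    have e2 : ι Q a * ι Q v * reverse (ι Q a * ι Q v) = 1 := by
      rw [reverse.map_mul, reverse_ι, reverse_ι, mul_assoc, ← mul_assoc (ι Q v), ι_sq_scalar, hv,
        map_one, one_mul, ι_sq_scalar, ha, map_one]
    obtain ⟨u, hu⟩ := isUnit_of_rel hQ e1 e2
    exact ⟨⟨(g, u), hu ▸ e1, hu ▸ e2⟩, hu⟩
  have inj : ∀ x : spinE hQ, x.1.2.1 = -1 → x = z := fun x hx => by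
    refine Subtype.ext (Prod.ext (Subtype.ext (LinearEquiv.ext fun w => ?_)) (Units.ext hx))
    have h1 := x.2.1 w
    simp only [hx, map_neg, map_one, neg_mul, mul_neg, one_mul, mul_one, neg_inj] at h1
    rw [← sub_eq_zero]
    refine H30.eq_zero_of_polar hQ fun y => ?_
    have h4 := congrArg (contractLeft (Q := Q) (polarBilin Q y)) h1
    have := clifford_nontrivial Q
    rw [contractLeft_ι, contractLeft_ι] at h4
    have h5 := (algebraMap F (CliffordAlgebra Q)).injective h4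
    simp only [polarBilin_apply_apply] at h5
    rw [polar_sub_left, polar_comm, ← h5, polar_comm]
    exact sub_self _
  refine ⟨spinE hQ, inferInstance, π.finite_iff_finite_ker_range.2 ⟨‹_›, inferInstance⟩, π,
    ⟨fun g => ?_, fun x hx => ?_, fun x hx => ?_⟩, ?_⟩
  · obtain ⟨x, h1, h4⟩ := exists_rel hQ g
    obtain ⟨u, rfl⟩ := isUnit_of_rel hQ h1 h4
    exact ⟨⟨(g, u), h1, h4⟩, rfl⟩
  · rcases hk x hx with rfl | rfl
    · exact one_mem _
    · exact mem_center_iff.2 fun y => Subtype.ext (Prod.ext (by simp [z]) (by simp [z]))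
  · rcases hk x hx with rfl | rfl
    · exact one_mem _
    obtain ⟨x, hx⟩ := key b hb
    obtain ⟨y, hy⟩ := key c hc
    have e : ∀ {u v : V}, polar Q u v = 0 → ι Q v * ι Q u = -(ι Q u * ι Q v) := fun h => by
      rw [eq_neg_iff_add_eq_zero, ι_mul_ι_add_swap, polar_comm, h, map_zero]
    have e1 : x.1.2 * y.1.2 = -(y.1.2 * x.1.2) := Units.ext (by
      rw [Units.val_neg, Units.val_mul, Units.val_mul, hx, hy, mul_assoc, mul_assoc,
        ← mul_assoc (ι Q b), ← mul_assoc (ι Q c), e hab, e hac, neg_mul, neg_mul, mul_assoc,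
        mul_assoc, e hbc]
      simp)
    rw [← inj ⁅x, y⁆ (by
      change (x.1.2 * y.1.2 * x.1.2⁻¹ * y.1.2⁻¹).1 = -1
      simp [e1])]
    exact commutator_mem_commutator (mem_top _) (mem_top _)
  · have : Nontrivial π.ker := ⟨⟨⟨z, rfl⟩, 1, fun e => hz (congrArg Subtype.val e)⟩⟩
    exact Finite.one_lt_card

end Cfsg.Agent.H80
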