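/-
The Schur multipliers of the orthogonal groups: the frame level.
-/
import Cfsg.Agent.H80.Spin
import Cfsg.Agent.H80.FrameEven

set_option autoImplicit false

namespace Cfsg.Agent.H80

open Cfsg.Agent.H34 Cfsg.Agent.H78 Cfsg.Agent.H26 Cfsg.Agent.H26.PForm Subgroup Equiv
open Cfsg.Agent.H78.Frame
open scoped commutatorElement MatrixGroups

universe u

section general

variable {F V : Type*} [Field F] [AddCommGroup V] [Module F V] {P : PForm F V} {n : ℕ}
  {Fr : Frame P n}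

theorem isPerfect_E [FiniteDimensional F V] {d : Prop} (hX : BCX d (XE Fr)) (hn : 3 ≤ n) :
    Group.IsPerfect P.E := by
  have h1 : ∀ b c : BI n, b.1 ≠ c.1 → XE Fr b c ≤ commutator P.E := fun b c h z hz => by
    obtain ⟨a, h2, h3⟩ := exists_fst3 hn b c
    obtain ⟨x, -, y, -, rfl⟩ := (hX.tri a b c h2 h3 h).exists_eq hz
    exact commutator_mem_commutator (mem_top _) (mem_top _)
  have h2 : ∀ a b : BI n, b ≠ ng a → XE Fr a b ≤ commutator P.E := fun j b h z hz => by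
    by_cases e : j = b
    · subst e
      obtain ⟨i, hi⟩ := exists_fst2 (by omega) j
      obtain ⟨x, hx, h3⟩ := hX.ne j (ng i) hi.symm
      obtain ⟨y, -, h4⟩ := hX.l1 i j hi x hx h3 z hz
      exact inv_mem_iff.1 ((mul_mem_cancel_left
        (commutator_mem_commutator (mem_top _) (mem_top _))).1 (h1 i j hi h4))
    · exact h1 j b (fst_ne_iff.2 ⟨e, h⟩) hz
  refine ⟨eq_top_iff.2 fun g _ => ?_⟩
  obtain ⟨k, hk, e⟩ := (iSup_le fun a => iSup_le fun b => iSup_le fun h x hx =>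
    ⟨⟨x, X_le_E a b hx⟩, h2 a b h hx, rfl⟩ : _ ≤ (commutator P.E).map P.E.subtype)
    ((Fr.iSup_X (by omega)).ge g.2)
  exact (Subtype.ext e : k = g) ▸ hk

variable (P) in
/-- Forms coming from quadratic forms. -/
structure Orth : Prop where
  hε : P.ε = 1
  hσ : ∀ x, P.σ x = x
  hΛ : P.Λ = ⊥

namespace Orth

variable (h : Orth P)
include h

theorem nu {e y : V} {ν : F} (h1 : P.EV e y ν) : ν = P.h y := by
  simpa [h.hΛ, sub_eq_zero] using h1.nu

theorem f_comm (x y : V) : P.f x y = P.f y x := by rw [P.herm, h.hε, h.hσ, one_mul]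

theorem f_eq (x y : V) : P.f x y = P.h (x + y) - P.h x - P.h y := by
  have := P.h_add x y
  rw [h.hΛ, AddSubgroup.mem_bot, sub_eq_zero] at this
  exact this.symm

theorem eE_apply {e y : V} {ν : F} (h1 : P.EV e y ν) (x : V) :
    (eE P e y ν).1 x = x + P.f x e • y - (P.f x y + ν * P.f x e) • e := by
  simp [eE, eT_apply h1, h.hε]

theorem comm4 (a b : BI n) (hab : a.1 ≠ b.1) :
    ∀ x ∈ XE Fr a b, ∀ y ∈ XE Fr a (ng b), Commute x y := fun x hx y hy => by
  obtain ⟨s, rfl⟩ := (mem_XES hab x).1 hx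
  obtain ⟨s', rfl⟩ := (mem_XES (b := ng b) hab y).1 hy
  have e1 := Fr.ev_xs (ne_ng_of_fst hab.symm) s
  have e2 := Fr.ev_xs (ne_ng_of_fst (a := ng b) hab.symm) s'
  change eE P _ _ _ * eE P _ _ _ = eE P _ _ _ * eE P _ _ _
  rw [eE_mul e1 e2, eE_mul e2 e1, add_comm (s • _), h.f_comm]

theorem X_eq_bot (hV : Fr.V0 = ⊥) (a : BI n) : Fr.X a a = ⊥ := eq_bot_iff.2 fun x hx => by
  obtain ⟨w, ν, hw, h1, rfl⟩ := mem_XL.1 hx
  obtain rfl : w = 0 := by simpa [hV] using hw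
  obtain rfl : ν = 0 := by simpa [h.hΛ] using h1.mem_Λ
  exact eT_zero _

theorem mem_center_iff (hn : 2 ≤ n) {g : P.E} (hg : g ∈ HE Fr) : g ∈ center P.E ↔
    ∃ c : Fˣ, c ^ 2 = 1 ∧ (∀ i, Sc Fr g (i, false) c) ∧ ∀ w ∈ Fr.V0, g.1 w = (c : F) • w := by
  rw [mem_center_iff_sc (Fr := Fr) hn]
  constructor
  · rintro ⟨c, h1, h2⟩
    let a : BI n := (⟨0, by omega⟩, false)
    have h3 := (h1 _).unique ((h1 a).ng hg)
    rw [h.hσ] at h3
    exact ⟨Units.mk0 c (h1 a).ne_zero, Units.ext (by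
      simpa [sq] using (mul_eq_one_iff_eq_inv₀ (h1 a).ne_zero).2 h3), fun i => h1 _, h2⟩
  · rintro ⟨c, h1, h2, h3⟩
    refine ⟨c, fun ⟨i, b⟩ => ?_, h3⟩
    cases b
    · exact h2 i
    · refine ((h2 i).ng hg).congr ?_
      rw [h.hσ, ← Units.val_inv_eq_inv_val, inv_eq_of_mul_eq_one_right (sq c ▸ h1)]

end Orth

variable {K : Type*} [Field K] [Algebra F K]

variable (Fr) in
/-- The complement of the frame is a field with a norm form. -/
structure OrthK (c : K →+* K) (w : K →ₗ[F] V) : Prop extends Orth P where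
  one : ∀ a, P.f (Fr.e a) (Fr.e (ng a)) = 1
  cc : ∀ t, c (c t) = t
  fix : ∀ x : F, c (algebraMap F K x) = algebraMap F K x
  mem : ∀ v, v ∈ Fr.V0 ↔ ∃ t, w t = v
  norm : ∀ t, algebraMap F K (P.h (w t)) = t * c t

section defs

variable (Fr) (c : K →+* K) (w : K →ₗ[F] V)

/-- Root elements of the short roots of an orthogonal group. -/
noncomputable def xQ (a : BI n) (t : K) : P.E := eE P (Fr.e a) (w t) (P.h (w t))

/-- The opposite root elements. -/
noncomputable def yQ (a : BI n) (t : K) : P.E := xQ Fr w (ng a) (-c t)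

/-- The reflections. -/
noncomputable def wQ (a : BI n) (t : K) : P.E := H36.stW (xQ Fr w a) (yQ Fr c w a) t

/-- The torus elements. -/
noncomputable def hQ (a : BI n) (t : K) : P.E := H36.stH (xQ Fr w a) (yQ Fr c w a) t

end defs

namespace OrthK

variable {c : K →+* K} {w : K →ₗ[F] V} (h : OrthK Fr c w) (a : BI n)
include h

theorem w_mem (t : K) : w t ∈ Fr.V0 := (h.mem _).2 ⟨t, rfl⟩

theorem ev (t : K) : P.EV (Fr.e a) (w t) (P.h (w t)) := EV.of_h (Fr.sing a) (f_V0 (h.w_mem t) a)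

theorem N_ne {t : K} (ht : t ≠ 0) : P.h (w t) ≠ 0 := fun e =>
  mul_ne_zero ht ((map_ne_zero c).2 ht) (by rw [← h.norm, e, map_zero])

theorem polar (u t : K) : algebraMap F K (P.f (w u) (w t)) = u * c t + c u * t := by
  rw [h.f_eq, ← map_add, map_sub, map_sub, h.norm, h.norm, h.norm, map_add]; ring

theorem aniso : Fr.Aniso := fun v hv hs => by
  obtain ⟨t, rfl⟩ := (h.mem v).1 hv
  by_contra e
  exact h.N_ne (t := t) (by rintro rfl; exact e (map_zero _)) (by simpa [Sing, h.hΛ] using hs)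

theorem xQ_mem (t : K) : xQ Fr w a t ∈ XE Fr a a := eE_mem (h.w_mem t) (h.ev a t)

theorem eE_eq {u : K} {v : V} {ν : F} (h1 : P.EV (Fr.e a) v ν) (e : v = w u) :
    eE P (Fr.e a) v ν = xQ Fr w a u := by rw [h.nu h1, e]; rfl

theorem mem_xQ (g : P.E) : g ∈ XE Fr a a ↔ ∃ t, xQ Fr w a t = g := by
  refine ⟨fun hg => ?_, fun ⟨t, e⟩ => e ▸ h.xQ_mem a t⟩
  obtain ⟨v, ν, hv, h1, rfl⟩ := mem_XEL.1 hg
  obtain ⟨t, rfl⟩ := (h.mem v).1 hv
  exact ⟨t, (h.eE_eq a h1 rfl).symm⟩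

theorem xQ_add (s t : K) : xQ Fr w a (s + t) = xQ Fr w a s * xQ Fr w a t :=
  ((eE_mul (h.ev a s) (h.ev a t)).trans (h.eE_eq a ((h.ev a s).add (h.ev a t))
    (map_add _ _ _).symm)).symm

theorem xQ_inj (t : K) (e : xQ Fr w a t = 1) : t = 0 := by
  by_contra h1
  exact h.N_ne h1 (eE_eq_one (h.w_mem t) (h.ev a t) e).2

theorem X_ne_bot : Fr.X a a ≠ ⊥ := fun e => one_ne_zero (h.xQ_inj a 1 (Subtype.ext
  (mem_bot.1 (e.le (h.xQ_mem a 1)))))

theorem conj_xQ {g : P.E} {a' : BI n} {k : F} (h1 : g.1 (Fr.e a) = k • Fr.e a') {t u : K}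
    (e : k • g.1 (w t) = w u) : g * xQ Fr w a t * g⁻¹ = xQ Fr w a' u := by
  obtain ⟨h2, h3⟩ := conj_eE (h.ev a t) h1
  exact h3.trans (h.eE_eq a' h2 (by rw [h.hσ, e]))

theorem wQ_mem (t : K) : wQ Fr c w a t ∈ XE Fr a a ⊔ XE Fr (ng a) (ng a) :=
  mul_mem (mul_mem (mem_sup_left (h.xQ_mem a _)) (mem_sup_right (h.xQ_mem _ _)))
    (mem_sup_left (h.xQ_mem a _))

theorem wQ_apply {t : K} (ht : t ≠ 0) :
    (wQ Fr c w a t).1 (Fr.e a) = (-(P.h (w t))⁻¹) • Fr.e (ng a) ∧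
    (wQ Fr c w a t).1 (Fr.e (ng a)) = (-P.h (w t)) • Fr.e a ∧
    ∀ u, (wQ Fr c w a t).1 (w u) = w (-(t / c t * c u)) := by
  have k0 := h.N_ne ht
  have k1 := (map_ne_zero c).2 ht
  have k2 : w (c t)⁻¹ = (P.h (w t))⁻¹ • w t := by
    rw [← map_smul, Algebra.smul_def, map_inv₀ (algebraMap F K), h.norm]
    congr 1
    field_simp
  have k3 : P.h (w (c t)⁻¹) = (P.h (w t))⁻¹ := (algebraMap F K).injective (by
    simp only [h.norm, map_inv₀, h.cc]
    field_simp)
  have k4 : P.f (w t) (w t) = 2 * P.h (w t) := by rw [P.f_self, h.hε, h.hσ]; ring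
  have e : ∀ x, (wQ Fr c w a t).1 x =
      (xQ Fr w a t).1 ((xQ Fr w (ng a) (c t)⁻¹).1 ((xQ Fr w a t).1 x)) := fun _ => by
    rw [← map_inv₀, ← neg_neg (c _), ← map_neg c]; rfl
  have k5 : ∀ u, w (-(t / c t * c u)) = w u - (P.f (w u) (w t) / P.h (w t)) • w t := fun u => by
    rw [← map_smul, ← map_sub, Algebra.smul_def, map_div₀, h.norm, h.polar]
    congr 1
    field_simp
    ring
  have k6 : P.f (Fr.e (ng a)) (Fr.e a) = 1 := by simpa using h.one (ng a)
  simp only [e, xQ, h.eE_apply (h.ev _ _), k5]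
  simp only [k3]
  simp only [k2, f_sub_left, P.f_add_left, P.f_smul_left, f_smul_right, h.hσ, Fr.f_self, h.one, k6,
    k4, f_V0 (h.w_mem _), f_V0' (h.w_mem _)]
  refine ⟨?_, ?_, fun u => ?_⟩ <;> match_scalars <;> field_simp <;> ring

theorem wQ_mono {t : K} (ht : t ≠ 0) : Fr.Mono (wQ Fr c w a t).1 (rf a a) :=
  have := h.wQ_apply a ht
  mono_rf (mem_XE_sup.1 (h.wQ_mem a t)) ⟨_, this.1⟩ ⟨_, this.2.1⟩ ⟨_, this.2.1⟩ ⟨_, this.1⟩

theorem stRel : H36.StRel (xQ Fr w a) (yQ Fr c w a) := by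
  refine ⟨h.xQ_add a, fun s t => by rw [yQ, map_add, neg_add, h.xQ_add]; rfl, fun t u ht => ?_⟩
  rw [← mul_inv_eq_iff_eq_mul]
  refine h.conj_xQ a (h.wQ_apply a ht).1 ?_
  have k1 := (map_ne_zero c).2 ht
  erw [(h.wQ_apply a ht).2.2]
  rw [← map_smul, Algebra.smul_def]
  congr 1
  simp only [map_neg, map_inv₀, map_mul, map_pow, h.norm]
  field_simp

theorem single_hQ {t : K} (ht : t ≠ 0) : Single Fr (hQ Fr c w a t) a (P.h (w t)) ∧
    ∀ u, (hQ Fr c w a t).1 (w u) = w (t / c t * u) := by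
  have h1 : (-1 : K) ≠ 0 := by simp
  refine ⟨⟨mem_HE.2 (rf_mul_self a a ▸ (h.wQ_mono a ht).mul (h.wQ_mono a h1)), ?_, fun b hb =>
    sc_one_of_mem hb hb (mul_mem (h.wQ_mem a _) (h.wQ_mem a _))⟩, fun u => ?_⟩
  · change (wQ Fr c w a t).1 ((wQ Fr c w a (-1)).1 _) = _
    rw [(h.wQ_apply a h1).1, map_smul, (h.wQ_apply a ht).2.1, smul_smul,
      show P.h (w (-1)) = 1 from (algebraMap F K).injective (by rw [h.norm]; simp)]
    simp
  · change (wQ Fr c w a t).1 ((wQ Fr c w a (-1)).1 _) = _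
    rw [(h.wQ_apply a h1).2.2, (h.wQ_apply a ht).2.2]
    simp [h.cc]

theorem bcx : BCX True (XE Fr) := H80.bcx h.aniso (fun e => (e trivial).elim) fun _ a => h.X_ne_bot a

theorem t5_of_ne {Γ : Type*} [Group Γ] {π : Γ →* P.E} (hπ : IsCentralExt π) (a : BI n) {u : K}
    (hu : c u ≠ u) : h.bcx.T5 hπ := by
  obtain ⟨v, h0, h1⟩ : ∃ v : K, v ≠ 0 ∧ (c v) ^ 2 ≠ v ^ 2 := by
    by_contra e
    push Not at e
    have h0 : u ≠ 0 := by rintro rfl; simp at hu
    have h1 := (sq_eq_sq_iff_eq_or_eq_neg.1 (e u h0)).resolve_left hu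
    have h2 := e (u + 1) (fun e' => hu (by rw [eq_neg_of_add_eq_zero_left e']; simp))
    rw [map_add, map_one, h1] at h2
    have h3 : (2 : K) * (2 * u) = 0 := by linear_combination -h2
    refine hu ?_
    rcases mul_eq_zero.1 h3 with h4 | h4
    · linear_combination h1 - u * h4
    · linear_combination h1 - h4
  have h2 := (map_ne_zero c).2 h0
  obtain ⟨h3, h4⟩ := h.single_hQ a (div_ne_zero h0 h2)
  rw [show P.h (w (v / c v)) = 1 from (algebraMap F K).injective (by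
    rw [h.norm, map_div₀, h.cc, map_one]; field_simp)] at h3
  have h5 : ∀ b, Sc Fr (hQ Fr c w a (v / c v)) b 1 := fun b => by
    by_cases e : b.1 = a.1
    · by_cases e' : b = a
      · exact e' ▸ h3.sc
      · obtain rfl : b = ng a := by
          by_contra e''
          exact fst_ne_iff.2 ⟨Ne.symm e', e''⟩ e.symm
        simpa using h3.sc.ng h3.mem
    · exact h3.ne b e
  refine t5_of_rot h.bcx h5 fun b => (Fpf.of_scale (h.mem_xQ b) (h.xQ_add b) (h.xQ_inj b)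
    (c := v / c v / c (v / c v)) (fun e => h1 ?_) fun t => h.conj_xQ b (h5 b) ?_).surj
  · rw [map_div₀, h.cc] at e
    field_simp at e
    exact e.symm
  · rw [one_smul, h4, smul_eq_mul]

end OrthK

end general

section bound

variable {F V : Type u} [Field F] [AddCommGroup V] [Module F V] {P : PForm F V} [Finite F]
  [FiniteDimensional F V] {m : ℕ} {Fr : Frame P (m + 1)}

variable (P) in
/-- In odd characteristic there is a proper cover. -/
def HasSpin : Prop := ∃ (S : Type u) (_ : Group S) (_ : Finite S) (π : S →* P.E),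
  Cfsg.IsStemExtension π ∧ ((2 : F) ≠ 0 → 2 ≤ Nat.card π.ker)

theorem multiplier_of_spin [Group.IsPerfect P.E] (hm : 1 ≤ m) (hS : HasSpin P) {T : Type*}
    [CommGroup T] [Finite T] {θ : T →* P.E} (h1 : θ.range = HE Fr) (h2 : Bound θ) {K : Type*}
    [Field K] [Algebra F K] (ψ : T →* Kˣ) (h3 : ∀ t, θ t = 1 → ψ t ^ 2 = 1)
    (h4 : ∀ t, θ t = 1 → ψ t = 1 → t = 1) :
    Cfsg.HasSchurMultiplier (P.E ⧸ center P.E) ((QuotientGroup.mk' (center P.E)).comp θ).ker := by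
  have := Module.finite_of_finite F (M := V)
  obtain ⟨S, _, _, π, hπ, hc⟩ := hS
  refine h2.multiplier_proj (h1 ▸ center_le_HE (by omega)) hπ ?_
  have h5 : ∀ t : θ.ker, (ψ t : K) = 1 ∨ (ψ t : K) = -1 := fun t =>
    sq_eq_one_iff.1 (by simpa using congrArg Units.val (h3 t t.2))
  have h6 : ∀ s t : θ.ker, (ψ s : K) = ψ t → s = t := fun s t e => by
    rw [← mul_inv_eq_one]
    exact Subtype.ext (h4 _ (s * t⁻¹).2 (by simp [Units.ext e]))
  by_cases e : (2 : F) = 0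
  · have e' : (-1 : K) = 1 := by
      rw [neg_eq_iff_add_eq_zero, one_add_one_eq_two, ← map_ofNat (algebraMap F K), e, map_zero]
    rw [e'] at h5
    have : Subsingleton θ.ker := ⟨fun s t => h6 s t (by rw [(h5 s).elim id id, (h5 t).elim id id])⟩
    rw [Nat.card_unique]
    exact Nat.card_pos
  · classical
    refine le_trans ?_ (hc e)
    refine (Nat.card_le_card_of_injective (fun t : θ.ker => decide ((ψ t : K) = 1)) fun s t e => h6 s t ?_).trans
      (by simp)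
    rcases h5 s with h7 | h7 <;> rcases h5 t with h8 | h8 <;> simp_all

theorem OrthK.exists_multiplier {K : Type u} [Field K] [Algebra F K] [Finite K] {c : K →+* K}
    {w : K →ₗ[F] V} (h : OrthK Fr c w) (hm : 2 ≤ m) (hS : HasSpin P)
    (h3 : m = 2 → 3 < Nat.card F ∨ ∃ u, c u ≠ u) :
    ∃ (A : Type u) (_ : CommGroup A) (φ : A →* Kˣ), Function.Injective φ ∧
      (∀ t : Kˣ, t ∈ φ.range ↔ ∃ l : Fˣ, l ^ 2 = 1 ∧ (t : K) = algebraMap F K l * c t ∧
        t * c t = algebraMap F K l ^ (m + 1)) ∧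
      Cfsg.HasSchurMultiplier (P.E ⧸ center P.E) A := by
  have := Module.finite_of_finite F (M := V)
  obtain ⟨p, hp⟩ := CharP.exists F
  have : Fact p.Prime := ⟨CharP.char_is_prime F p⟩
  have : CharP K p := charP_of_injective_algebraMap (algebraMap F K).injective p
  have hn : True ∨ 2 ≤ m + 1 := Or.inl trivial
  have hd : ¬ True → ∀ a, Fr.X a a = ⊥ := fun e => (e trivial).elim
  have hd' : True → ∀ a, Fr.X a a ≠ ⊥ := fun _ a => h.X_ne_bot a
  have e1 := rdE_α h.aniso hn hd hd' 0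
  have e2 := rdE_neg_α h.aniso hn hd hd' 0
  rw [sB_zero] at e1 e2
  obtain ⟨R, hR⟩ := RD.exists_rankOne_SL2' (P := rdE h.aniso hn hd hd') (p := p) bc_Phi
    (rdE_gen h.aniso hn hd hd' (by omega)) 0 (h.stRel (0, false)) (fun t => e1 ▸ h.xQ_mem _ t)
    (fun x hx => ((h.mem_xQ _ x).1 (e1 ▸ hx)).imp fun _ e => e.symm)
    (fun x hx => by
      obtain ⟨t, rfl⟩ := (h.mem_xQ _ x).1 (e2 ▸ hx)
      exact ⟨-c t, by simp [yQ, h.cc]⟩) (h.xQ_inj _) (fun t ht => (h.single_hQ _ ht).1.mem)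
    fun j hj g hg hg' => by
      obtain ⟨j, rfl⟩ := Fin.exists_succ_eq.2 hj
      have e : ((j.succ, false) : BI (m + 1)).1 ≠ (sB hn j.succ).1 := by
        rw [sB_succ]; exact (Fin.castSucc_lt_succ (i := j)).ne'
      have h0 := fix0_of_mem (c := ng (j.succ, false)) (e := ng (sB hn j.succ)) e e hg
      obtain ⟨k, h1⟩ := exists_sc hg' (0, false)
      refine ⟨algebraMap F K k, by simpa using h1.ne_zero, fun t => h.conj_xQ _ h1 ?_,
        fun t => h.conj_xQ _ (h1.ng hg') ?_⟩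
      · rw [h0 _ (h.w_mem _), ← map_smul, Algebra.smul_def]
      · rw [h0 _ (h.w_mem _), ← map_smul, Algebra.smul_def, h.hσ, map_mul c, map_inv₀ c, h.fix,
          map_inv₀ (algebraMap F K), mul_neg]
  obtain ⟨θ, h1, h2, h4, h5⟩ := exists_bound h.aniso hn hd hd' R (units_pow_coprime K p)
    (fun Γ _ _ π h h' => exists_lift_SL2 h h' R.φ) fun Γ _ π hπ => by
      by_cases e : m = 2
      · have t5 : h.bcx.T5 hπ := by
          rcases h3 e with h3 | ⟨u, hu⟩
          · obtain ⟨t, t0, t1⟩ := exists_pow_ne_one (K := F) two_pos (exists_finset_card h3)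
            exact t5_of_sq _ t0 t1
          · exact h.t5_of_ne hπ (0, false) hu
        have t2 := h.bcx.t2_of_comm (hπ := hπ) h.comm4
        exact h.bcx.exists_bcSys_three (by omega) (fun e => (e trivial).elim)
          (h.bcx.t1_of_t5 trivial t5) t2 t5 (s0_of_prime_or _ t2 h.hσ)
      · exact exists_bcSys_four h.bcx hπ (by omega) (Or.inl trivial)
  have := isPerfect_E h.bcx (by omega)
  have hw : Function.Injective w := (injective_iff_map_eq_zero w).2 fun t e => by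
    by_contra e'
    exact h.N_ne e' (by simpa [e, h.hΛ] using P.h_zero)
  have key : ∀ t s (l : Fˣ), ((∀ i, Sc Fr (θ (t, s)) (i, false) l) ∧
      ∀ v ∈ Fr.V0, (θ (t, s)).1 v = (l : F) • v) ↔ ((t : K) = algebraMap F K l * c t ∧
        t * c t = algebraMap F K l ^ (m + 1) ∧ s = fun j : Fin m => l ^ (m - j)) := by
    intro t s l
    obtain ⟨h6, h7⟩ := sc_theta (θ := θ.comp (MonoidHom.inr _ _)) h2 s
    obtain ⟨h8, h9⟩ := h.single_hQ (0, false) t.ne_zero
    rw [hQ, ← hR, ← h1] at h8 h9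
    have e : θ (t, s) = θ (t, 1) * θ (1, s) := by rw [← map_mul]; simp
    have k0 := h8.sc.mul (h7 0)
    have k1 := fun j : Fin m => (h8.ne (j.succ, false) (Fin.succ_ne_zero j)).mul (h7 j.succ)
    have k2 : ∀ u, (θ (t, s)).1 (w u) = w (t / c t * u) := fun u => by
      rw [e, ← h9]
      exact congrArg _ (h6 _ (h.w_mem u))
    have k3 := (map_ne_zero c).2 t.ne_zero
    simp only [h.hσ, Fin.cons_zero, Fin.cons_succ, one_mul, MonoidHom.comp_apply,
      MonoidHom.inr_apply, ← e] at k0 k1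
    constructor
    · rintro ⟨l1, l2⟩
      have l3 := snoc_eq_pow (s := s) (l := l) (i := 0) fun j _ => Units.ext ((k1 j).unique (l1 _))
      refine ⟨?_, ?_, funext fun j => by simpa using l3 j.castSucc (Nat.zero_le _)⟩
      · have := hw ((k2 1).symm.trans ((l2 _ (h.w_mem 1)).trans (map_smul _ _ _).symm))
        rwa [Algebra.smul_def, mul_one, mul_one, div_eq_iff k3] at this
      · have := k0.unique (l1 0)
        rw [l3 0 le_rfl, one_div, Units.mul_inv_eq_iff_eq_mul] at this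
        rw [← h.norm, ← map_pow, pow_succ', this]
        simp
    · rintro ⟨l1, l2, rfl⟩
      have l3 : ∀ k : Fin (m + 1), (Fin.snoc (fun j : Fin m => l ^ (m - j)) 1 : Fin (m + 1) → Fˣ) k =
        l ^ (m - k) := Fin.lastCases (by simp) (by simp)
      constructor
      · refine Fin.cases (k0.congr ?_) fun j => (k1 j).congr ?_
        · rw [← h.norm, ← map_pow] at l2
          rw [l3, (algebraMap F K).injective l2, pow_succ']
          simp
        · beta_reduce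
          rw [l3, Fin.val_succ, show m - j = m - (j + 1) + 1 by omega, pow_succ',
            mul_div_cancel_right]
      · intro v hv
        obtain ⟨u, rfl⟩ := (h.mem v).1 hv
        rw [k2, ← map_smul, Algebra.smul_def, div_eq_iff k3 |>.2 l1]
  have cen : ∀ x, x ∈ ((QuotientGroup.mk' (center P.E)).comp θ).ker ↔ ∃ l : Fˣ, l ^ 2 = 1 ∧
      (x.1 : K) = algebraMap F K l * c x.1 ∧ x.1 * c x.1 = algebraMap F K l ^ (m + 1) ∧
        x.2 = fun j : Fin m => l ^ (m - j) := fun x => by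
    rw [MonoidHom.mem_ker, MonoidHom.comp_apply, QuotientGroup.mk'_apply, QuotientGroup.eq_one_iff,
      h.mem_center_iff (Fr := Fr) (by omega) (h4.le ⟨x, rfl⟩)]
    simp only [← key]
  have one : ∀ x, θ x = 1 → (x.1 : K) = c x.1 ∧ x.1 * c x.1 = 1 ∧ x.2 = 1 := fun x e => by
    simpa [funext_iff] using (key x.1 x.2 1).1 (by simp [e, Sc.one])
  refine ⟨_, inferInstance, (MonoidHom.fst _ _).comp (Subgroup.subtype _),
    (injective_iff_map_eq_one _).2 fun x e => ?_, fun t => ⟨?_, fun ⟨l, l1, l2, l3⟩ =>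
      ⟨⟨(t, fun j : Fin m => l ^ (m - j)), (cen _).2 ⟨l, l1, l2, l3, rfl⟩⟩, rfl⟩⟩,
    multiplier_of_spin (by omega) hS h4 h5 (MonoidHom.fst _ _) (fun x e => Units.ext ?_)
      fun x e e' => Prod.ext e' (one x e).2.2⟩
  · obtain ⟨l, -, l2, -, l4⟩ := (cen _).1 x.2
    have e' : x.1.1 = 1 := e
    obtain rfl : l = 1 := Units.ext ((algebraMap F K).injective (by simpa [e'] using l2.symm))
    exact Subtype.ext (Prod.ext e' (l4.trans (funext fun _ => one_pow _)))
  · rintro ⟨x, rfl⟩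
    obtain ⟨l, l1, l2, l3, -⟩ := (cen _).1 x.2
    exact ⟨l, l1, l2, l3⟩
  · have := (one x e).2.1
    rwa [← (one x e).1, ← sq] at this

theorem Orth.exists_multiplier {k : ℕ} {Fr : Frame P (k + 2)} (h : Orth P) (hV : Fr.V0 = ⊥)
    (hk : 2 ≤ k) (hS : HasSpin P) (h3 : k = 2 → Nat.card F ≠ 2) :
    ∃ (A : Type u) (_ : CommGroup A) (φ : A →* Fˣ × Fˣ), Function.Injective φ ∧
      (∀ x, x ∈ φ.range ↔ x.1 ^ 2 = 1 ∧ x.2 ^ 2 = x.1 ^ k) ∧
      Cfsg.HasSchurMultiplier (P.E ⧸ center P.E) A := by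
  have := Module.finite_of_finite F (M := V)
  obtain ⟨p, hp⟩ := CharP.exists F
  have : Fact p.Prime := ⟨CharP.char_is_prime F p⟩
  have hn : False ∨ 2 ≤ k + 1 + 1 := Or.inr (by omega)
  have hd : ¬ False → ∀ a, Fr.X a a = ⊥ := fun _ => h.X_eq_bot hV
  have hd' : False → ∀ a, Fr.X a a ≠ ⊥ := False.elim
  have hA := aniso_of_bot hV
  have hX := bcx hA hd hd'
  have e0 : sB hn 0 = (Fin.succ 0, false) := by rw [sB, dif_pos (by simp), dif_neg id]; rfl
  have e1 : ((0, false) : BI (k + 2)).1 ≠ ((Fin.succ 0, false) : BI (k + 2)).1 :=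
    (Fin.succ_ne_zero 0).symm
  obtain ⟨R, hR⟩ := exists_rankOne_short hA hn hd hd' (p := p) 0 (e0 ▸ e1)
  obtain ⟨θ, h1, h2, h4, h5⟩ := exists_bound hA hn hd hd' R (units_pow_coprime F p)
    (fun Γ _ _ π h h' => exists_lift_SL2 h h' R.φ) fun Γ _ π hπ =>
      exists_bcSys_four hX hπ (by omega) (Or.inr (by omega))
  have := isPerfect_E hX (by omega)
  have key : ∀ t s (l : Fˣ), (∀ i, Sc Fr (θ (t, s)) (i, false) l) ↔ (t = l * s 0 ∧
      s 0 ^ 2 = l ^ k ∧ ∀ j : Fin k, s j.succ = l ^ (k - j)) := by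
    intro t s l
    obtain ⟨-, h7⟩ := sc_theta (θ := θ.comp (MonoidHom.inr _ _)) h2 s
    have e : θ (t, s) = θ (t, 1) * θ (1, s) := by rw [← map_mul]; simp
    have e' : θ (t, 1) = hE Fr (0, false) (Fin.succ 0, false) t := by rw [h1, hR, e0]
    have k0 := (e' ▸ sc_hE_left e1 t.ne_zero).mul (h7 0)
    have k1 := (e' ▸ sc_hE_right e1 t.ne_zero).mul (h7 (Fin.succ 0))
    have k2 := fun j : Fin k => (e' ▸ sc_hE_ne (Fr := Fr) e1 (c := (j.succ.succ, false))
      (Fin.succ_ne_zero j.succ) (fun e => Fin.succ_ne_zero j (Fin.succ_injective _ e))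
      (t : F)).mul (h7 j.succ.succ)
    simp only [h.hσ, Fin.cons_zero, Fin.cons_succ, one_mul, MonoidHom.comp_apply,
      MonoidHom.inr_apply, ← e, ← Units.val_mul] at k0 k1 k2
    rw [show (Fin.snoc s 1 : Fin (k + 2) → Fˣ) 0 = s 0 from Fin.snoc_castSucc _ _ 0,
      ← div_eq_mul_one_div] at k0
    constructor
    · intro l1
      have l3 := snoc_eq_pow (s := s) (l := l) (i := 1) fun j hj => by
        obtain ⟨j, rfl⟩ := Fin.exists_succ_eq.2 (show j ≠ 0 by rintro rfl; simp at hj)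
        exact Units.ext ((k2 j).unique (l1 _))
      have l4 := div_eq_iff_eq_mul.1 (Units.ext (k0.unique (l1 0)))
      have l5 := Units.ext (k1.unique (l1 _))
      rw [l3 _ (by simp), l4, mul_assoc, mul_eq_left, ← mul_div_assoc, div_eq_one, ← sq] at l5
      refine ⟨l4, by simpa using l5, fun j => ?_⟩
      have := l3 j.succ.castSucc (by simp)
      rw [Fin.snoc_castSucc] at this
      simpa using this
    · rintro ⟨rfl, l2, l3⟩
      have l4 : ∀ j : Fin (k + 1), (Fin.snoc s 1 : Fin (k + 2) → Fˣ) j.succ = l ^ (k - j) :=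
        Fin.lastCases (by simp) fun j => by rw [Fin.succ_castSucc, Fin.snoc_castSucc, l3]; simp
      refine Fin.cases (k0.congr (by simp)) (Fin.cases (k1.congr ?_) fun j => (k2 j).congr ?_)
      · rw [l4, mul_assoc, ← mul_div_assoc, ← sq, l2]
        simp
      · rw [l4, l3, Fin.val_succ, show k - j = k - (j + 1) + 1 by omega, pow_succ',
          mul_div_cancel_right]
  have cen : ∀ x, x ∈ ((QuotientGroup.mk' (center P.E)).comp θ).ker ↔ ∃ l : Fˣ, l ^ 2 = 1 ∧
      x.1 = l * x.2 0 ∧ x.2 0 ^ 2 = l ^ k ∧ ∀ j : Fin k, x.2 j.succ = l ^ (k - j) := fun x => by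
    rw [MonoidHom.mem_ker, MonoidHom.comp_apply, QuotientGroup.mk'_apply, QuotientGroup.eq_one_iff,
      h.mem_center_iff (Fr := Fr) (by omega) (h4.le ⟨x, rfl⟩)]
    simp [← key, hV]
  have one : ∀ x, θ x = 1 → x.1 = x.2 0 ∧ x.2 0 ^ 2 = 1 ∧ ∀ j : Fin k, x.2 j.succ = 1 := fun x e => by
    simpa using (key x.1 x.2 1).1 (by simp [e, Sc.one])
  let ψ : Fˣ × (Fin (k + 1) → Fˣ) →* Fˣ := (Pi.evalMonoidHom _ 0).comp (MonoidHom.snd _ _)
  refine ⟨_, inferInstance, ((MonoidHom.fst _ _ / ψ).prod ψ).comp (Subgroup.subtype _),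
    (injective_iff_map_eq_one _).2 fun x e => ?_, fun y => ⟨?_, fun ⟨l1, l2⟩ =>
      ⟨⟨(y.1 * y.2, Fin.cons y.2 fun j : Fin k => y.1 ^ (k - j)), (cen _).2
        ⟨y.1, l1, rfl, l2, fun _ => rfl⟩⟩, Prod.ext (mul_div_cancel_right _ _) rfl⟩⟩,
    multiplier_of_spin (by omega) hS h4 h5 ψ (fun x e => (one x e).2.1) fun x e e' =>
      Prod.ext ((one x e).1.trans e') (funext (Fin.cases e' (one x e).2.2))⟩
  · obtain ⟨l, -, l2, -, l4⟩ := (cen _).1 x.2
    have e1 : x.1.1 / x.1.2 0 = 1 := congrArg Prod.fst e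
    have e2 : x.1.2 0 = 1 := congrArg Prod.snd e
    obtain rfl : l = 1 := by simpa [l2] using e1
    exact Subtype.ext (Prod.ext (by simpa [e2] using l2)
      (funext (Fin.cases e2 fun j => (l4 j).trans (one_pow _))))
  · rintro ⟨x, rfl⟩
    obtain ⟨l, l1, l2, l3, -⟩ := (cen _).1 x.2
    change (x.1.1 / x.1.2 0) ^ 2 = 1 ∧ x.1.2 0 ^ 2 = (x.1.1 / x.1.2 0) ^ k
    rw [l2, mul_div_cancel_right]
    exact ⟨l1, l3⟩

end bound

end Cfsg.Agent.H80
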