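/-
The Schur multipliers of the orthogonal groups of the standard forms.
-/
import Cfsg.Agent.H80.FrameOrth

set_option autoImplicit false

namespace Cfsg.Agent.H80

open Cfsg.Agent.H78 Cfsg.Agent.H26 Cfsg.Agent.H26.PForm Cfsg.Agent.H30 Subgroup QuadraticMap
open Cfsg.Agent.H78.Frame

universe u

theorem multiplier_proj_congr {G G' : Type*} [Group G] [Group G'] (e : G ≃* G') {A : Type*}
    [CommGroup A] (h : Cfsg.HasSchurMultiplier (G ⧸ center G) A) :
    Cfsg.HasSchurMultiplier (G' ⧸ center G') A := by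
  refine hasSchurMultiplier_congr_left h (QuotientGroup.congr _ _ e (Subgroup.ext fun x => ?_))
  obtain ⟨x, rfl⟩ := e.surjective x
  refine (mem_map_iff_mem (f := e.toMonoidHom) e.injective).trans ?_
  simp only [mem_center_iff, e.surjective.forall, ← map_mul, e.injective.eq_iff]

theorem nonempty_equiv_zmod {A K : Type*} [CommGroup A] [Field K] [Finite K] (φ : A →* Kˣ)
    (hφ : Function.Injective φ) {g : ℕ} (h : ∀ t, t ∈ φ.range ↔ t ^ g = 1) :
    Nonempty (A ≃* Multiplicative (ZMod (Nat.gcd g (Nat.card K - 1)))) := by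
  have e : φ.range = (powMonoidHom g).ker := Subgroup.ext h
  refine ⟨(φ.ofInjective hφ).trans (mulEquivOfCyclicCardEq ?_)⟩
  rw [Nat.card_congr Multiplicative.toAdd, Nat.card_zmod, ← Nat.card_units, Nat.gcd_comm,
    ← IsCyclic.card_powMonoidHom_ker, e]

variable {F : Type u} [Field F] [Finite F] {ι : Type} [Fintype ι] [DecidableEq ι]
  {Q : QuadraticForm F (ι → F)} (hQ : (polarBilin Q).Nondegenerate) {m : ℕ}

omit [Fintype ι] [DecidableEq ι] in
theorem orth_ofQuad : Orth (ofQuad Q hQ) := ⟨rfl, fun _ => rfl, rfl⟩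

/-- The identification of the Eichler group with `Ω`. -/
noncomputable def omegaE (h5 : 5 ≤ Fintype.card ι) : (ofQuad Q hQ).E ≃* Cfsg.Omega F ⇑Q :=
  (eEquiv (P := ofQuad Q hQ) (mem_omegaGL_iff (isNondegenerateQuadraticForm_of hQ) h5)).trans
    (Subgroup.equivMapOfInjective _ _ (Subgroup.subtype_injective _)).symm

/-- Frames of coordinate vectors. -/
def frameOf (j : BI m → ι) (hj : Function.Injective j) (h1 : ∀ a, Q (Pi.single (j a) 1) = 0)
    (h2 : ∀ x a, polar Q x (Pi.single (j a) 1) = x (j (ng a))) : Frame (ofQuad Q hQ) m where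
  e a := Pi.single (j a) 1
  sing := h1
  orth a b h := (h2 _ b).trans (Pi.single_eq_of_ne (fun e => h (by rw [← hj e, ng_ng])) _)
  pair a := by
    change polar Q _ _ ≠ 0
    rw [h2, ng_ng, Pi.single_eq_same]
    exact one_ne_zero

section

variable (j : BI m → ι) (hj : Function.Injective j) (h1 : ∀ a, Q (Pi.single (j a) 1) = 0)
  (h2 : ∀ x a, polar Q x (Pi.single (j a) 1) = x (j (ng a)))

omit [Fintype ι] in
theorem frameOf_one (a : BI m) :
    (ofQuad Q hQ).f ((frameOf hQ j hj h1 h2).e a) ((frameOf hQ j hj h1 h2).e (ng a)) = 1 :=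
  (h2 _ _).trans (by rw [ng_ng]; exact Pi.single_eq_same _ _)

omit [Fintype ι] in
theorem mem_V0_frameOf {w : ι → F} : w ∈ (frameOf hQ j hj h1 h2).V0 ↔ ∀ a, w (j a) = 0 :=
  mem_V0.trans ⟨fun h a => by rw [← ng_ng a, ← h2 w]; exact h _, fun h a => (h2 _ _).trans (h _)⟩

end

omit [DecidableEq ι] in
theorem hasSpin {Fr : Frame (ofQuad Q hQ) m} (hm : 3 ≤ m) [Group.IsPerfect (ofQuad Q hQ).E]
    (h : ∀ a, (ofQuad Q hQ).f (Fr.e a) (Fr.e (ng a)) = 1) : HasSpin (ofQuad Q hQ) := by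
  by_cases h2 : (2 : F) = 0
  · exact ⟨_, inferInstance, inferInstance, MonoidHom.id _, isStemExtension_of_perfect
      ⟨Function.surjective_id, fun x hx => (show x = 1 from hx) ▸ one_mem _⟩, fun e => (e h2).elim⟩
  let v : Fin m → ι → F := fun i => Fr.e (i, false) + Fr.e (i, true)
  have h3 : ∀ i, Q (v i) = 1 := fun i => by
    rw [QuadraticMap.map_add Q, show Q (Fr.e (i, false)) = 0 from Fr.sing _,
      show Q (Fr.e (i, true)) = 0 from Fr.sing _, zero_add, zero_add]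
    exact h (i, false)
  have h4 : ∀ i k, i ≠ k → polar Q (v i) (v k) = 0 := fun i k e => by
    have := fun b b' => show polar Q (Fr.e (i, b)) (Fr.e (k, b')) = 0 from
      Fr.orth _ _ (ne_ng_of_fst (a := (k, b')) (b := (i, b)) e.symm)
    simp only [v, polar_add_left, polar_add_right, this, add_zero]
  obtain ⟨S, _, _, π, h5, h6⟩ := exists_spin hQ h2 (h3 ⟨0, by omega⟩) (h3 ⟨1, by omega⟩)
    (h3 ⟨2, by omega⟩) (h4 _ _ (by simp)) (h4 _ _ (by simp)) (h4 _ _ (by simp))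
    (by have := Fr.finrank_V0; omega)
  exact ⟨S, _, ‹_›, π, h5, fun _ => h6⟩

/-- The index of a frame vector. -/
def jS (a : BI m) : Fin m ⊕ Fin m := cond a.2 (.inr a.1) (.inl a.1)

theorem jS_injective : Function.Injective (jS (m := m)) := by
  rintro ⟨i, _ | _⟩ ⟨k, _ | _⟩ h <;> simp_all [jS]

theorem jS_surjective : Function.Surjective (jS (m := m)) := by
  rintro (i | i)
  exacts [⟨(i, false), rfl⟩, ⟨(i, true), rfl⟩]

theorem exists_multiplier_plus {k : ℕ} (hk : 2 ≤ k) (h3 : k = 2 → Nat.card F ≠ 2) :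
    ∃ (A : Type u) (_ : CommGroup A) (φ : A →* Fˣ × Fˣ), Function.Injective φ ∧
      (∀ x, x ∈ φ.range ↔ x.1 ^ 2 = 1 ∧ x.2 ^ 2 = x.1 ^ k) ∧
      Cfsg.HasSchurMultiplier (Cfsg.POmega F (Cfsg.quadFormPlus (k + 2) F)) A := by
  have hQ := qPlus_nondegenerate (F := F) (k + 2)
  have h1 : ∀ a, qPlus F (k + 2) (Pi.single (jS a) 1) = 0 := by
    rintro ⟨i, _ | _⟩ <;> simp [qPlus_apply, jS, Pi.single_apply]
  have h2 : ∀ x a, polar (qPlus F (k + 2)) x (Pi.single (jS a) 1) = x (jS (ng a)) := by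
    rintro x ⟨i, _ | _⟩ <;> simp [polar_qPlus, jS, ng, Pi.single_apply]
  have hV : (frameOf hQ jS jS_injective h1 h2).V0 = ⊥ := eq_bot_iff.2 fun w hw =>
    funext (jS_surjective.forall.2 ((mem_V0_frameOf hQ _ _ h1 h2).1 hw))
  have := isPerfect_E (bcx (d := False) (aniso_of_bot hV) (fun _ => (orth_ofQuad hQ).X_eq_bot hV)
    False.elim) (by omega)
  obtain ⟨A, _, φ, h4, h5, h6⟩ := (orth_ofQuad hQ).exists_multiplier hV hk
    (hasSpin hQ (by omega) (frameOf_one hQ _ jS_injective h1 h2)) h3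
  exact ⟨A, _, φ, h4, h5, multiplier_proj_congr (omegaE hQ (by simp; omega)) h6⟩

theorem exists_multiplier_odd (h0 : (2 : F) ≠ 0) (hm : 2 ≤ m) (h3 : m = 2 → 3 < Nat.card F) :
    ∃ (A : Type u) (_ : CommGroup A) (φ : A →* Fˣ), Function.Injective φ ∧
      (∀ t, t ∈ φ.range ↔ t ^ 2 = 1) ∧
      Cfsg.HasSchurMultiplier (Cfsg.POmega F (Cfsg.quadFormOdd (m + 1) F)) A := by
  have hQ := qOdd_nondegenerate h0 (m + 1)
  have hj : Function.Injective fun a : BI (m + 1) => (Sum.inr (jS a) : Unit ⊕ _) :=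
    Sum.inr_injective.comp jS_injective
  have h1 : ∀ a, qOdd F (m + 1) (Pi.single (.inr (jS a)) 1) = 0 := by
    rintro ⟨i, _ | _⟩ <;> simp [qOdd_apply, jS, Pi.single_apply]
  have h2 : ∀ x a, polar (qOdd F (m + 1)) x (Pi.single (.inr (jS a)) 1) = x (.inr (jS (ng a))) := by
    rintro x ⟨i, _ | _⟩ <;> simp [polar_qOdd, jS, ng, Pi.single_apply]
  have h : OrthK (frameOf hQ _ hj h1 h2) (RingHom.id F) (LinearMap.single F (fun _ => F) (Sum.inl ())) :=
    ⟨orth_ofQuad hQ, frameOf_one hQ _ _ h1 h2, fun _ => rfl, fun _ => rfl, fun v => by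
      rw [mem_V0_frameOf]
      refine ⟨fun h => ⟨v (.inl ()), funext ?_⟩, fun ⟨t, e⟩ a => by simp [← e]⟩
      rintro (_ | a)
      · simp
      · obtain ⟨a, rfl⟩ := jS_surjective a
        simp [h], fun t => by
      change qOdd F (m + 1) _ = _
      simp [qOdd_apply, _root_.sq]⟩
  have := isPerfect_E h.bcx (by omega)
  obtain ⟨A, _, φ, h4, h5, h6⟩ := h.exists_multiplier hm (hasSpin hQ (by omega) h.one)
    fun e => Or.inl (h3 e)
  refine ⟨A, _, φ, h4, fun t => (h5 t).trans ⟨fun ⟨l, _, l1, l2⟩ => ?_, fun e => ⟨1, by simp, by simp,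
    by simpa [_root_.sq] using congrArg Units.val e⟩⟩, multiplier_proj_congr (omegaE hQ (by simp; omega)) h6⟩
  obtain rfl : l = 1 := Units.ext (by simpa using l1)
  exact Units.ext (by simpa [_root_.sq] using l2)

theorem exists_multiplier_minus (hm : 2 ≤ m) {a b : F}
    (hab : ∀ z₁ z₂ : F, z₁ ^ 2 + a * z₁ * z₂ + b * z₂ ^ 2 = 0 → z₁ = 0 ∧ z₂ = 0)
    [Fact (∀ r : F, r ^ 2 ≠ -b + a * r)] :
    ∃ (A : Type u) (_ : CommGroup A) (φ : A →* (QuadraticAlgebra F (-b) a)ˣ), Function.Injective φ ∧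
      (∀ t : (QuadraticAlgebra F (-b) a)ˣ, t ∈ φ.range ↔ ∃ l : Fˣ, l ^ 2 = 1 ∧
        t.1 = algebraMap F _ l * star t.1 ∧ t.1 * star t.1 = algebraMap F _ l ^ (m + 1)) ∧
      Cfsg.HasSchurMultiplier (Cfsg.POmega F (Cfsg.quadFormMinus (m + 1) F a b)) A := by
  have hQ := qMinus_nondegenerate (m + 1) hab
  have hj : Function.Injective fun a : BI (m + 1) => (Sum.inl (jS a) : _ ⊕ Fin 2) :=
    Sum.inl_injective.comp jS_injective
  have h1 : ∀ x, qMinus F (m + 1) a b (Pi.single (.inl (jS x)) 1) = 0 := by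
    rintro ⟨i, _ | _⟩ <;> simp [qMinus_apply, jS, Pi.single_apply]
  have h2 : ∀ x y, polar (qMinus F (m + 1) a b) x (Pi.single (.inl (jS y)) 1) =
      x (.inl (jS (ng y))) := by
    rintro x ⟨i, _ | _⟩ <;> simp [polar_qMinus, jS, ng, Pi.single_apply]
  let w : QuadraticAlgebra F (-b) a →ₗ[F] ((Fin (m + 1) ⊕ Fin (m + 1)) ⊕ Fin 2 → F) :=
    { toFun := fun t => Sum.elim 0 ![t.re, t.im]
      map_add' := fun s t => funext fun i => by
        rcases i with i | i
        · simp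
        · fin_cases i <;> simp
      map_smul' := fun s t => funext fun i => by
        rcases i with i | i
        · simp
        · fin_cases i <;> simp }
  have h : OrthK (frameOf hQ _ hj h1 h2) (starRingEnd _) w :=
    ⟨orth_ofQuad hQ, frameOf_one hQ _ _ h1 h2, star_star, fun _ => by ext <;> simp [starRingEnd_apply], fun v => by
      rw [mem_V0_frameOf]
      refine ⟨fun h => ⟨⟨v (.inr 0), v (.inr 1)⟩, funext ?_⟩, fun ⟨t, e⟩ a => by simp [← e, w]⟩
      rintro (a | i)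
      · obtain ⟨a, rfl⟩ := jS_surjective a
        simp [h, w]
      · fin_cases i <;> simp [w], fun t => by
      rw [starRingEnd_apply, ← QuadraticAlgebra.algebraMap_norm_eq_mul_star]
      congr 1
      change qMinus F (m + 1) a b _ = _
      simp [qMinus_apply, w, QuadraticAlgebra.norm_def, _root_.sq, mul_assoc]⟩
  have := isPerfect_E h.bcx (by omega)
  have : Finite (QuadraticAlgebra F (-b) a) :=
    Finite.of_equiv _ (QuadraticAlgebra.equivProd (-b) a).symm
  obtain ⟨A, _, φ, h4, h5, h6⟩ := h.exists_multiplier hm (hasSpin hQ (by omega) h.one)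
    fun _ => Or.inr ⟨QuadraticAlgebra.omega, fun e => by
      have e1 := congrArg QuadraticAlgebra.re e
      have e2 := congrArg QuadraticAlgebra.im e
      simp [starRingEnd_apply] at e1 e2
      refine disc_ne_zero_of_anisotropic hab ?_
      rw [e1]
      linear_combination 2 * b * e2⟩
  exact ⟨A, _, φ, h4, h5, multiplier_proj_congr (omegaE hQ (by simp; omega)) h6⟩

theorem gcd_pow_sub_one {q l : ℕ} (hq : 1 ≤ q) (hl : 1 ≤ l) :
    Nat.gcd 2 (q ^ l - 1) = Nat.gcd 2 (q - 1) ∧ (Odd l → Nat.gcd 4 (q ^ l - 1) = Nat.gcd 4 (q - 1)) := by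
  have h1 := Nat.one_le_pow l q hq
  have h2 : q ^ l % 2 = q % 2 := by
    rcases Nat.mod_two_eq_zero_or_one q with h | h <;> simp [Nat.pow_mod, h, Nat.pos_iff_ne_zero.1 hl]
  refine ⟨by rw [Nat.gcd_rec, Nat.gcd_rec 2, show (q ^ l - 1) % 2 = (q - 1) % 2 by omega], ?_⟩
  rintro ⟨k, rfl⟩
  rw [Nat.gcd_rec, Nat.gcd_rec 4]
  rcases Nat.mod_two_eq_zero_or_one q with h | h
  · have : ∀ x, x % 2 = 1 → Nat.gcd (x % 4) 4 = 1 := fun x hx => by
      rcases (by omega : x % 4 = 1 ∨ x % 4 = 3) with e | e <;> rw [e] <;> rfl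
    rw [this _ (by omega), this _ (by omega)]
  · have : q ^ (2 * k + 1) % 4 = q % 4 := by
      rcases (by omega : q % 4 = 1 ∨ q % 4 = 3) with e | e <;>
        simp [pow_succ, pow_mul, Nat.mul_mod, Nat.pow_mod, e]
    rw [show (q ^ (2 * k + 1) - 1) % 4 = (q - 1) % 4 by omega]

end Cfsg.Agent.H80
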