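import Cfsg.Agent.H74.CksDefs
import Cfsg.Agent.H27.SympBasic

/-! Doubly transitive actions of `Sp₂ₙ(2)` whose point stabilizer is intransitive on vectors. -/

set_option autoImplicit false

namespace Cfsg.Agent.H80.CkSp2

open Cfsg.Agent.H74.Cks Matrix Finset

section abstract

variable {Γ Ω V : Type*} [Fintype Ω] [Fintype V] [DecidableEq Ω] [DecidableEq V]

theorem core (o : V) (C : Matrix Ω V ℚ) (S : Matrix V V ℚ) {m t b u v x y z : ℚ}
    (hS2 : S * S = m • (1 : Matrix V V ℚ)) (ho : ∀ q, S o q = 1) (ho' : ∀ q, S q o = 1)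
    (hd : ∀ p, S p p = 1) (hpm : ∀ p q, S p q = 1 ∨ S p q = -1) (hm : (Fintype.card V : ℚ) = m)
    (hm4 : 4 < m) (c0 : ∀ ω, C ω o = 0) (row : ∀ ω, ∑ q, C ω q = 0) (col : ∀ q, ∑ ω, C ω q = 0)
    (hne : ∃ ω q, C ω q ≠ 0)
    (h1 : ∀ ω ω', (C * Cᵀ) ω ω' = (if ω = ω' then t else 0) + b)
    (h2 : ∀ ω ω', (C * S * Cᵀ) ω ω' = (if ω = ω' then u else 0) + v)
    (h3 : ∀ p q, p ≠ o → q ≠ o → (Cᵀ * C) p q = (if p = q then x else 0) + y * S p q + z) :
    ∃ μ : ℚ, μ ^ 2 = m ∧ 2 * (Fintype.card Ω : ℚ) = μ ^ 2 + μ := by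
  obtain ⟨ω₀, q₀, h₀⟩ := hne
  have To : ∀ q, (Cᵀ * C) o q = 0 := fun q => by simp [mul_apply, c0]
  have To' : ∀ q, (Cᵀ * C) q o = 0 := fun q => by simp [mul_apply, c0]
  have SS : ∀ f : V → ℚ, S *ᵥ S *ᵥ f = m • f := fun f => by
    rw [mulVec_mulVec, hS2, smul_mulVec, one_mulVec]
  have So : ∀ f : V → ℚ, (S *ᵥ f) o = ∑ q, f q := fun f => by simp [mulVec, dotProduct, ho]
  have key : ∀ f : V → ℚ, f o = 0 → ∑ q, f q = 0 → (Cᵀ * C) *ᵥ f = x • f + y • S *ᵥ f := by
    intro f f0 fs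
    funext p
    by_cases hp : p = o
    · subst hp
      simp only [Pi.add_apply, Pi.smul_apply, So, f0, fs]
      simp [mulVec, dotProduct, To]
    · have : ∀ q, (Cᵀ * C) p q * f q =
          (if p = q then x else 0) * f q + y * (S p q * f q) + z * f q := fun q => by
        by_cases hq : q = o
        · simp [hq, f0]
        · rw [h3 p q hp hq]; ring
      simp only [mulVec, dotProduct, this, sum_add_distrib, ← mul_sum, fs, Pi.add_apply,
        Pi.smul_apply, smul_eq_mul]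
      simp
  have A : ∀ (M : Matrix Ω Ω ℚ) (α β : ℚ), (∀ ω ω', M ω ω' = (if ω = ω' then α else 0) + β) →
      Cᵀ * M = α • Cᵀ := fun M α β h => by
    ext q ω'
    simp only [mul_apply, h, mul_add, sum_add_distrib, transpose_apply, ← sum_mul, col]
    simp [mul_comm]
  have e1 : ∀ ω, (Cᵀ * C) *ᵥ C ω = t • C ω := fun ω => by
    funext q
    have := congrFun (congrFun (A _ _ _ h1) q) ω
    rw [← Matrix.mul_assoc] at this
    exact this
  have e2 : ∀ ω, (Cᵀ * C) *ᵥ S *ᵥ C ω = u • C ω := fun ω => by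
    funext q
    have := congrFun (congrFun (A _ _ _ h2) q) ω
    rw [← Matrix.mul_assoc, ← Matrix.mul_assoc] at this
    rw [mulVec_mulVec]
    exact this
  have tb : t + Fintype.card Ω * b = 0 := by
    have : ∑ ω, (C * Cᵀ) ω ω₀ = 0 := by
      simp only [mul_apply]
      rw [sum_comm]
      simp [← sum_mul, col]
    simpa [h1, sum_add_distrib] using this
  have N0 : (Fintype.card Ω : ℚ) ≠ 0 := by
    have : Nonempty Ω := ⟨ω₀⟩
    exact_mod_cast Fintype.card_ne_zero
  have t0 : t ≠ 0 := by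
    rintro rfl
    have hb : b = 0 := by simpa [N0] using tb
    have := h1 ω₀ ω₀
    rw [hb, mul_apply] at this
    simp only [transpose_apply, if_true, add_zero] at this
    exact h₀ (mul_self_eq_zero.1
      ((sum_eq_zero_iff_of_nonneg fun q _ => mul_self_nonneg _).1 this q₀ (mem_univ _)))
  obtain ⟨μ, hμ⟩ : ∃ μ, u = t * μ := ⟨u / t, by field_simp⟩
  have e3 : ∀ ω, S *ᵥ C ω = μ • C ω := fun ω => by
    have a1 := key (S *ᵥ C ω) (by rw [So, row]) (by rw [← So, SS]; simp [c0])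
    have a2 := congrArg (S *ᵥ ·) (key (C ω) (c0 ω) (row ω))
    simp only [e1, mulVec_add, mulVec_smul] at a2
    rw [e2, ← a2, hμ, mul_smul] at a1
    exact (smul_right_injective _ t0 a1).symm
  have μ2 : μ ^ 2 = m := by
    have := congrFun (SS (C ω₀)) q₀
    simp only [e3, mulVec_smul, Pi.smul_apply, smul_eq_mul] at this
    exact mul_right_cancel₀ h₀ (by linear_combination this)
  have ST : S * Cᵀ = μ • Cᵀ := by
    ext q ω
    exact congrFun (e3 ω) q
  obtain ⟨p, hp, q, hq, pq⟩ : ∃ p ∈ univ.erase o, ∃ q ∈ univ.erase o, p ≠ q := by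
    refine one_lt_card.1 ?_
    rw [card_erase_of_mem (mem_univ _), card_univ]
    have : 4 < Fintype.card V := by rw [← hm] at hm4; exact_mod_cast hm4
    omega
  have hp := (mem_erase.1 hp).1
  have hq := (mem_erase.1 hq).1
  have xy : x = μ * y := by
    have a1 := key (Pi.single p 1 - Pi.single q 1) (by simp [hp.symm, hq.symm])
      (by simp [sum_sub_distrib])
    have a2 := congrArg (S *ᵥ ·) a1
    simp only [mulVec_add, mulVec_smul, SS] at a2
    rw [mulVec_mulVec, ← Matrix.mul_assoc, ST, Matrix.smul_mul, smul_mulVec, a1] at a2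
    have a3 := congrFun a2 p
    simp [mulVec_sub, hd, pq] at a3
    have a4 : (x - μ * y) * (1 - S p q - μ) = 0 := by linear_combination -a3 + y * μ2
    refine sub_eq_zero.1 ((mul_eq_zero.1 a4).resolve_right fun e => ?_)
    rcases hpm p q with h | h <;> rw [h] at e
    · have : μ = 0 := by linarith
      rw [this] at μ2
      linarith
    · have : μ = 2 := by linarith
      rw [this] at μ2
      linarith
  have t2 : t = x + y * μ := by
    have := congrFun (key (C ω₀) (c0 _) (row _)) q₀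
    simp only [e1, e3, Pi.add_apply, Pi.smul_apply, smul_eq_mul] at this
    exact mul_right_cancel₀ h₀ (by linear_combination this)
  have tr : (Fintype.card Ω : ℚ) * (t + b) = (m - 1) * (x + y + z) := by
    have a1 := trace_mul_comm C Cᵀ
    have a2 : ∀ r, (Cᵀ * C) r r = (x + y + z) - if r = o then x + y + z else 0 := fun r => by
      by_cases hr : r = o
      · simp [hr, To]
      · simp [h3 r r hr hr, hr, hd]
    simp only [trace, diag_apply, h1, a2, sum_sub_distrib] at a1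
    simp [hm] at a1
    linear_combination a1
  have rs : x + z * m - (y + z) = 0 := by
    have a1 : ∑ r, (Cᵀ * C) p r = 0 := by
      simp only [mul_apply]
      rw [sum_comm]
      simp [← mul_sum, row]
    have a2 : ∀ r, (Cᵀ * C) p r =
        (if p = r then x else 0) + y * S p r + z - if r = o then y + z else 0 := fun r => by
      by_cases hr : r = o
      · simp [hr, To', hp, ho']
      · simp [h3 p r hp hr, hr]
    have a3 : ∑ r, S p r = 0 := by
      have := congrFun (congrFun hS2 p) o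
      simpa [mul_apply, ho', hp] using this
    simp only [a2, sum_sub_distrib, sum_add_distrib, ← mul_sum, a3] at a1
    simp [hm] at a1
    linear_combination a1
  refine ⟨μ, μ2, mul_left_cancel₀ t0 ?_⟩
  subst xy μ2
  linear_combination 2 * tr - 2 * tb + 2 * rs + (2 - μ ^ 2 - μ) * t2

theorem exists_const {ι : Type*} (P : ι → Prop) (f : ι → ℚ) (h : ∀ i j, P i → P j → f i = f j) :
    ∃ c, ∀ i, P i → f i = c := by
  by_cases e : ∃ j, P j
  · obtain ⟨j, hj⟩ := e
    exact ⟨f j, fun i hi => h i j hi hj⟩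
  · exact ⟨0, fun i hi => (e ⟨i, hi⟩).elim⟩

variable [Group Γ]

variable (Γ) in
/-- Invariant matrices. -/
def Inv {α β : Type*} [MulAction Γ α] [MulAction Γ β] (M : Matrix α β ℚ) : Prop :=
  ∀ (g : Γ) a b, M (g • a) (g • b) = M a b

theorem Inv.mul {α β γ : Type*} [MulAction Γ α] [MulAction Γ β] [MulAction Γ γ] [Fintype β]
    {M : Matrix α β ℚ} {K : Matrix β γ ℚ} (h : Inv Γ M) (k : Inv Γ K) : Inv Γ (M * K) :=
  fun g a c => by
    rw [mul_apply, mul_apply, ← Equiv.sum_comp (MulAction.toPerm g)]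
    exact sum_congr rfl fun b _ => by rw [← h g a b, ← k g b c]; rfl

theorem Inv.tr {α β : Type*} [MulAction Γ α] [MulAction Γ β] {M : Matrix α β ℚ} (h : Inv Γ M) :
    Inv Γ Mᵀ := fun g a b => h g b a

variable [MulAction Γ Ω] [MulAction Γ V]

omit [Fintype Ω] in
theorem Inv.two {M : Matrix Ω Ω ℚ} (h : Inv Γ M) (tr : ∀ a b : Ω, ∃ g : Γ, g • a = b)
    (two : ∀ a b c d : Ω, a ≠ b → c ≠ d → ∃ g : Γ, g • a = c ∧ g • b = d) :
    ∃ α β, ∀ ω ω', M ω ω' = (if ω = ω' then α else 0) + β := by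
  obtain ⟨d, hd⟩ := exists_const (fun _ : Ω => True) (fun a => M a a) fun a b _ _ => by
    obtain ⟨g, rfl⟩ := tr a b
    exact (h g a a).symm
  obtain ⟨β, hβ⟩ := exists_const (fun s : Ω × Ω => s.1 ≠ s.2) (fun s => M s.1 s.2)
    fun a b ha hb => by
      obtain ⟨g, e1, e2⟩ := two _ _ _ _ ha hb
      simp only [← e1, ← e2]
      exact (h g _ _).symm
  refine ⟨d - β, β, fun ω ω' => ?_⟩
  split_ifs with e
  · subst e
    rw [hd ω trivial, sub_add_cancel]
  · rw [zero_add]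
    exact hβ (ω, ω') e

theorem layer (o : V) (S : Matrix V V ℚ) {m : ℚ}
    (hS2 : S * S = m • (1 : Matrix V V ℚ)) (ho : ∀ q, S o q = 1) (ho' : ∀ q, S q o = 1)
    (hd : ∀ p, S p p = 1) (hpm : ∀ p q, S p q = 1 ∨ S p q = -1) (hm : (Fintype.card V : ℚ) = m)
    (hm4 : 4 < m) (hS : Inv Γ S) (fo : ∀ g : Γ, g • o = o)
    (tr1 : ∀ p q : V, p ≠ o → q ≠ o → ∃ g : Γ, g • p = q)
    (tr2 : ∀ p q p' q' : V, p ≠ o → q ≠ o → p ≠ q → p' ≠ o → q' ≠ o → p' ≠ q' → S p q = S p' q' →
      ∃ g : Γ, g • p = p' ∧ g • q = q')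
    (tr : ∀ a b : Ω, ∃ g : Γ, g • a = b)
    (two : ∀ a b c d : Ω, a ≠ b → c ≠ d → ∃ g : Γ, g • a = c ∧ g • b = d)
    (ω₀ : Ω) {v w : V} (hv : v ≠ o) (hw : w ≠ o) (hn : ∀ g : Γ, g • ω₀ = ω₀ → g • v ≠ w) :
    ∃ μ : ℚ, μ ^ 2 = m ∧ 2 * (Fintype.card Ω : ℚ) = μ ^ 2 + μ := by
  classical
  have N0 : (Fintype.card Ω : ℚ) ≠ 0 := by
    have : Nonempty Ω := ⟨ω₀⟩
    exact_mod_cast Fintype.card_ne_zero
  let I : Matrix Ω V ℚ := fun ω q => if ∃ g : Γ, g • ω₀ = ω ∧ g • v = q then 1 else 0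
  have hI : Inv Γ I := fun g ω q => by
    refine if_congr ⟨?_, ?_⟩ rfl rfl
    · rintro ⟨k, h1, h2⟩
      exact ⟨g⁻¹ * k, by rw [mul_smul, h1, inv_smul_smul], by rw [mul_smul, h2, inv_smul_smul]⟩
    · rintro ⟨k, rfl, rfl⟩
      exact ⟨g * k, mul_smul _ _ _, mul_smul _ _ _⟩
  have I0 : ∀ ω, I ω o = 0 := fun ω => if_neg fun ⟨g, _, h⟩ =>
    hv (MulAction.injective g (h.trans (fo g).symm))
  have hr : ∀ (g : Γ) q, ∑ ω, I ω (g • q) = ∑ ω, I ω q := fun g q => by
    rw [← Equiv.sum_comp (MulAction.toPerm g)]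
    exact sum_congr rfl fun ω _ => hI g ω q
  let C : Matrix Ω V ℚ := fun ω q => I ω q - (∑ ω', I ω' q) / Fintype.card Ω
  have hC : Inv Γ C := fun g ω q => by simp only [C, hI g, hr]
  have col : ∀ q, ∑ ω, C ω q = 0 := fun q => by
    simp only [C, sum_sub_distrib, sum_const, card_univ, nsmul_eq_mul]
    field_simp
    ring
  have row : ∀ ω, ∑ q, C ω q = 0 := fun ω => by
    have a1 : ∀ ω', ∑ q, C ω' q = ∑ q, C ω q := fun ω' => by
      obtain ⟨g, rfl⟩ := tr ω ω'
      rw [← Equiv.sum_comp (MulAction.toPerm g)]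
      exact sum_congr rfl fun q _ => hC g ω q
    have a2 : ∑ ω', ∑ q, C ω' q = 0 := by rw [sum_comm]; exact sum_eq_zero fun q _ => col q
    simp only [a1, sum_const, card_univ, nsmul_eq_mul] at a2
    exact (mul_eq_zero.1 a2).resolve_left N0
  have hne : ∃ ω q, C ω q ≠ 0 := by
    by_contra! h
    obtain ⟨g, rfl⟩ := tr1 v w hv hw
    have a1 := h ω₀ v
    have a2 := h ω₀ (g • v)
    have a3 : I ω₀ v = 1 := if_pos ⟨1, one_smul _ _, one_smul _ _⟩
    have a4 : I ω₀ (g • v) = 0 := if_neg fun ⟨k, h1, h2⟩ => hn k h1 h2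
    simp only [C, hr, a3, a4] at a1 a2
    linarith
  obtain ⟨t, b, h1⟩ := (hC.mul hC.tr).two tr two
  obtain ⟨u, u', h2⟩ := ((hC.mul hS).mul hC.tr).two tr two
  have hT := hC.tr.mul hC
  obtain ⟨α, hα⟩ := exists_const (fun p : V => p ≠ o) (fun p => (Cᵀ * C) p p) fun p q hp hq => by
    obtain ⟨g, rfl⟩ := tr1 p q hp hq
    exact (hT g p p).symm
  have off : ∀ ε : ℚ, ∃ β, ∀ s : V × V, s.1 ≠ o ∧ s.2 ≠ o ∧ s.1 ≠ s.2 ∧ S s.1 s.2 = ε →
      (Cᵀ * C) s.1 s.2 = β := fun ε => exists_const _ _ fun a b ha hb => by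
    obtain ⟨g, e1, e2⟩ := tr2 _ _ _ _ ha.1 ha.2.1 ha.2.2.1 hb.1 hb.2.1 hb.2.2.1
      (ha.2.2.2.trans hb.2.2.2.symm)
    simp only [← e1, ← e2]
    exact (hT g _ _).symm
  obtain ⟨β, hβ⟩ := off 1
  obtain ⟨γ, hγ⟩ := off (-1)
  refine core o C S (x := α - β) (y := (β - γ) / 2) (z := (β + γ) / 2) hS2 ho ho' hd hpm hm hm4
    (fun ω => by simp [C, I0]) row col hne h1 h2 fun p q hp hq => ?_
  split_ifs with e
  · subst e
    rw [hα p hp, hd]
    ring
  · rcases hpm p q with h | h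
    · rw [hβ (p, q) ⟨hp, hq, e, h⟩, h]
      ring
    · rw [hγ (p, q) ⟨hp, hq, e, h⟩, h]
      ring

end abstract

section concrete

open Cfsg.Agent.H27

variable {F : Type} [Field F] [Fintype F] [DecidableEq F]

omit [DecidableEq F] in
theorem f2 (hF : Fintype.card F = 2) (a : F) : a = 0 ∨ a = 1 := by
  have := FiniteField.pow_card a
  rw [hF] at this
  have h : a * (a - 1) = 0 := by linear_combination this
  exact (mul_eq_zero.1 h).imp id sub_eq_zero.1

/-- The non-trivial additive character. -/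
def ch (a : F) : ℚ := if a = 0 then 1 else -1

omit [DecidableEq F] in
theorem two0 (hF : Fintype.card F = 2) : (1 : F) + 1 = 0 := by
  rcases f2 hF (-1) with h | h
  · simp at h
  · linear_combination -h

theorem ch_add (hF : Fintype.card F = 2) (a b : F) : ch (a + b) = ch a * ch b := by
  rcases f2 hF a with rfl | rfl <;> rcases f2 hF b with rfl | rfl <;> simp [ch, two0 hF]

omit [DecidableEq F] in
theorem neg_eq (hF : Fintype.card F = 2) (a : F) : -a = a := by
  linear_combination (-a) * two0 hF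

theorem ch_inj (hF : Fintype.card F = 2) {a b : F} (h : ch a = ch b) : a = b := by
  rcases f2 hF a with rfl | rfl <;> rcases f2 hF b with rfl | rfl <;> simp [ch] at h ⊢ <;>
    norm_num at h

omit [DecidableEq F] in
theorem li (hF : Fintype.card F = 2) {W : Type*} [AddCommGroup W] [Module F W] {p q : W}
    (hp : p ≠ 0) (hq : q ≠ 0) (h : p ≠ q) : LinearIndependent F ![p, q] := by
  refine LinearIndependent.pair_iff' hp |>.2 fun a e => ?_
  rcases f2 hF a with rfl | rfl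
  · exact hq (by rw [← e, zero_smul])
  · exact h (by rw [← e, one_smul])

variable {n : ℕ}

/-- The sign matrix of the form. -/
noncomputable def sg (n : ℕ) (F : Type) [Field F] [DecidableEq F] :
    Matrix (Fin n ⊕ Fin n → F) (Fin n ⊕ Fin n → F) ℚ := fun p q => ch (jBilin (Fin n) F p q)

theorem sg_sq (hF : Fintype.card F = 2) :
    sg n F * sg n F = (Fintype.card (Fin n ⊕ Fin n → F) : ℚ) • (1 : Matrix _ _ ℚ) := by
  ext p q
  have e : ∀ r, sg n F p r * sg n F r q = ch (jBilin (Fin n) F (p - q) r) := fun r => by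
    rw [sg, sg, ← ch_add hF, map_sub, LinearMap.sub_apply, sub_eq_add_neg,
      jBilin_isAlt.neg_eq q r]
  simp only [mul_apply, e, Matrix.smul_apply, smul_eq_mul]
  by_cases h : p = q
  · subst h
    simp [ch]
  · obtain ⟨r₀, h₀⟩ : ∃ r₀, jBilin (Fin n) F (p - q) r₀ ≠ 0 := by
      by_contra! k
      exact h (sub_eq_zero.1 (jBilin_nondegenerate.1 _ k))
    have h1 := (f2 hF _).resolve_left h₀
    have a := Equiv.sum_comp (Equiv.addRight r₀) fun r => ch (jBilin (Fin n) F (p - q) r)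
    simp only [Equiv.coe_addRight, map_add, ch_add hF, h1, ← sum_mul] at a
    rw [show ch (1 : F) = -1 by simp [ch]] at a
    rw [one_apply_ne h]
    linarith

theorem sp2a : Sp2aStmt := by
  intro F _ _ hF n hn H h2 hV
  classical
  have : Finite (PSp n F) := inferInstance
  have := Fintype.ofFinite (PSp n F ⧸ H)
  simp only [VecT, not_forall, not_exists, not_and] at hV
  obtain ⟨v, w, hv, hw, hV⟩ := hV
  letI : MulAction (Matrix.symplecticGroup (Fin n) F) (PSp n F ⧸ H) :=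
    MulAction.compHom _ (QuotientGroup.mk' _ : Matrix.symplecticGroup (Fin n) F →* PSp n F)
  have sm : ∀ (g : Matrix.symplecticGroup (Fin n) F) (ω : PSp n F ⧸ H),
      g • ω = (g : PSp n F) • ω := fun _ _ => rfl
  have hc : Fintype.card (Fin n ⊕ Fin n → F) = (2 ^ n) ^ 2 := by
    rw [Fintype.card_fun, hF, Fintype.card_sum, Fintype.card_fin, pow_add, sq]
  have h8 : 2 ^ 3 ≤ 2 ^ n := Nat.pow_le_pow_right (by norm_num) hn
  obtain ⟨μ, h1, h3⟩ := layer (Γ := Matrix.symplecticGroup (Fin n) F) (Ω := PSp n F ⧸ H) 0 (sg n F)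
    (sg_sq hF) (fun q => by simp [sg, ch]) (fun q => by simp [sg, ch])
    (fun p => by simp [sg, ch, jBilin_isAlt.self_eq_zero])
    (fun p q => by unfold sg ch; split_ifs <;> simp) rfl
    (by rw [hc]; exact_mod_cast (show 4 < (2 ^ n) ^ 2 by nlinarith))
    (fun g p q => congrArg ch (jBilin_sp g p q)) (fun g => smul_zero g)
    (fun p q hp hq => by
      obtain ⟨g, -, h⟩ := sp_exists_mulVec_eq ⊤ (fun _ _ => trivial) hp hq
      exact ⟨g, h⟩)
    (fun p q p' q' hp hq e hp' hq' e' h => by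
      obtain ⟨g, -, h⟩ := sp_exists_mulVec_pair ⊤ (fun _ _ => trivial) (li hF hp hq e)
        (li hF hp' hq' e') (ch_inj hF h).symm
      exact ⟨g, h⟩)
    (fun a b => by
      obtain ⟨g, h⟩ := MulAction.exists_smul_eq (PSp n F) a b
      obtain ⟨g, rfl⟩ := QuotientGroup.mk_surjective g
      exact ⟨g, h⟩)
    (fun a b c d h k => by
      obtain ⟨g, h⟩ := MulAction.is_two_pretransitive_iff.1 h2.two h k
      obtain ⟨g, rfl⟩ := QuotientGroup.mk_surjective g
      exact ⟨g, h⟩)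
    ((1 : PSp n F) : PSp n F ⧸ H) hv hw (fun g hg => hV g (by
      rw [sm, MulAction.Quotient.smul_mk, smul_eq_mul, mul_one, eq_comm, QuotientGroup.eq] at hg
      simpa using hg))
  rw [hc] at h1
  rw [← Nat.card_eq_fintype_card, ← Subgroup.index_eq_card] at h3
  obtain ⟨k, rfl⟩ : ∃ k, n = k + 1 := ⟨n - 1, by omega⟩
  rw [Nat.add_sub_cancel]
  push_cast at h1
  have h0 : 1 ≤ 2 ^ (k + 1) := Nat.one_le_two_pow
  rcases sq_eq_sq_iff_eq_or_eq_neg.1 h1 with rfl | rfl
  · left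
    have : (H.index : ℚ) = 2 ^ k * (2 ^ (k + 1) + 1) := by linear_combination h3 / 2
    exact_mod_cast this
  · right
    have : (H.index : ℚ) = 2 ^ k * (2 ^ (k + 1) - 1) := by linear_combination h3 / 2
    have h4 : ((2 ^ k * (2 ^ (k + 1) - 1) : ℕ) : ℚ) = 2 ^ k * (2 ^ (k + 1) - 1) := by
      push_cast [Nat.cast_sub h0]
      ring
    exact_mod_cast this.trans h4.symm

end concrete

end Cfsg.Agent.H80.CkSp2
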