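import Cfsg.Agent.H78.G40B

/-! Project L40G, piece FZ2B: the Sylow 2-subgroup of the symplectic model. -/

set_option autoImplicit false
set_option linter.unusedSectionVars false

noncomputable section

namespace Cfsg.Agent.H80.G40Fz2b

open Subgroup Matrix Cfsg.Agent.H83 Cfsg.Agent.H46.L40 Cfsg.Agent.H78.G40

abbrev M2 := Matrix (Fin 2) (Fin 2) (ZMod 3)
abbrev L2 := Matrix.SpecialLinearGroup (Fin 2) (ZMod 3)
abbrev M6 := Matrix (Fin 3 ⊕ Fin 3) (Fin 3 ⊕ Fin 3) (ZMod 3)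

theorem sup_two {G : Type*} [Group G] (A : Subgroup G) (w : G) (hn : ∀ s ∈ A, w * s * w⁻¹ ∈ A)
    (h2 : w * w ∈ A) : ∀ x ∈ A ⊔ zpowers w, x ∈ A ∨ x * w⁻¹ ∈ A := by
  have hn' : ∀ s ∈ A, w⁻¹ * s * w ∈ A := by
    intro s hs
    have := A.mul_mem (A.mul_mem (A.inv_mem h2) (hn s hs)) h2
    rwa [show (w * w)⁻¹ * (w * s * w⁻¹) * (w * w) = w⁻¹ * s * w by group] at this
  let K : Subgroup G :=
    { carrier := {x | x ∈ A ∨ x * w⁻¹ ∈ A}
      one_mem' := Or.inl A.one_mem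
      mul_mem' := by
        rintro x y (hx | hx) (hy | hy)
        · exact Or.inl (A.mul_mem hx hy)
        · right
          have := A.mul_mem hx hy
          rwa [← mul_assoc] at this
        · right
          have := A.mul_mem hx (hn y hy)
          rwa [show x * w⁻¹ * (w * y * w⁻¹) = x * y * w⁻¹ by group] at this
        · left
          have := A.mul_mem (A.mul_mem hx (hn _ hy)) h2
          rwa [show x * w⁻¹ * (w * (y * w⁻¹) * w⁻¹) * (w * w) = x * y by group] at this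
      inv_mem' := by
        rintro x (hx | hx)
        · exact Or.inl (A.inv_mem hx)
        · right
          have := A.mul_mem (hn' _ (A.inv_mem hx)) (A.inv_mem h2)
          rwa [show w⁻¹ * (x * w⁻¹)⁻¹ * w * (w * w)⁻¹ = x⁻¹ * w⁻¹ by group] at this }
  have : A ⊔ zpowers w ≤ K := by
    refine sup_le (fun x hx => Or.inl hx) ((zpowers_le (G := G)).2 (Or.inr ?_))
    rw [mul_inv_cancel]; exact A.one_mem
  exact fun x hx => this hx

theorem q8mul : ∀ g h : L2, g * g * (g * g) = 1 → h * h * (h * h) = 1 →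
    g * h * (g * h) * (g * h * (g * h)) = 1 := by decide +kernel

def Q8 : Subgroup L2 where
  carrier := {g | g * g * (g * g) = 1}
  one_mem' := by simp
  mul_mem' := fun {g h} => q8mul g h
  inv_mem' := fun {g} h => by
    have h' : g * g * (g * g) = 1 := h
    show g⁻¹ * g⁻¹ * (g⁻¹ * g⁻¹) = 1
    rw [← inv_one, ← h']; group

def P0 : L2 := ⟨!![0, 1; 2, 0], by decide⟩
def Q0 : L2 := ⟨!![1, 1; 1, 2], by decide⟩
def N0 : L2 := ⟨!![2, 0; 0, 2], by decide⟩
def PP : Q8 := ⟨P0, show P0 * P0 * (P0 * P0) = 1 by decide +kernel⟩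
def QQ : Q8 := ⟨Q0, show Q0 * Q0 * (Q0 * Q0) = 1 by decide +kernel⟩
def NN : Q8 := ⟨N0, show N0 * N0 * (N0 * N0) = 1 by decide +kernel⟩

theorem words : ∀ g : L2, g * g * (g * g) = 1 → g = 1 ∨ g = P0 ∨ g = P0 * P0 ∨ g = P0 * P0 * P0 ∨
    g = Q0 ∨ g = P0 * Q0 ∨ g = P0 * P0 * Q0 ∨ g = P0 * P0 * P0 * Q0 := by decide +kernel

theorem allQ (K : Subgroup Q8) (hP : PP ∈ K) (hQ : QQ ∈ K) (x : Q8) : x ∈ K := by
  have h2 := K.mul_mem hP hP
  have h3 := K.mul_mem h2 hP
  rcases words x.1 x.2 with h | h | h | h | h | h | h | h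
  · rw [show x = 1 from Subtype.ext h]; exact K.one_mem
  · rw [show x = PP from Subtype.ext h]; exact hP
  · rw [show x = PP * PP from Subtype.ext h]; exact h2
  · rw [show x = PP * PP * PP from Subtype.ext h]; exact h3
  · rw [show x = QQ from Subtype.ext h]; exact hQ
  · rw [show x = PP * QQ from Subtype.ext h]; exact K.mul_mem hP hQ
  · rw [show x = PP * PP * QQ from Subtype.ext h]; exact K.mul_mem h2 hQ
  · rw [show x = PP * PP * PP * QQ from Subtype.ext h]; exact K.mul_mem h3 hQ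

theorem cardQ : Nat.card Q8 = 8 := by
  have : Nat.card {g : L2 // g * g * (g * g) = 1} = 8 := by
    rw [Nat.card_eq_fintype_card]; decide +kernel
  exact this

theorem cenQ : ∀ g : L2, g * P0 = P0 * g → g * Q0 = Q0 * g → g.1 * g.1 ≠ -1 := by decide +kernel

theorem negQ : ∀ g : L2, g.1 ≠ -g.1 := by decide +kernel

theorem nnQ : ∀ g : L2, N0 * g = g * N0 := by decide +kernel

def Bm (g : Fin 3 → M2) : M6 :=
  fromBlocks (diagonal fun k => g k 0 0) (diagonal fun k => g k 0 1)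
    (diagonal fun k => g k 1 0) (diagonal fun k => g k 1 1)

theorem Bm_mul (g h : Fin 3 → M2) : Bm (fun k => g k * h k) = Bm g * Bm h := by
  simp only [Bm, fromBlocks_multiply, diagonal_mul_diagonal, diagonal_add, Matrix.mul_apply,
    Fin.sum_univ_two]

theorem Bm_neg (g : Fin 3 → M2) : Bm (fun k => -g k) = -Bm g := by
  simp only [Bm, fromBlocks_neg, diagonal_neg, Matrix.neg_apply]

theorem Bm_tr (g : Fin 3 → M2) : Bm (fun k => (g k)ᵀ) = (Bm g)ᵀ := by
  simp only [Bm, fromBlocks_transpose, diagonal_transpose, transpose_apply]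

theorem Bm_inj {g h : Fin 3 → M2} (e : Bm g = Bm h) (k : Fin 3) : g k = h k := by
  obtain ⟨h1, h2, h3, h4⟩ := fromBlocks_inj.1 e
  ext i j
  fin_cases i <;> fin_cases j
  · exact congrFun (diagonal_injective h1) k
  · exact congrFun (diagonal_injective h2) k
  · exact congrFun (diagonal_injective h3) k
  · exact congrFun (diagonal_injective h4) k

def j2 : M2 := !![0, -1; 1, 0]

theorem Bm_J : Bm (fun _ => j2) = J (Fin 3) (ZMod 3) := by decide +kernel
theorem Bm_one : Bm (fun _ => 1) = 1 := by decide +kernel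

theorem j2_eq : ∀ g : L2, g.1 * j2 * g.1ᵀ = j2 := by decide +kernel

def BB : (Fin 3 → Q8) →* Sp6 where
  toFun g := ⟨Bm (fun k => (g k).1.1), by
    change _ * J (Fin 3) (ZMod 3) * _ = J (Fin 3) (ZMod 3)
    rw [← Bm_J, ← Bm_tr, ← Bm_mul, ← Bm_mul]
    congr 1
    funext k
    exact j2_eq _⟩
  map_one' := Subtype.ext Bm_one
  map_mul' g h := Subtype.ext (Bm_mul _ _)

def pp : (Fin 3 → Q8) →* X2 := mk2.comp BB

theorem pp_eq {g h : Fin 3 → Q8} (e : pp g = pp h) :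
    g = h ∨ ∀ k, (g k).1.1 = -(h k).1.1 := by
  rcases (mk2_eq _ _).1 e with h1 | h1
  · left
    funext k
    exact Subtype.ext (Subtype.ext (Bm_inj h1 k))
  · right
    intro k
    have h2 : Bm (fun k => (g k).1.1) = Bm (fun k => -(h k).1.1) := by rw [Bm_neg]; exact h1
    exact Bm_inj h2 k

theorem p_eq (i : Fin 3) : dd2.p i = pp (Pi.mulSingle i PP) :=
  congrArg mk2 (Subtype.ext (by
    show bl i 0 1 2 0 = Bm (fun k => ((Pi.mulSingle i PP : Fin 3 → Q8) k).1.1)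
    revert i; decide +kernel))

theorem q_eq (i : Fin 3) : dd2.q i = pp (Pi.mulSingle i QQ) :=
  congrArg mk2 (Subtype.ext (by
    show bl i 1 1 1 2 = Bm (fun k => ((Pi.mulSingle i QQ : Fin 3 → Q8) k).1.1)
    revert i; decide +kernel))

theorem As_eq : As dd2 = pp.range := by
  apply le_antisymm
  · apply (Subgroup.closure_le _).2
    rintro _ (⟨i, rfl⟩ | ⟨i, rfl⟩)
    · exact ⟨_, (p_eq i).symm⟩
    · exact ⟨_, (q_eq i).symm⟩
  · rintro _ ⟨g, rfl⟩
    have h : ∀ (i : Fin 3) (x : Q8), pp (Pi.mulSingle i x) ∈ As dd2 := by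
      intro i x
      refine allQ ((As dd2).comap (pp.comp (MonoidHom.mulSingle (fun _ => Q8) i))) ?_ ?_ x
      · show pp (Pi.mulSingle i PP) ∈ As dd2
        rw [← p_eq]; exact Subgroup.subset_closure (Or.inl ⟨i, rfl⟩)
      · show pp (Pi.mulSingle i QQ) ∈ As dd2
        rw [← q_eq]; exact Subgroup.subset_closure (Or.inr ⟨i, rfl⟩)
    have e : g = Pi.mulSingle 0 (g 0) * Pi.mulSingle 1 (g 1) * Pi.mulSingle 2 (g 2) := by
      funext k
      fin_cases k <;> simp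
    rw [e, map_mul, map_mul]
    exact mul_mem (mul_mem (h _ _) (h _ _)) (h _ _)

theorem wdiag : ∀ d : Fin 3 → ZMod 3,
    w0.1 * diagonal d = diagonal (fun k => d (Equiv.swap 0 1 k)) * w0.1 := by decide +kernel

theorem w_conj (g : Fin 3 → Q8) :
    e2 w0 * pp g * (e2 w0)⁻¹ = pp (fun k => g (Equiv.swap 0 1 k)) := by
  rw [mul_inv_eq_iff_eq_mul]
  have h : E2 w0 * BB g = BB (fun k => g (Equiv.swap 0 1 k)) * E2 w0 := by
    apply Subtype.ext
    have hw : (E2 w0).1 = fromBlocks w0.1 0 0 w0.1 := by decide +kernel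
    show (E2 w0).1 * Bm _ = Bm _ * (E2 w0).1
    rw [hw]
    simp only [Bm, fromBlocks_multiply, Matrix.zero_mul, Matrix.mul_zero, add_zero, zero_add, wdiag]
  show mk2 (E2 w0) * mk2 (BB g) = mk2 (BB _) * mk2 (E2 w0)
  rw [← map_mul, ← map_mul, h]

theorem z_eq : e2 z0 = pp ![NN, NN, 1] :=
  congrArg mk2 (Subtype.ext (by
    show (E2 z0).1 = Bm (fun k => ((![NN, NN, 1] : Fin 3 → Q8) k).1.1)
    decide +kernel))

theorem a_eq : e2 a0 = pp ![1, NN, NN] :=
  congrArg mk2 (Subtype.ext (by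
    show (E2 a0).1 = Bm (fun k => ((![1, NN, NN] : Fin 3 → Q8) k).1.1)
    decide +kernel))

theorem nn_comm (x : Q8) : NN * x = x * NN := Subtype.ext (nnQ _)

theorem z_comm (g : Fin 3 → Q8) : pp g * e2 z0 = e2 z0 * pp g := by
  rw [z_eq, ← map_mul, ← map_mul]
  congr 1
  funext k
  fin_cases k <;> simp [nn_comm]

theorem a_comm (g : Fin 3 → Q8) : pp g * e2 a0 = e2 a0 * pp g := by
  rw [a_eq, ← map_mul, ← map_mul]
  congr 1
  funext k
  fin_cases k <;> simp [nn_comm]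

theorem chk3 : w0 * w0 = z0 ∧ w0 * a0 * w0⁻¹ = z0 * a0 ∧ z0 * z0 = 1 ∧ w0 * z0 = z0 * w0 := by
  decide +kernel

theorem ne3 : e2 z0 ≠ 1 ∧ e2 a0 ≠ 1 ∧ e2 a0 ≠ e2 z0 := by
  refine ⟨fun h => ?_, fun h => ?_, fun h => ?_⟩
  · have := (mk2_eq (E2 z0) 1).1 h
    revert this; decide +kernel
  · have := (mk2_eq (E2 a0) 1).1 h
    revert this; decide +kernel
  · have := (mk2_eq (E2 a0) (E2 z0)).1 h
    revert this; decide +kernel

theorem ww : e2 w0 * e2 w0 = e2 z0 := by rw [← map_mul, chk3.1]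

theorem zz : e2 z0 * e2 z0 = 1 := by rw [← map_mul, chk3.2.2.1, map_one]

theorem memT {x : X2} (hx : x ∈ Ts e2 dd2) : ∃ g, x = pp g ∨ x = pp g * e2 w0 := by
  unfold Ts at hx
  rw [As_eq] at hx
  rcases sup_two pp.range (e2 w0) (by rintro _ ⟨g, rfl⟩; exact ⟨_, (w_conj g).symm⟩)
    ⟨_, by rw [ww, z_eq]⟩ x hx with ⟨g, h⟩ | ⟨g, h⟩
  · exact ⟨g, Or.inl h.symm⟩
  · exact ⟨g, Or.inr (by rw [h, inv_mul_cancel_right])⟩

theorem ppT (g : Fin 3 → Q8) : pp g ∈ Ts e2 dd2 :=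
  Subgroup.mem_sup_left (by rw [As_eq]; exact ⟨g, rfl⟩)

theorem wT : e2 w0 ∈ Ts e2 dd2 := Subgroup.mem_sup_right (mem_zpowers _)

theorem comm_w (g : Fin 3 → Q8) :
    pp g * e2 w0 * e2 a0 * (pp g * e2 w0)⁻¹ * (e2 a0)⁻¹ = e2 z0 := by
  have h : e2 w0 * e2 a0 * (e2 w0)⁻¹ = e2 z0 * e2 a0 := by
    rw [← map_inv, ← map_mul, ← map_mul, ← map_mul, chk3.2.1]
  calc pp g * e2 w0 * e2 a0 * (pp g * e2 w0)⁻¹ * (e2 a0)⁻¹
      = pp g * (e2 w0 * e2 a0 * (e2 w0)⁻¹) * (pp g)⁻¹ * (e2 a0)⁻¹ := by group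
    _ = (pp g * e2 z0) * e2 a0 * (pp g)⁻¹ * (e2 a0)⁻¹ := by rw [h]; group
    _ = e2 z0 * (pp g * e2 a0) * (pp g)⁻¹ * (e2 a0)⁻¹ := by rw [z_comm]; group
    _ = e2 z0 := by rw [a_comm]; group

theorem pp4 (g : Fin 3 → Q8) : pp g ^ 2 ^ 2 = 1 := by
  rw [← map_pow]
  have : g ^ 2 ^ 2 = 1 := by
    funext k
    apply Subtype.ext
    have h : (g k).1 * (g k).1 * ((g k).1 * (g k).1) = 1 := (g k).2
    show (g k).1 ^ 2 ^ 2 = 1
    rw [← h, show 2 ^ 2 = 2 + 2 by norm_num, pow_add, pow_two]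
  rw [this, map_one]

theorem twoT : IsPGroup 2 (Ts e2 dd2) := by
  rintro ⟨x, hx⟩
  obtain ⟨g, rfl | rfl⟩ := memT hx
  · exact ⟨2, Subtype.ext (pp4 g)⟩
  · refine ⟨3, Subtype.ext ?_⟩
    show (pp g * e2 w0) ^ 2 ^ 3 = 1
    have h : (pp g * e2 w0) ^ 2 = pp (g * (fun k => g (Equiv.swap 0 1 k)) * ![NN, NN, 1]) := by
      rw [map_mul, map_mul, ← w_conj, ← z_eq, ← ww, pow_two]; group
    rw [show 2 ^ 3 = 2 * 2 ^ 2 by norm_num, pow_mul, h, pp4]

theorem card_rg : 256 ≤ Nat.card pp.range := by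
  have h1 : Nat.card (Fin 3 → Q8) = 512 := by
    rw [Nat.card_fun, cardQ]; simp
  have h2 : Nat.card pp.ker ≤ 2 := by
    have hs : (pp.ker : Set (Fin 3 → Q8)) ⊆ {1, fun _ => NN} := by
      intro g hg
      have hg' : pp g = pp 1 := by rw [map_one]; exact hg
      rcases pp_eq hg' with h | h
      · exact Or.inl h
      · right
        funext k
        apply Subtype.ext
        apply Subtype.ext
        rw [h k]
        show -(1 : M2) = N0.1
        decide +kernel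
    exact (Set.ncard_le_ncard hs).trans ((Set.ncard_insert_le _ _).trans (by simp))
  have h3 := pp.ker.card_mul_index
  rw [Subgroup.index_ker, h1] at h3
  nlinarith

theorem sylT (hm : Mo2aS) : IsSylowIn 2 (Ts e2 dd2) ⊤ := by
  have hc := hm.2.2.1
  haveI : Finite X2 := Nat.finite_of_card_ne_zero (by rw [hc]; norm_num)
  haveI : Fact (Nat.Prime 2) := ⟨Nat.prime_two⟩
  refine isSylowIn_of_not_dvd_relIndex le_top twoT ?_
  rw [Subgroup.relIndex_top_right]
  obtain ⟨k, hk⟩ := IsPGroup.iff_card.1 twoT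
  have hlt : pp.range < Ts e2 dd2 := by
    refine lt_of_le_of_ne (by rintro _ ⟨g, rfl⟩; exact ppT g) fun h => ?_
    have := wT
    rw [← h] at this
    obtain ⟨g, hg⟩ := this
    have h1 := comm_w 1
    rw [map_one, one_mul, ← hg, a_comm] at h1
    apply ne3.1
    rw [← h1]; group
  have h1 : Nat.card pp.range < Nat.card (Ts e2 dd2) := Set.ncard_lt_ncard hlt (Set.toFinite _)
  have h2 := card_rg
  have h3 : 8 < k := by
    have : 2 ^ 8 < 2 ^ k := by omega
    exact (Nat.pow_lt_pow_iff_right (by norm_num)).1 this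
  have h4 := (Ts e2 dd2).card_mul_index
  rw [hc, hk] at h4
  intro h5
  have h6 : 2 ^ 9 * 2 ∣ 4585351680 := by
    rw [← h4]; exact mul_dvd_mul (pow_dvd_pow 2 h3) h5
  revert h6; norm_num

theorem fz2b : Fz2bS := by
  intro hm
  have hc := hm.2.2.1
  haveI : Finite X2 := Nat.finite_of_card_ne_zero (by rw [hc]; norm_num)
  haveI : Fact (Nat.Prime 2) := ⟨Nat.prime_two⟩
  refine ⟨sylT hm, ?_, ?_, ?_, ?_, ?_, ?_⟩
  · intro x hx
    rw [mem_centralizer_singleton_iff]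
    have hw : e2 w0 * e2 z0 = e2 z0 * e2 w0 := by rw [← map_mul, ← map_mul, chk3.2.2.2]
    obtain ⟨g, rfl | rfl⟩ := memT hx
    · exact z_comm g
    · rw [mul_assoc, hw, ← mul_assoc, z_comm, mul_assoc]
  · rw [z_eq]; exact ppT _
  · rw [a_eq]; exact ppT _
  · rintro ⟨k, hk⟩
    have hk' : e2 z0 ^ k = e2 a0 := hk
    have h2 : e2 z0 ^ (2 : ℤ) = 1 := by rw [zpow_two, zz]
    rcases Int.even_or_odd' k with ⟨m, rfl | rfl⟩
    · rw [_root_.zpow_mul, h2, _root_.one_zpow] at hk'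
      exact ne3.2.1 hk'.symm
    · rw [_root_.zpow_add, _root_.zpow_mul, h2, _root_.one_zpow, one_mul, _root_.zpow_one] at hk'
      exact ne3.2.2 hk'.symm
  · intro x hx
    obtain ⟨g, rfl | rfl⟩ := memT hx
    · rw [a_comm, show e2 a0 * pp g * (pp g)⁻¹ * (e2 a0)⁻¹ = 1 by group]
      exact one_mem _
    · rw [comm_w]; exact mem_zpowers _
  · intro S hS hle
    obtain ⟨h, -, hh⟩ := (sylT hm).exists_conj hS
    obtain ⟨H, rfl⟩ := QuotientGroup.mk'_surjective _ h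
    have hcm : ∀ x ∈ Ts e2 dd2, x * mk2 (H⁻¹ * J6 * H) = mk2 (H⁻¹ * J6 * H) * x := by
      intro x hx
      have h1 : mk2 H * x * (mk2 H)⁻¹ ∈ S := by rw [← hh]; exact conj_mem_cj hx
      have h2 := mem_centralizer_singleton_iff.1 (hle h1)
      rw [map_mul, map_mul, map_inv]
      calc x * ((mk2 H)⁻¹ * mk2 J6 * mk2 H)
          = (mk2 H)⁻¹ * (mk2 H * x * (mk2 H)⁻¹ * mk2 J6) * mk2 H := by group
        _ = (mk2 H)⁻¹ * mk2 J6 * mk2 H * x := by rw [h2]; group
    have hJ : J6 * J6 = m6 := by decide +kernel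
    have hm6 : ∀ g : Sp6, g * m6 = m6 * g := mem_center_iff.1 ((cen2 m6).2 (Or.inr rfl))
    have hsq : H⁻¹ * J6 * H * (H⁻¹ * J6 * H) = m6 := by
      calc H⁻¹ * J6 * H * (H⁻¹ * J6 * H) = H⁻¹ * (J6 * J6) * H := by group
        _ = m6 := by rw [hJ, hm6]; group
    generalize H⁻¹ * J6 * H = y at hcm hsq
    have hsq' : y.1 * y.1 = -1 := congrArg Subtype.val hsq
    have hy2 : mk2 y ^ 2 ^ 1 = 1 := by
      rw [pow_one, pow_two, ← map_mul, ← map_one mk2, mk2_eq]
      exact Or.inr hsq'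
    have hyT : mk2 y ∈ Ts e2 dd2 := by
      refine (sylT hm).mem_of_norm (mem_top _) hy2 (centralizer_le_normalizer _ ?_)
      rw [mem_centralizer_iff]
      exact hcm
    obtain ⟨g, hg | hg⟩ := memT hyT
    · have h1 : (BB g).1 * (BB g).1 = -1 := by
        rcases (mk2_eq y (BB g)).1 hg with h | h
        · rw [← h, hsq']
        · rw [h, neg_mul_neg] at hsq'; exact hsq'
      have h2 : (g 0).1.1 * (g 0).1.1 = -1 := by
        have h3 : Bm (fun k => (g k).1.1 * (g k).1.1) = Bm (fun _ => -1) := by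
          rw [Bm_mul, Bm_neg, Bm_one]; exact h1
        exact Bm_inj h3 0
      have h4 : ∀ x : Q8, g 0 * x = x * g 0 := by
        intro x
        have h5 := hcm _ (ppT (Pi.mulSingle 0 x))
        rw [hg, ← map_mul, ← map_mul] at h5
        rcases pp_eq h5 with h6 | h6
        · have h7 := congrFun h6 0
          simpa using h7.symm
        · have h7 := h6 1
          simp only [Pi.mul_apply, ne_eq, one_ne_zero, not_false_eq_true, Pi.mulSingle_eq_of_ne,
            one_mul, mul_one] at h7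
          exact absurd h7 (negQ _)
      exact cenQ _ (congrArg Subtype.val (h4 PP)) (congrArg Subtype.val (h4 QQ)) h2
    · have h1 := comm_w g
      rw [← hg, ← hcm _ (by rw [a_eq]; exact ppT _)] at h1
      apply ne3.1
      rw [← h1]; group

end Cfsg.Agent.H80.G40Fz2b
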