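import Cfsg.Agent.H78.G40A

/-! Project L40G, piece ID4: the wreathed case is identified by a pair trick with the holomorph of
`S3 × S3`. -/

set_option autoImplicit false
set_option linter.unusedSectionVars false

noncomputable section

namespace Cfsg.Agent.H80.G40Id4

open Subgroup Cfsg.Agent.H83 Cfsg.Agent.H46.L40 Cfsg.Agent.H78.G40
open Cfsg.Agent.H46.S94 (Wr Base)

universe u

abbrev YY : Type := S3 × S3
abbrev MM : Type := SemidirectProduct YY (MulAut YY) (MonoidHom.id _)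

def sw : MulAut YY := MulEquiv.prodComm

theorem sw_apply (x y : S3) : sw (x, y) = (y, x) := rfl

theorem sw_sw : sw * sw = 1 := by
  ext ⟨x, y⟩ <;> rfl

theorem sw_inv : sw⁻¹ = sw := inv_eq_of_mul_eq_one_right sw_sw

theorem chk : w0 * w0 = z0 ∧ w0⁻¹ * w0⁻¹ = z0 ∧ w0 * a0 * w0⁻¹ = a0 * z0 ∧
    w0⁻¹ * a0 * w0⁻¹⁻¹ = a0 * z0 ∧ w0⁻¹ * x12 * w0⁻¹⁻¹ = w0 * x12 * w0⁻¹ ∧
    w0⁻¹ * x21 * w0⁻¹⁻¹ = w0 * x21 * w0⁻¹ ∧ w0 * n23 * w0 = n23 * w0 * n23 ∧
    w0⁻¹ * n23 * w0⁻¹ = n23 * w0⁻¹ * n23 ∧ z0 ≠ 1 ∧ z0 * z0 = 1 := by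
  decide +kernel

theorem sw_ne : sw ≠ 1 := by
  intro h
  have h1 : sw (z0, 1) = (z0, 1) := by rw [h]; rfl
  rw [sw_apply] at h1
  exact chk.2.2.2.2.2.2.2.2.1 (congrArg Prod.snd h1)

def il : YY →* MM := SemidirectProduct.inl
def tm : MM := SemidirectProduct.inr sw
def dg : S3 →* YY := (MonoidHom.id S3).prod (MonoidHom.id S3)

theorem dg_apply (m : S3) : dg m = (m, m) := rfl

theorem tm_tm : tm * tm = 1 := by
  unfold tm
  rw [← map_mul, sw_sw, map_one]

theorem tm_il (x y : S3) : tm * il (x, y) * tm = il (y, x) := by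
  have h := SemidirectProduct.inl_aut (φ := MonoidHom.id (MulAut YY)) sw (x, y)
  rw [sw_inv] at h
  exact h.symm

theorem tm_il' (x y : S3) : tm * il (x, y) = il (y, x) * tm := by
  rw [← tm_il x y, mul_assoc _ tm tm, tm_tm, mul_one]

theorem rlM : Rl (il.comp dg) (il (w0, w0⁻¹)) tm w0 := by
  obtain ⟨c1, c2, c3, c4, c5, c6, c7, c8, c9, c10⟩ := chk
  refine ⟨tm_tm, fun m => tm_il' m m, ?_, ?_, ?_, ?_, ?_, ?_⟩
  · show il _ * il _ = il (z0, z0)
    rw [← map_mul, Prod.mk_mul_mk, c1, c2]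
  · show il _ * tm * (il _)⁻¹ = tm * il (z0, z0)
    rw [← map_inv, Prod.inv_mk, mul_assoc, tm_il', tm_il', ← mul_assoc, ← map_mul, Prod.mk_mul_mk,
      inv_inv, c1, c2]
  · show il _ * il (a0, a0) * (il _)⁻¹ = il (a0 * z0, a0 * z0)
    rw [← map_inv, ← map_mul, ← map_mul, Prod.inv_mk, Prod.mk_mul_mk, Prod.mk_mul_mk, c3, c4]
  · show il _ * il (x12, x12) * (il _)⁻¹ = il (w0 * x12 * w0⁻¹, w0 * x12 * w0⁻¹)
    rw [← map_inv, ← map_mul, ← map_mul, Prod.inv_mk, Prod.mk_mul_mk, Prod.mk_mul_mk, c5]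
  · show il _ * il (x21, x21) * (il _)⁻¹ = il (w0 * x21 * w0⁻¹, w0 * x21 * w0⁻¹)
    rw [← map_inv, ← map_mul, ← map_mul, Prod.inv_mk, Prod.mk_mul_mk, Prod.mk_mul_mk, c6]
  · show il _ * il (n23, n23) * il _ = il (n23, n23) * il _ * il (n23, n23)
    rw [← map_mul, ← map_mul, ← map_mul, ← map_mul, Prod.mk_mul_mk, Prod.mk_mul_mk, Prod.mk_mul_mk,
      Prod.mk_mul_mk, c7, c8]

theorem rl_prod {G : Type u} [Group G] {K : Type} [Group K] {φ : S3 →* G} {s t : G} {e : S3 →* K}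
    {σ τ : K} {c : S3} (h : Rl φ s t c) (k : Rl e σ τ c) :
    Rl (φ.prod e) ((s, σ) : G × K) (t, τ) c :=
  ⟨Prod.ext h.tt k.tt, fun m => Prod.ext (h.tL m) (k.tL m), Prod.ext h.ss k.ss, Prod.ext h.st k.st,
    Prod.ext h.sa k.sa, Prod.ext h.s12 k.s12, Prod.ext h.s21 k.s21, Prod.ext h.br k.br⟩

theorem finMM (hk : Kit) : Finite MM := by
  haveI := hk.base.fin
  haveI : Finite (MulAut YY) :=
    Finite.of_injective (fun f : MulAut YY => (f : YY → YY)) DFunLike.coe_injective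
  exact Finite.of_equiv _ (SemidirectProduct.equivProd (φ := MonoidHom.id (MulAut YY))).symm

theorem all_of (hk : Kit) (E : Subgroup YY) (hd : ∀ m, (m, m) ∈ E) (hs : (w0, w0⁻¹) ∈ E) (y : YY) :
    y ∈ E := by
  haveI := hk.base.simple
  have hn : (E.comap (MonoidHom.inl S3 S3)).Normal := by
    refine ⟨fun x hx g => ?_⟩
    have := E.mul_mem (E.mul_mem (hd g) (show (x, (1 : S3)) ∈ E from hx)) (E.inv_mem (hd g))
    rw [Prod.inv_mk, Prod.mk_mul_mk, Prod.mk_mul_mk, mul_one, mul_inv_cancel] at this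
    exact this
  have hz : z0 ∈ E.comap (MonoidHom.inl S3 S3) := by
    have := E.mul_mem hs (hd w0)
    rw [Prod.mk_mul_mk, chk.1, inv_mul_cancel] at this
    exact this
  have ht : E.comap (MonoidHom.inl S3 S3) = ⊤ := by
    rcases hn.eq_bot_or_eq_top with h | h
    · rw [h] at hz
      exact absurd (Subgroup.mem_bot.mp hz) chk.2.2.2.2.2.2.2.2.1
    · exact h
  obtain ⟨x, y⟩ := y
  have h1 : x * y⁻¹ ∈ E.comap (MonoidHom.inl S3 S3) := by rw [ht]; trivial
  have := E.mul_mem (show (x * y⁻¹, (1 : S3)) ∈ E from h1) (hd y)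
  rw [Prod.mk_mul_mk, one_mul, inv_mul_cancel_right] at this
  exact this

theorem invgen (hk : Kit) : Subgroup.closure {m : S3 | m * m = 1} = ⊤ := by
  haveI := hk.base.simple
  have hn : (Subgroup.closure {m : S3 | m * m = 1}).Normal := by
    refine ⟨fun x hx g => ?_⟩
    induction hx using Subgroup.closure_induction with
    | mem x hx =>
      apply Subgroup.subset_closure
      show g * x * g⁻¹ * (g * x * g⁻¹) = 1
      have hx' : x * x = 1 := hx
      calc g * x * g⁻¹ * (g * x * g⁻¹) = g * (x * x) * g⁻¹ := by group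
        _ = 1 := by rw [hx']; group
    | one => simp
    | mul x y _ _ hx hy =>
      have := mul_mem hx hy
      rwa [show g * x * g⁻¹ * (g * y * g⁻¹) = g * (x * y) * g⁻¹ by group] at this
    | inv x _ hx =>
      have := inv_mem hx
      rwa [show (g * x * g⁻¹)⁻¹ = g * x⁻¹ * g⁻¹ by group] at this
  rcases hn.eq_bot_or_eq_top with h | h
  · have hz : z0 ∈ Subgroup.closure {m : S3 | m * m = 1} := Subgroup.subset_closure chk.2.2.2.2.2.2.2.2.2
    rw [h] at hz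
    exact absurd (Subgroup.mem_bot.mp hz) chk.2.2.2.2.2.2.2.2.1
  · exact h

def ee (p : YY × Bool) : MM := ⟨p.1, cond p.2 sw 1⟩

theorem ee_inj : Function.Injective ee := by
  rintro ⟨y, b⟩ ⟨y', b'⟩ h
  have h1 : y = y' := congrArg SemidirectProduct.left h
  have h2 : cond b sw 1 = cond b' sw 1 := congrArg SemidirectProduct.right h
  subst h1
  cases b <;> cases b'
  · rfl
  · exact absurd h2.symm sw_ne
  · exact absurd h2 sw_ne
  · rfl

theorem ee_f (y : YY) : ee (y, false) = il y := rfl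

theorem ee_t (y : YY) : ee (y, true) = il y * tm :=
  (SemidirectProduct.inl_left_mul_inr_right (ee (y, true))).symm

theorem main (hk : Kit) {G : Type u} [Group G] (φ : S3 →* G) (t : G) (D : Subgroup (G × MM))
    [Finite D] (hc : Nat.card D ≤ 5616 * 11232) (hφ : ∀ m, (φ m, il (m, m)) ∈ D)
    (ht : (t, tm) ∈ D) (hs : ∃ s, (s, il (w0, w0⁻¹)) ∈ D) : ∃ B, Wr φ t B := by
  haveI := hk.base.fin
  have sur : ∀ y : YY, ∃ g, (g, il y) ∈ D := by
    intro y
    have := all_of hk ((D.map (MonoidHom.snd G MM)).comap il)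
      (fun m => ⟨_, hφ m, rfl⟩) (by obtain ⟨s, hs⟩ := hs; exact ⟨_, hs, rfl⟩) y
    obtain ⟨⟨g, k⟩, h1, h2⟩ := this
    have h3 : k = il y := h2
    exact ⟨g, h3 ▸ h1⟩
  have sur2 : ∀ p, ∃ d : D, (d : G × MM).2 = ee p := by
    rintro ⟨y, b⟩
    obtain ⟨g, hg⟩ := sur y
    cases b
    · exact ⟨⟨_, hg⟩, rfl⟩
    · exact ⟨⟨_, D.mul_mem hg ht⟩, (ee_t y).symm⟩
  choose j hj using sur2
  have jinj : Function.Injective j := fun p q h => ee_inj (by rw [← hj, ← hj, h])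
  have jbij : Function.Bijective j := by
    apply jinj.bijective_of_nat_card_le
    rw [Nat.card_prod, Nat.card_prod, hk.card, Nat.card_eq_fintype_card (α := Bool),
      Fintype.card_bool]
    omega
  have uniq : ∀ g g' k, (g, k) ∈ D → (g', k) ∈ D → g = g' := by
    intro g g' k h h'
    obtain ⟨p, hp⟩ := jbij.2 ⟨_, h⟩
    obtain ⟨q, hq⟩ := jbij.2 ⟨_, h'⟩
    have h1 : ee p = k := by rw [← hj, hp]
    have h2 : ee q = k := by rw [← hj, hq]
    have h3 : p = q := ee_inj (h1.trans h2.symm)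
    subst h3
    have h4 := hp.symm.trans hq
    exact congrArg Prod.fst (congrArg Subtype.val h4)
  choose f hf using fun x : S3 => sur (x, 1)
  have fm : ∀ x y, f (x * y) = f x * f y := by
    intro x y
    have h := D.mul_mem (hf x) (hf y)
    rw [Prod.mk_mul_mk, ← map_mul, Prod.mk_mul_mk, mul_one] at h
    exact uniq _ _ _ (hf _) h
  let ψ : S3 →* G := MonoidHom.mk' f fm
  have hψ : ∀ x, (ψ x, il (x, 1)) ∈ D := hf
  have hψt : ∀ x, (t * ψ x * t, il (1, x)) ∈ D := by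
    intro x
    have h := D.mul_mem (D.mul_mem ht (hψ x)) ht
    rwa [Prod.mk_mul_mk, Prod.mk_mul_mk, tm_il] at h
  have hd : ∀ x, ψ x * (t * ψ x * t) = φ x := by
    intro x
    have h := D.mul_mem (hψ x) (hψt x)
    rw [Prod.mk_mul_mk, ← map_mul, Prod.mk_mul_mk, mul_one, one_mul] at h
    exact uniq _ _ _ h (hφ x)
  refine ⟨ψ.range, ?_, ?_, ?_, ?_⟩
  · rintro _ ⟨x, rfl⟩ _ ⟨y, rfl⟩
    have h := D.mul_mem (hψ x) (hψt y)
    have h' := D.mul_mem (hψt y) (hψ x)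
    rw [Prod.mk_mul_mk, ← map_mul, Prod.mk_mul_mk, mul_one, one_mul] at h
    rw [Prod.mk_mul_mk, ← map_mul, Prod.mk_mul_mk, mul_one, one_mul] at h'
    exact uniq _ _ _ h h'
  · rw [MonoidHom.range_eq_map, ← invgen hk, MonoidHom.map_closure]
    apply Subgroup.closure_mono
    rintro _ ⟨m, hm, rfl⟩
    refine ⟨?_, ?_⟩
    · rw [← MonoidHom.map_closure, invgen hk]
      exact ⟨m, trivial, rfl⟩
    · have hm' : m * m = 1 := hm
      rw [← map_mul, hm', map_one]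
  · rintro _ ⟨x, rfl⟩
    exact ⟨x, (hd x).symm⟩
  · intro a
    exact ⟨ψ a, ⟨a, rfl⟩, hd a⟩

theorem id4 : Id4S.{u} := by
  intro hk hce G _ _ d hd
  haveI := finMM hk
  have hr : Rl d.φ (d.φ2 w0) d.t w0 := hd ▸ d.rl
  have hc := hce (G × MM) (d.φ.prod (il.comp dg)) _ _ (rl_prod hr rlM)
  refine main hk d.φ d.t _ hc (fun m => ?_) ?_ ⟨d.φ2 w0, ?_⟩
  · exact Subgroup.subset_closure (Or.inl ⟨m, rfl⟩)
  · exact Subgroup.subset_closure (Or.inr (Or.inr rfl))
  · exact Subgroup.subset_closure (Or.inr (Or.inl rfl))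

end Cfsg.Agent.H80.G40Id4
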