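import Cfsg.Agent.H96.D4Defs
import Cfsg.Agent.H83.Base

/-!
# The automizer of `Q` for `³D₄(3)`: an element of order thirteen in the torus
-/

set_option autoImplicit false

namespace Cfsg.Agent.H80.D4T

open Cfsg.Agent.H96.DF Cfsg.Agent.H96.CP Subgroup

universe u

variable {F K : Type u} [Field F] [Field K] [Algebra F K] {C : Tri F K}

/-! ### Finite differences -/

/-- all `n`-fold differences vanish -/
def Dg : ℕ → (K → F) → Prop
  | 0, f => ∀ t, f t = 0
  | n + 1, f => ∀ h, Dg n fun t => f (t + h) - f t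

omit [Algebra F K] in
theorem Dg.zero (n : ℕ) : Dg n (fun _ : K => (0 : F)) := by
  induction n with
  | zero => exact fun _ => rfl
  | succ n ih => exact fun h => by simpa using ih

omit [Algebra F K] in
theorem Dg.add {n : ℕ} {f g : K → F} (hf : Dg n f) (hg : Dg n g) : Dg n fun t => f t + g t := by
  induction n generalizing f g with
  | zero => exact fun t => by change f t + g t = 0; rw [hf t, hg t, add_zero]
  | succ n ih =>
    intro h
    have := ih (hf h) (hg h)
    convert this using 2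
    ring

theorem sum_three [Fintype F] (h3 : Nat.card F = 3) (h : (3 : F) = 0) (g : F → F) :
    ∑ c, g c = g 0 + g 1 + g 2 := by
  classical
  have h1 : (2 : F) ≠ 0 := fun e => one_ne_zero (by linear_combination h - e : (1 : F) = 0)
  have h2 : (1 : F) ≠ 2 := fun e => one_ne_zero (by linear_combination -e : (1 : F) = 0)
  have e : ({0, 1, 2} : Finset F) = Finset.univ := by
    apply Finset.eq_univ_of_card
    rw [← Nat.card_eq_fintype_card, h3, Finset.card_eq_three]
    exact ⟨0, 1, 2, zero_ne_one, h1.symm, h2, rfl⟩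
  rw [← e, Finset.sum_insert (by simp [h1.symm]), Finset.sum_pair h2, add_assoc]

theorem Dg.line [Fintype F] (h3 : Nat.card F = 3) (h : (3 : F) = 0) {n : ℕ} {f : K → F}
    (hf : Dg (n + 2) f) (e : K) : Dg n fun t => ∑ c : F, f (t + c • e) := by
  have := hf e e
  convert this using 2 with t
  rw [sum_three h3 h, zero_smul, one_smul, two_smul, add_zero, ← add_assoc t e e]
  beta_reduce
  linear_combination f (t + e) * h

theorem Dg.sum [Finite K] (C : Tri F K) (h3 : Nat.card F = 3) (h : (3 : F) = 0) {f : K → F}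
    (hf : Dg 6 f) : ∑ᶠ t, f t = 0 := by
  haveI : Finite F := Finite.of_injective _ (algebraMap F K).injective
  haveI := Fintype.ofFinite F
  haveI := Fintype.ofFinite K
  let b := Module.finBasisOfFinrankEq F K C.finrank
  have h0 := ((hf.line h3 h (b 2)).line h3 h (b 1)).line h3 h (b 0) 0
  let φ : F × F × F → K := fun c => 0 + c.1 • b 0 + c.2.1 • b 1 + c.2.2 • b 2
  have hs : Function.Surjective φ := fun x => ⟨(b.repr x 0, b.repr x 1, b.repr x 2), by
    have := b.sum_repr x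
    rw [Fin.sum_univ_three] at this
    simpa [φ] using this⟩
  have hb : Function.Bijective φ := hs.bijective_of_nat_card_le (by
    rw [Nat.card_prod, Nat.card_prod, C.card]; exact le_of_eq (by ring))
  rw [finsum_eq_sum_of_fintype, ← hb.sum_comp f, Fintype.sum_prod_type, ← h0]
  exact Finset.sum_congr rfl fun c _ => Fintype.sum_prod_type _

/-- the height filtration -/
def Ht : ℕ → V F K → Prop
  | 0, v => v = 0
  | 1, v => v.2.1 = 0 ∧ v.2.2.1 = 0 ∧ v.2.2.2 = 0
  | 2, v => v.2.2.1 = 0 ∧ v.2.2.2 = 0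
  | 3, v => v.2.2.2 = 0
  | _ + 4, _ => True

theorem Ht.rho {i : ℕ} {v : V F K} (hv : Ht i v) (t : K) : Ht i (ρ C t v) := by
  match i, hv with
  | 0, hv => rw [show v = 0 from hv]; exact map_zero _
  | 1, ⟨h1, h2, h3⟩ => simp [Ht, ρ_apply, rmap, h1, h2, h3]
  | 2, ⟨h2, h3⟩ => simp [Ht, ρ_apply, rmap, h2, h3]
  | 3, h3 => exact h3
  | _ + 4, _ => trivial

theorem Ht.sub {i : ℕ} (hi : i < 4) {v : V F K} (hv : Ht (i + 1) v) (t : K) :
    Ht i (ρ C t v - v) := by
  match i, hi, hv with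
  | 0, _, ⟨h1, h2, h3⟩ =>
    obtain ⟨a, x, y, u⟩ := v
    simp only at h1 h2 h3
    simp [Ht, ρ_apply, rmap, h1, h2, h3]
  | 1, _, ⟨h2, h3⟩ => simp [Ht, ρ_apply, rmap, h2, h3]
  | 2, _, h3 => simp [Ht, ρ_apply, rmap, show v.2.2.2 = 0 from h3]
  | 3, _, _ => simp [Ht, ρ_apply, rmap]

theorem dg_bil (b : V F K →ₗ[F] V F K →ₗ[F] F) (n : ℕ) : ∀ (i j : ℕ) (v w : V F K), i ≤ 4 → j ≤ 4 →
    Ht i v → Ht j w → i + j ≤ n + 1 → Dg n fun t => b (ρ C t v) (ρ C t w) := by
  have z1 : ∀ n w, Dg n fun t => b (ρ C t 0) (ρ C t w) := fun n w => by simpa using Dg.zero n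
  have z2 : ∀ n v, Dg n fun t => b (ρ C t v) (ρ C t 0) := fun n w => by simpa using Dg.zero n
  induction n with
  | zero =>
    intro i j v w _ _ hv hw hij
    rcases i with _ | i
    · rw [show v = 0 from hv]; exact z1 _ _
    · obtain rfl : j = 0 := by omega
      rw [show w = 0 from hw]; exact z2 _ _
  | succ n ih =>
    intro i j v w hi hj hv hw hij
    rcases i with _ | i
    · rw [show v = 0 from hv]; exact z1 _ _
    rcases j with _ | j
    · rw [show w = 0 from hw]; exact z2 _ _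
    intro h
    have h1 := ih i (j + 1) _ _ (by omega) hj (hv.sub (C := C) (by omega) h) (hw.rho (C := C) h)
      (by omega)
    have h2 := ih (i + 1) j _ _ hi (by omega) hv (hw.sub (C := C) (by omega) h) (by omega)
    convert h1.add h2 using 2 with t
    simp only [ρ_add, LinearEquiv.mul_apply, map_sub, LinearMap.sub_apply]
    ring

theorem sum_bil [Finite K] (h3 : Nat.card F = 3) (h : (3 : F) = 0)
    (b : V F K →ₗ[F] V F K →ₗ[F] F) {v w : V F K} (hvw : v.2.2.2 = 0 ∨ w.2.2.2 = 0) :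
    ∑ᶠ t, b (ρ C t v) (ρ C t w) = 0 := by
  refine Dg.sum C h3 h ?_
  rcases hvw with e | e
  · exact dg_bil b 6 3 4 v w (by norm_num) le_rfl e trivial le_rfl
  · exact dg_bil b 6 4 3 v w le_rfl (by norm_num) trivial e le_rfl

/-! ### The group of the `ρ t` and its normalizer -/

variable (C)

/-- `ρ` as a homomorphism -/
def rh : Multiplicative K →* (V F K ≃ₗ[F] V F K) where
  toFun t := ρ C t.toAdd
  map_one' := ρ_zero C
  map_mul' _ _ := ρ_add C _ _

theorem rho_inj : Function.Injective (ρ C) := fun s t h => by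
  simpa [ρ_apply, rmap, e3] using congrArg (fun g : V F K ≃ₗ[F] V F K => (g e3).2.2.1) h

variable {C}

instance finL [Finite K] : Finite (V F K ≃ₗ[F] V F K) := by
  haveI : Finite F := Finite.of_injective _ (algebraMap F K).injective
  exact Finite.of_injective (fun g : V F K ≃ₗ[F] V F K => (g : V F K → V F K)) DFunLike.coe_injective

theorem nv_iff [Finite K] {d : V F K ≃ₗ[F] V F K} :
    NV C d ↔ d ∈ normalizer ((rh C).range : Set (V F K ≃ₗ[F] V F K)) := by
  constructor
  · intro h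
    refine H83.cj_eq_self_iff.1 (eq_of_le_of_card_ge ?_ (H83.card_cj _ _).ge)
    rintro _ ⟨_, ⟨t, rfl⟩, rfl⟩
    obtain ⟨s, hs⟩ := h t.toAdd
    exact ⟨Multiplicative.ofAdd s, hs.symm⟩
  · intro h t
    obtain ⟨s, hs⟩ := (mem_normalizer_iff.1 h (ρ C t)).1 ⟨Multiplicative.ofAdd t, rfl⟩
    exact ⟨s.toAdd, hs.symm⟩

theorem rho_cube (h : (3 : F) = 0) (t : K) : ρ C t ^ 3 = 1 := by
  have e : t + t + t = 0 := by
    have : (3 : K) = 0 := by rw [← map_ofNat (algebraMap F K), h, map_zero]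
    linear_combination t * this
  rw [pow_three', ← ρ_add, ← ρ_add, e, ρ_zero]

theorem isPGroup_rh (h : (3 : F) = 0) : IsPGroup 3 (rh C).range := by
  rintro ⟨_, t, rfl⟩
  exact ⟨1, Subtype.ext (rho_cube h _)⟩

theorem free [Finite K] (h : (3 : F) = 0) {D : Subgroup (V F K ≃ₗ[F] V F K)} (hD : DV C 3 D)
    {g : V F K ≃ₗ[F] V F K} (hg : g ∈ D) {t : K} (ht : t ≠ 0) (hb : NV C (g⁻¹ * ρ C t * g)) :
    NV C g := by
  have h1 : IsPGroup 3 (zpowers (g⁻¹ * ρ C t * g)) := H83.isPGroup_zpowers (k := 1) (by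
    have := H83.conj_pow' g⁻¹ (ρ C t) 3
    rw [inv_inv, rho_cube h] at this
    simpa using this)
  obtain ⟨s, hs⟩ := hD.syl (zpowers (g⁻¹ * ρ C t * g) ⊔ (rh C).range)
    (sup_le (zpowers_le.2 (mul_mem (mul_mem (inv_mem hg) (hD.rho t)) hg))
      (by rintro _ ⟨t, rfl⟩; exact hD.rho _))
    (H83.isPGroup_sup h1 (isPGroup_rh h) (zpowers_le.2 (nv_iff.1 hb)))
    (fun t => mem_sup_right ⟨Multiplicative.ofAdd t, rfl⟩) _ (mem_sup_left (mem_zpowers _))
  have h2 := hD.ti g⁻¹ (inv_mem hg) t s ht (by rw [inv_inv, hs])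
  exact nv_iff.2 (inv_mem_iff.1 (nv_iff.1 h2))

/-! ### The stabilizer of the flag -/

/-- the maps which are trivial on the factors of the flag -/
def Uni (F K : Type u) [Field F] [Field K] [Algebra F K] : Subgroup (V F K ≃ₗ[F] V F K) where
  carrier := {g | ∀ i < 4, ∀ v, Ht (i + 1) v → Ht i (g v - v)}
  one_mem' := fun i hi v _ => by
    rw [LinearEquiv.one_eq_refl, LinearEquiv.refl_apply, sub_self]
    interval_cases i <;> simp [Ht]
  mul_mem' := fun {g k} hg hk i hi v hv => by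
    have h1 := hk i hi v hv
    have h2 : Ht (i + 1) (k v) := by
      interval_cases i <;> simp_all [Ht, sub_eq_zero]
    have h3 := hg i hi _ h2
    rw [LinearEquiv.mul_apply]
    interval_cases i <;> simp_all [Ht, sub_eq_zero]
  inv_mem' := fun {g} hg => by
    have e : ∀ v, g (g⁻¹ v) = v := g.apply_symm_apply
    have h3 : ∀ v, (g⁻¹ v).2.2.2 = v.2.2.2 := fun v => by
      have := hg 3 (by norm_num) (g⁻¹ v) trivial
      rw [e] at this
      exact (sub_eq_zero.1 this).symm
    have h2 : ∀ v : V F K, v.2.2.2 = 0 → (g⁻¹ v).2.2.1 = v.2.2.1 := fun v hv => by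
      have := hg 2 (by norm_num) (g⁻¹ v) ((h3 v).trans hv)
      rw [e] at this
      exact (sub_eq_zero.1 this.1).symm
    have h1 : ∀ v : V F K, v.2.2.1 = 0 → v.2.2.2 = 0 → (g⁻¹ v).2.1 = v.2.1 := fun v hv hv' => by
      have := hg 1 (by norm_num) (g⁻¹ v) ⟨(h2 v hv').trans hv, (h3 v).trans hv'⟩
      rw [e] at this
      exact (sub_eq_zero.1 this.1).symm
    intro i hi v hv
    interval_cases i
    · have := hg 0 (by norm_num) (g⁻¹ v)
        ⟨(h1 v hv.2.1 hv.2.2).trans hv.1, (h2 v hv.2.2).trans hv.2.1, (h3 v).trans hv.2.2⟩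
      rw [e] at this
      exact sub_eq_zero.2 (sub_eq_zero.1 this).symm
    · exact ⟨sub_eq_zero.2 (h1 v hv.1 hv.2), sub_eq_zero.2 (h2 v hv.2), sub_eq_zero.2 (h3 v)⟩
    · exact ⟨sub_eq_zero.2 (h2 v hv), sub_eq_zero.2 (h3 v)⟩
    · exact sub_eq_zero.2 (h3 v)

theorem isPGroup_Uni [CharP F 3] : IsPGroup 3 (Uni F K) := by
  rintro ⟨g, hg⟩
  refine ⟨2, Subtype.ext (LinearEquiv.toLinearMap_injective ?_)⟩
  haveI : CharP (Module.End F (V F K)) 3 :=
    charP_of_injective_algebraMap (algebraMap F (Module.End F (V F K))).injective 3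
  set N : Module.End F (V F K) := (g : Module.End F (V F K)) - 1 with hN
  have h4 : N ^ 4 = 0 := LinearMap.ext fun v =>
    hg 0 (by norm_num) _ (hg 1 (by norm_num) _ (hg 2 (by norm_num) _ (hg 3 (by norm_num) v trivial)))
  have h9 : N ^ 3 ^ 2 = 0 := pow_eq_zero_of_le (by norm_num) h4
  rw [hN, sub_pow_char_pow_of_commute 3 2 (Commute.one_right _), one_pow, sub_eq_zero] at h9
  exact (map_pow (LinearEquiv.automorphismGroup.toLinearMapMonoidHom) g (3 ^ 2)).trans h9

theorem nv_of_flag [CharP F 3] {D : Subgroup (V F K ≃ₗ[F] V F K)} (hD : DV C 3 D)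
    (hf : ∀ d ∈ D, ∀ i v, Ht i v → Ht i (d v)) {d : V F K ≃ₗ[F] V F K} (hd : d ∈ D) : NV C d := by
  intro t
  refine hD.syl (D ⊓ Uni F K) inf_le_left (isPGroup_Uni.to_le inf_le_right)
    (fun s => ⟨hD.rho s, fun i hi v hv => hv.sub hi s⟩) _
    (mem_inf.2 ⟨D.mul_mem (D.mul_mem hd (hD.rho t)) (D.inv_mem hd), fun i hi v hv => ?_⟩)
  have := hf d hd i _ ((hf d⁻¹ (inv_mem hd) _ v hv).sub (C := C) hi t)
  rwa [map_sub, show d (d⁻¹ v) = v from d.apply_symm_apply v] at this

/-! ### The invariant form -/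

/-- functions of two vectors -/
def Fn (F K : Type u) : Type u := V F K → V F K → F

instance : AddCommGroup (Fn F K) := inferInstanceAs (AddCommGroup (V F K → V F K → F))

instance : DistribMulAction (V F K ≃ₗ[F] V F K) (Fn F K) where
  smul g m := fun v w => m (g⁻¹ v) (g⁻¹ w)
  one_smul _ := rfl
  mul_smul _ _ _ := rfl
  smul_zero _ := rfl
  smul_add _ _ _ := rfl

/-- evaluation -/
def ev (v w : V F K) : Fn F K →+ F where
  toFun m := m v w
  map_zero' := rfl
  map_add' _ _ := rfl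

variable (C)

/-- the form `ω(n_s v, w)` -/
def ms (s : K) : V F K →ₗ[F] V F K →ₗ[F] F := LinearMap.mk₂ F
  (fun v w => C.T (s * v.2.1) * w.2.2.2 + v.2.2.2 * C.T (s * w.2.1) - C.T (C.cr s v.2.2.1 * w.2.2.1))
  (fun _ _ _ => Tri.inj (K := K) (by simp only [Prod.fst_add, Prod.snd_add]; d4n; ring))
  (fun _ _ _ => Tri.inj (K := K) (by
    simp only [Prod.smul_fst, Prod.smul_snd, smul_eq_mul]; d4n; ring))
  (fun _ _ _ => Tri.inj (K := K) (by simp only [Prod.fst_add, Prod.snd_add]; d4n; ring))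
  (fun _ _ _ => Tri.inj (K := K) (by
    simp only [Prod.smul_fst, Prod.smul_snd, smul_eq_mul]; d4n; ring))

theorem ms_apply (s : K) (v w : V F K) : ms C s v w =
    C.T (s * v.2.1) * w.2.2.2 + v.2.2.2 * C.T (s * w.2.1) - C.T (C.cr s v.2.2.1 * w.2.2.1) := rfl

theorem ms_rho (s t : K) (v w : V F K) : ms C s (ρ C t v) (ρ C t w) = ms C s v w := by
  apply Tri.inj (K := K); simp only [ms_apply, ρ_apply, rmap]; d4n; ring

theorem ms_tor (s : K) (c : Kˣ × Fˣ) (h1 : (c.1 : K) = 1 ∨ (c.1 : K) = -1) (h2 : (c.2 : F) ^ 2 = 1)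
    (v w : V F K) : ms C s (torV C c v) (torV C c w) = ms C s v w := by
  rw [← one_mul (ms C s v w), ← h2]
  rcases h1 with h1 | h1 <;>
  · apply Tri.inj (K := K); simp only [ms_apply, torV_apply, vmap, h1]; d4n; ring

variable {C}

theorem t13 [Finite K] {p : ℕ} [Fact p.Prime] [CharP F p] (trm : TrmStmt.{u}) : T13Stmt C p := by
  intro h3 D hD ⟨d0, hd0, hn⟩
  haveI : Finite F := Finite.of_injective _ (algebraMap F K).injective
  obtain rfl : p = 3 := by
    haveI := Fintype.ofFinite F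
    obtain ⟨n, hp, e⟩ := FiniteField.card F p
    rw [← Nat.card_eq_fintype_card, h3] at e
    exact (Nat.prime_dvd_prime_iff_eq hp Nat.prime_three).1 (e ▸ dvd_pow_self p n.ne_zero)
  have h : (3 : F) = 0 := by exact_mod_cast CharP.cast_eq_zero F 3
  have h2 : (2 : F) ≠ 0 := fun e => one_ne_zero (by linear_combination h - e : (1 : F) = 0)
  by_contra hl
  push Not at hl
  have inv : ∀ b ∈ D, NV C b → ∀ s v w, ms C s (b v) (b w) = ms C s v w := by
    intro b hb nb s v w
    obtain ⟨t, c, θ, rfl, -, hθ⟩ := hD.nm b hb nb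
    rw [hθ rfl, map_one, mul_one] at hb ⊢
    have hc : torV C c ∈ D := (D.mul_mem_cancel_left (hD.rho t)).1 hb
    have c2 : c.2 ^ 2 = 1 := by
      have := pow_card_eq_one' (x := c.2)
      rwa [Nat.card_units, h3] at this
    have c1 : (c.1 ^ 2) ^ 13 = 1 := by
      have := pow_card_eq_one' (x := c.1)
      rwa [Nat.card_units, C.card, h3, show 3 ^ 3 - 1 = 2 * 13 by norm_num, pow_mul] at this
    have c3 : c.1 ^ 2 = 1 := by
      rcases (Nat.dvd_prime (by norm_num)).1 (orderOf_dvd_of_pow_eq_one c1) with e | e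
      · exact orderOf_eq_one_iff.1 e
      · refine absurd ?_ (hl _ e)
        have := pow_mem hc 2
        rwa [← map_pow, show c ^ 2 = (c.1 ^ 2, 1) from Prod.ext rfl c2] at this
    rw [LinearEquiv.mul_apply, LinearEquiv.mul_apply, ms_rho, ms_tor]
    · exact sq_eq_one_iff.1 (by simpa using congrArg Units.val c3)
    · simpa using congrArg Units.val c2
  have rad : ∀ s : K, s ≠ 0 → ∀ d ∈ D, ∀ v : V F K, Ht 2 v → C.T (s * v.2.1) = 0 →
      Ht 2 (d v) ∧ C.T (s * (d v).2.1) = 0 := by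
    intro s hs d hd v hv hT
    obtain ⟨I, hI⟩ := trm D (Fn F K) ((rh C).range.subgroupOf D)
      ((normalizer ((rh C).range : Set (V F K ≃ₗ[F] V F K))).subgroupOf D)
      (subgroupOf_mono _ le_normalizer) (fun g hg t ht hb => by
        obtain ⟨t0, e⟩ := mem_subgroupOf.1 ht
        by_contra t1
        refine hg (nv_iff.1 (free h hD g.2 (t := t0.toAdd) (fun e0 => t1 (Subtype.ext ?_))
          (nv_iff.2 ?_)))
        · rw [← e]; change ρ C _ = 1; rw [e0, ρ_zero]
        · change (g : V F K ≃ₗ[F] V F K)⁻¹ * rh C t0 * g ∈ _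
          rw [e]; exact hb)
      (fun v w => ms C s v w) (fun b hb => funext fun v => funext fun w =>
        inv _ (inv_mem b.2) (nv_iff.2 (inv_mem (mem_subgroupOf.1 hb))) s v w)
    set m : Fn F K := fun v w => ms C s v w
    set m' := m + ∑ g ∈ I, ∑ᶠ t : (rh C).range.subgroupOf D, (t : D) • g • m
    let ε : K ≃ (rh C).range.subgroupOf D := Equiv.ofBijective
      (fun t => ⟨⟨ρ C (-t), hD.rho _⟩, Multiplicative.ofAdd (-t), rfl⟩)
      ⟨fun a b e => neg_injective (rho_inj C (congrArg (fun x => x.1.1) e)), by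
        intro x
        obtain ⟨t, e⟩ := mem_subgroupOf.1 x.2
        refine ⟨-t.toAdd, Subtype.ext (Subtype.ext ?_)⟩
        change ρ C (- -t.toAdd) = _
        rw [neg_neg]
        exact e⟩
    have val : ∀ v w : V F K, v.2.2.2 = 0 ∨ w.2.2.2 = 0 → m' v w = ms C s v w := by
      intro v w hvw
      change ev v w m' = _
      rw [map_add, map_sum, Finset.sum_eq_zero, add_zero]
      · rfl
      intro g _
      rw [AddMonoidHom.map_finsum _ (Set.toFinite _), ← finsum_comp_equiv ε]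
      have := sum_bil (C := C) h3 h ((ms C s).compl₁₂ (g.1⁻¹ : V F K ≃ₗ[F] V F K)
        (g.1⁻¹ : V F K ≃ₗ[F] V F K)) hvw
      rw [← this]
      refine finsum_congr fun t => ?_
      change ms C s (g.1⁻¹ ((ρ C (-t))⁻¹ v)) (g.1⁻¹ ((ρ C (-t))⁻¹ w)) = _
      rw [ρ_inv, neg_neg]
      rfl
    have z : ∀ w, m' (d v) w = 0 := fun w => by
      have e := congrFun (congrFun (hI ⟨d, hd⟩) (d v)) w
      change m' (d⁻¹ (d v)) (d⁻¹ w) = m' (d v) w at e
      rw [← e, show d⁻¹ (d v) = v from d.symm_apply_apply v, val _ _ (Or.inl hv.2), ms_apply, hT,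
        hv.1, hv.2]
      simp
    have u0 : (d v).2.2.2 = 0 := by
      obtain ⟨x, hx⟩ := C.T_onto hs 1
      have := z (0, x, 0, 0)
      rw [val _ _ (Or.inr rfl), ms_apply, hx] at this
      simpa using this
    refine ⟨⟨C.cr_eq_zero_odd h2 hs (C.T_nd fun y => ?_), u0⟩, ?_⟩
    · have := z (0, 0, y, 0)
      rw [val _ _ (Or.inr rfl), ms_apply] at this
      simpa using this
    · have := z (0, 0, 0, 1)
      rw [val _ _ (Or.inl u0), ms_apply] at this
      simpa using this
  have f2 : ∀ d ∈ D, ∀ v : V F K, Ht 2 v → Ht 2 (d v) := by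
    intro d hd v hv
    obtain ⟨s, hs, hT⟩ : ∃ s : K, s ≠ 0 ∧ C.T (s * v.2.1) = 0 := by
      by_contra hne
      push Not at hne
      have hi : Function.Injective (C.T ∘ₗ LinearMap.mulRight F v.2.1) :=
        (injective_iff_map_eq_zero _).2 fun s e => by
          by_contra hs
          exact hne s hs e
      have := Nat.card_le_card_of_injective _ hi
      rw [C.card, h3] at this
      omega
    exact (rad s hs d hd v hv hT).1
  have f1 : ∀ d ∈ D, ∀ v : V F K, Ht 1 v → Ht 1 (d v) := by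
    intro d hd v hv
    refine ⟨C.T_nd fun s => ?_, f2 d hd v hv.2⟩
    by_cases hs : s = 0
    · simp [hs]
    · rw [mul_comm]
      exact (rad s hs d hd v hv.2 (by simp [hv.1])).2
  have f3 : ∀ d ∈ D, ∀ v : V F K, Ht 3 v → Ht 3 (d v) := by
    intro d hd v hv
    obtain ⟨ε, -, hε⟩ := hD.form d hd
    obtain ⟨a1, a2, a3⟩ := f1 d hd e0 ⟨rfl, rfl, rfl⟩
    have a0 : (d e0).1 ≠ 0 := fun e => by
      have : d e0 = 0 := Prod.ext e (Prod.ext a1 (Prod.ext a2 a3))
      simpa [e0] using this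
    have := hε e0 v
    rw [om, om, a1, a2, a3, show v.2.2.2 = 0 from hv] at this
    generalize d e0 = w at a0 this
    simpa [e0, a0, Ht] using this
  refine hn (nv_of_flag hD (fun d hd i v hv => ?_) hd0)
  match i, hv with
  | 0, hv => rw [show v = 0 from hv]; exact map_zero _
  | 1, hv => exact f1 d hd v hv
  | 2, hv => exact f2 d hd v hv
  | 3, hv => exact f3 d hd v hv
  | _ + 4, _ => trivial

end Cfsg.Agent.H80.D4T
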