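import Cfsg.Agent.H48.M2Defs

/-! The intersection of the two extraspecial groups of a pure four-group of the second kind. -/

set_option autoImplicit false

namespace Cfsg.Agent.H48.M2

open Cfsg Subgroup Cfsg.Agent.H48 Cfsg.Agent.H48.Rec Cfsg.Agent.H49 Cfsg.Agent.H95.Par
open Cfsg.Agent.H97.Gr (DD ZZ)
open Cfsg.Agent.H97.Yt (M)

theorem BD.one (hU : BuStmt) (hT : TaStmt) (hP : PfStmt) {w w' : M} (h : Bp w w') :
    Qz w ⊓ Qz w' ≤ TT w w' := by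
  rintro d ⟨d1, d2⟩
  obtain ⟨sp, -⟩ := hU w w' h
  obtain ⟨-, c1, n1, a1, -⟩ := hT w w' h.t1
  obtain ⟨-, -, n2, -⟩ := hT w' w h.t2
  have pf := hP _ h.t1.ark
  have X := lx h.z1
  have m : ∀ x ∈ Qz w, ∀ y ∈ Ak w w' ⊔ zpowers w', x = y → x * w' = w' * x → x ∈ TT w w' :=
    fun x hx y hy e c => ⟨⟨hx, mem_centralizer_singleton_iff.2 c⟩, e ▸ hy⟩
  have ca : ∀ a ∈ Ak w w', a * w' = w' * a := fun a ha => sp.cp a ha
  have hw : w ∈ TT w w' := m w X.mem w (mem_sup_left a1) rfl c1.symm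
  rw [← X.toXS.centralizer_centralizer (U := TT w w') (fun x hx => hx.1.1) hw]
  refine ⟨d1, fun x hx => ?_⟩
  obtain ⟨b, b1, -, b2⟩ := pf.ex' w a1 h.z1
  have x1 : x ∈ Qz w ⊓ CP (Ak w w') := by
    rw [← pf.d1 w a1 h.z1]
    exact ⟨hx.1, fun a ha => hx.2 a (m a ha.2 a (mem_sup_left ha.1) rfl (ca a ha.1))⟩
  have x2 := hx.2 (w' * b) (m _ (pf.ix w a1 h.z1 w' sp.qa b (mem_sup_right b1) n1 b2) _
    (mul_mem (mem_sup_right (mem_zpowers w')) (mem_sup_left b1)) rfl (by rw [mul_assoc, ca b b1]))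
  have x3 : x * w' = w' * x := by
    rw [mul_assoc, x1.2 b b1, ← mul_assoc, ← mul_assoc] at x2
    exact (mul_right_cancel x2).symm
  by_contra ne
  refine n2 ?_
  rw [← X.toXS.commutator_eq_z hx.1 d1 ne]
  exact mul_mem ((mem_normalizer_iff.1 (n_Qz h.z2 x3) d).1 d2) (inv_mem d2)

theorem bd_of (hU : BuStmt) (hT : TaStmt) (hA : AkStmt) (hP : PfStmt) : BdStmt := by
  intro w w' h
  refine ⟨BD.one hU hT hP h, fun u hu u1 => ?_⟩
  obtain ⟨sp, -, -, -, l1, sg, q, -⟩ := hU w w' h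
  obtain ⟨-, -, -, -, l2, -⟩ := hU w' w h.symm
  rw [U0_comm] at l2
  have uz := (sg u hu u1).1
  have key : ∀ a ∈ Qz u ⊔ Ak w w', a ∈ Qz u ⊔ Ak w' w → a ∈ Qz u := fun a h1 h2 => by
    by_contra n
    have e := (hA _ h.t1.ark u (l1 hu) uz a h1 n).2.1.symm.trans
      (hA _ h.t2.ark u (l2 hu) uz a h2 n).2.1
    exact sp.out (e ▸ (hT w' w h.t2).2.2.2.1)
  have le : ∀ (A : Subgroup M), ∀ y ∈ Qz u, A ⊔ zpowers y ≤ Qz u ⊔ A := fun A y hy =>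
    sup_le le_sup_right ((zpowers_le.2 hy).trans le_sup_left)
  exact ⟨fun d hd => key d (le _ _ (q u hu u1).2 (BD.one hU hT hP h hd).2)
    (le _ _ (q u hu u1).1 (BD.one hU hT hP h.symm ⟨hd.2, hd.1⟩).2),
    fun a ha => key a (mem_sup_right ha.1) (mem_sup_right ha.2)⟩

end Cfsg.Agent.H48.M2
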