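import Cfsg.Agent.H78.McDefs
import Cfsg.Agent.H5.PE1
import Cfsg.Agent.H90.MaxClassPow

/-! Project MC, piece UNI. -/

set_option autoImplicit false

namespace Cfsg.Agent.H80.McUni

open Subgroup Cfsg.Agent.H78.Mc Cfsg.Agent.H5

universe u

theorem low {P : Type u} [Group P] [Finite P] {p : ℕ} [hp : Fact p.Prime] (hP : IsPGroup p P) {x : P}
    (hx : x ∉ center P) {k : ℕ} (hk : Nat.card (centralizer ({x} : Set P)) = p ^ k) : 2 ≤ k := by
  haveI : Nontrivial P := ⟨⟨x, 1, fun e => hx (e ▸ one_mem _)⟩⟩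
  haveI := hP.center_nontrivial
  obtain ⟨a, ha, e⟩ := (hP.to_subgroup (center P)).nontrivial_iff_card.1 inferInstance
  have hlt : center P < centralizer ({x} : Set P) :=
    lt_of_le_of_ne (center_le_centralizer _) fun h =>
      hx (h ▸ mem_centralizer_singleton_iff.2 rfl)
  have h1 : Nat.card (center P) < Nat.card (centralizer ({x} : Set P)) :=
    Set.ncard_lt_ncard hlt (Set.toFinite _)
  rw [e, hk] at h1
  have := (Nat.pow_lt_pow_iff_right hp.out.one_lt).1 h1
  omega

theorem uni : UniStmt.{u} := by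
  classical
  intro P _ _ p n hp hc hn hcl M hM
  have hP : IsPGroup p P := IsPGroup.of_card hc
  have hm := H90.maxCl_of_nilpotencyClass (by omega) hc hcl
  have p2 := hp.out.two_le
  have fin : ∀ x : P, x ∉ center P → Nat.card (centralizer ({x} : Set P)) < p ^ 3 →
      Nat.card (centralizer ({x} : Set P)) = p ^ 2 := by
    intro x hx h
    obtain ⟨k, hk⟩ := IsPGroup.iff_card.1 (hP.to_subgroup (centralizer ({x} : Set P)))
    have h1 := low hP hx hk
    rw [hk] at h ⊢
    have := (Nat.pow_lt_pow_iff_right hp.out.one_lt).1 h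
    rw [show k = 2 by omega]
  by_cases h3 : n = 3
  · subst h3
    have hz : center P ≠ ⊤ := by
      intro e
      have h1 := H90.card_center_of_maxClass (by norm_num) hm.card hm.ne_bot
      rw [e, card_top, hc] at h1
      have := (Nat.pow_le_pow_iff_right hp.out.one_lt).1 (h1.trans_eq (pow_one p).symm)
      omega
    obtain ⟨x, hx⟩ := H90.exists_not_mem_of_card_le hP ({M, center P} : Finset (Subgroup P))
      (Finset.card_le_two.trans p2) id (by simp [hM, hz])
    have h1 : x ∉ center P := hx (center P) (by simp)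
    refine ⟨x, hx M (by simp), fin x h1 ?_⟩
    have hlt : centralizer ({x} : Set P) < ⊤ := lt_top_iff_ne_top.2 fun e =>
      h1 (mem_center_iff.2 fun g => mem_centralizer_singleton_iff.1 (e ▸ mem_top g))
    have h2 : Nat.card (centralizer ({x} : Set P)) < Nat.card (⊤ : Subgroup P) :=
      Set.ncard_lt_ncard hlt (Set.toFinite _)
    rwa [card_top, hc] at h2
  · have h : PE.MX p (⊤ : Subgroup P) (n - 2) :=
      ⟨⟨by rw [card_top]; exact hm.card, hm.ne_bot⟩, by omega⟩
    have k1 : Kc (⊤ : Subgroup P) 1 ≠ ⊤ := fun e => by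
      have h1 : (Kc (⊤ : Subgroup P) 1).relIndex ⊤ = p := h.rel0
      rw [e, relIndex_self] at h1
      omega
    have k2 : Kc (⊤ : Subgroup P) (n - 2 - 1) ≠ ⊤ := fun e => by
      have h1 := h.relQ
      rw [e, relIndex_self] at h1
      omega
    have hx : ∃ x, x ∉ M ∧ x ∉ Kc (⊤ : Subgroup P) 1 ∧ x ∉ Kc (⊤ : Subgroup P) (n - 2 - 1) := by
      by_cases e : p = 2
      · rw [h.Kc_low (i := n - 2 - 1) (by omega) (Or.inr ⟨e, by omega⟩)]
        obtain ⟨x, hx⟩ := H90.exists_not_mem_of_card_le hP ({M, Kc ⊤ 1} : Finset (Subgroup P))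
          (Finset.card_le_two.trans p2) id (by simp [hM, k1])
        exact ⟨x, hx M (by simp), hx (Kc ⊤ 1) (by simp), hx (Kc ⊤ 1) (by simp)⟩
      · obtain ⟨x, hx⟩ := H90.exists_not_mem_of_card_le hP
          ({M, Kc ⊤ 1, Kc ⊤ (n - 2 - 1)} : Finset (Subgroup P))
          (Finset.card_le_three.trans (by omega)) id (by simp [hM, k1, k2])
        exact ⟨x, hx M (by simp), hx (Kc ⊤ 1) (by simp), hx (Kc ⊤ (n - 2 - 1)) (by simp)⟩
    obtain ⟨x, h1, h2, h4⟩ := hx
    have hu := h.uni_of (mem_top x) h2 h4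
    have h5 := h.toMxC.card_centralizer_le h.c2 hu le_rfl
    rw [inf_top_eq] at h5
    refine ⟨x, h1, fin x (fun hz => h2 ⟨mem_top x, fun y _ => ?_⟩)
      (h5.trans_lt (Nat.pow_lt_pow_right hp.out.one_lt (by norm_num)))⟩
    rw [← mem_center_iff.1 hz y, mul_inv_cancel_right, inv_mul_cancel]
    exact one_mem _

end Cfsg.Agent.H80.McUni
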