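import Cfsg.Agent.H95.ParBase
import Cfsg.Agent.H46.Ru

/-!
# A four-group centralized by an element of order thirteen in the Rudvalis group
-/

set_option autoImplicit false
set_option maxRecDepth 1000000

namespace Cfsg.Agent.H80.ParRX

open Cfsg.Agent.H42 Cfsg.Agent.H46 Cfsg.Agent.H46.Ru Cfsg.Agent.H95.Par

def cg : ℕ := (nat_lit 0x7275a403be6ec238b94836bf757a26d9c9d27bba744a43280f2b88dd1d1f540711fb7d6f468ba21d289c32898d87d29f8d7677e508d3cef75423df657a766000e12840d24dc48e9c51a6e0fddcc4473d4c5c7e62e3730638860988b38116e5b3c7de)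
def ct : ℕ := (nat_lit 0x888e12339bc9992b505b77ff36c5553867be41567e7198d8540061d7854627c0000e0450d387d78b8022895f7c10b14bb3f4a9cf5c72e5180e9f502de6b7b276acc8391d28739f036f1d15f427df7bcf25e2cb6b531cec6a618e33c33ed802385ca2)
def cw : ℕ := (nat_lit 0xd7b853495030d9a82fbe75c75773dfd62228e9df235355c9b70c4f223998258096f4614b4a80285cfbca29a3b27fb730631414912023005d37f5215c6643ad886766687e6e1f858f06bbc720c739a4acd6c5e1484fe49187e1d051761d11a68a3d0a)
def cd : ℕ := (nat_lit 0x39526f7edeb7770001ab9a62e8ada8453e61b990b81d3551532ff25432ef5ddc15ee4363fe8432c86d40fd562d2612f34d15ba339fbb348f31223c155773ebf11bce2816d18de70c33d1e601c609e9241dc22df364f48841bf6a3ea32402c80f41a5)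
def cx : ℕ := (nat_lit 0xc62bad1000080900028740294db0103be3d289cc5487f99030a4610ffc52bf91800fc351cd5f44b3471b3032d101a3312bce420b2d72af0ad8bf3f4c7336a20ba725704a0bc5d3961ba11de7f29f7813f3acfde6be1dd60a78d20bf1b7158211c1b0)
def cu : ℕ := (nat_lit 0x76acc83fe81aa4651d3920ded9911f9c1610003ebf9606f2a29f811267c831a4e4ea375dd5b22a3c4494d064f0575356051dfdfb46c612478d85606d1b6df1888e1233628a5e2597214f17bc37e6e09fbe05c0a300074c5e49114783fe082e56296b)
def ce : ℕ := (nat_lit 0xeee2b7909715a7817c2c430fcd30aa8ace2a54b701af0475b4a9e44fe0c717d6f745e6a59eb775a1d3b4e31c541d820b324933f453032d10ed9134a6685fc8513e6779f06b0a32fcd3c686037fcfd99559914d54e539bba63a90ab07327c02763ae2)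

theorem k_g : Nat.beq (O.word nmA [0, 1, 0, 2]) cg = true := by decide +kernel
theorem k_t : Nat.beq (O.pow cg 13) ct = true := by decide +kernel
theorem k_w : Nat.beq (O.pow cg 2) cw = true := by decide +kernel
theorem k_d : Nat.beq (O.mul (O.mul (O.mul ct (O.word nmA [3, 1])) ct) (O.word nmA [1, 0])) cd = true := by
  decide +kernel
theorem k_x : Nat.beq (O.mul (O.word nmA [1, 0]) (O.pow cd 14)) cx = true := by decide +kernel
theorem k_u : Nat.beq (O.pow cx 7) cu = true := by decide +kernel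
theorem k_e : Nat.beq (O.mul ct (O.mul (O.mul (nmA 0) ct) (nmA 3))) ce = true := by decide +kernel
theorem k_i : O.eqB (O.mul (nmA 0) (nmA 3)) O.one = true := by decide +kernel
theorem k_tt : O.eqB (O.mul ct ct) O.one = true := by decide +kernel
theorem k_t1 : O.eqB ct O.one = false := by decide +kernel
theorem k_uu : O.eqB (O.mul cu cu) O.one = true := by decide +kernel
theorem k_u1 : O.eqB cu O.one = false := by decide +kernel
theorem k_ut : O.eqB cu ct = false := by decide +kernel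
theorem k_cm : O.eqB (O.mul cu ct) (O.mul ct cu) = true := by decide +kernel
theorem k_w13 : O.eqB (O.pow cw 13) O.one = true := by decide +kernel
theorem k_w1 : O.eqB cw O.one = false := by decide +kernel
theorem k_wt : O.eqB (O.mul cw ct) (O.mul ct cw) = true := by decide +kernel
theorem k_wu : O.eqB (O.mul cw cu) (O.mul cu cw) = true := by decide +kernel
theorem k_e13 : O.eqB (O.pow ce 13) O.one = true := by decide +kernel
theorem k_e1 : O.eqB ce O.one = false := by decide +kernel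

theorem R_w (l : List ℕ) (h : ∀ j ∈ l, j < 29) : CG.R (O.word nmA l) (l.map el).prod :=
  CG.R_word l fun j hj => R_el (h j hj)

theorem R_of {a b : ℕ} {g : GG} (h : CG.R a g) (e : Nat.beq a b = true) : CG.R b g := by
  rwa [← beq_iff.mp e]

theorem rd_GG : Nonempty (H95.Par.RD GG) := by
  have hg := R_of (R_w [0, 1, 0, 2] (by decide)) k_g
  have ht := R_of (CG.R_pow hg 13) k_t
  have hw := R_of (CG.R_pow hg 2) k_w
  have hd := R_of (CG.R_mul (CG.R_mul (CG.R_mul ht (R_w [3, 1] (by decide))) ht)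
    (R_w [1, 0] (by decide))) k_d
  have hx := R_of (CG.R_mul (R_w [1, 0] (by decide)) (CG.R_pow hd 14)) k_x
  have hu := R_of (CG.R_pow hx 7) k_u
  have h0 : CG.R (nmA 0) (el 0) := R_el (by norm_num)
  have h3 : CG.R (nmA 3) (el 3) := R_el (by norm_num)
  have hi : el 3 = (el 0)⁻¹ :=
    eq_inv_of_mul_eq_one_right (CG.eq_of_eqB (CG.R_mul h0 h3) CG.R_one k_i)
  have he := R_of (CG.R_mul ht (CG.R_mul (CG.R_mul h0 ht) h3)) k_e
  rw [hi] at he
  haveI : Fact (Nat.Prime 13) := ⟨by norm_num⟩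
  exact ⟨⟨_, _, _, el 0, CG.eq_of_eqB (CG.R_mul ht ht) CG.R_one k_tt, CG.ne_of_eqB ht CG.R_one k_t1,
    CG.eq_of_eqB (CG.R_mul hu hu) CG.R_one k_uu, CG.ne_of_eqB hu CG.R_one k_u1,
    CG.ne_of_eqB hu ht k_ut, CG.eq_of_eqB (CG.R_mul hu ht) (CG.R_mul ht hu) k_cm,
    CG.orderOf_eq_prime hw 13 k_w13 k_w1, CG.eq_of_eqB (CG.R_mul hw ht) (CG.R_mul ht hw) k_wt,
    CG.eq_of_eqB (CG.R_mul hw hu) (CG.R_mul hu hw) k_wu,
    by rw [CG.orderOf_eq_prime he 13 k_e13 k_e1]; norm_num⟩⟩

/-- transport along an injective homomorphism -/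
theorem rd_map {G H : Type} [Group G] [Group H] (f : G →* H) (hf : Function.Injective f)
    (D : H95.Par.RD G) : Nonempty (H95.Par.RD H) :=
  ⟨⟨f D.t, f D.t', f D.w, f D.m, by rw [← map_mul, D.tt, map_one],
    fun h => D.t1 (hf (h.trans (map_one f).symm)), by rw [← map_mul, D.tt', map_one],
    fun h => D.t'1 (hf (h.trans (map_one f).symm)), fun h => D.ne (hf h),
    by rw [← map_mul, ← map_mul, D.cm], by rw [orderOf_injective f hf, D.ow],
    by rw [← map_mul, ← map_mul, D.wt], by rw [← map_mul, ← map_mul, D.wt'], by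
      rw [← map_inv, ← map_mul, ← map_mul, ← map_mul, orderOf_injective f hf]
      exact D.hm⟩⟩

theorem rx : RXStmt := by
  obtain ⟨D⟩ := rd_GG
  exact rd_map equivGG.symm.toMonoidHom equivGG.symm.injective D

end Cfsg.Agent.H80.ParRX
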