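import Cfsg.Agent.H46.SHe

/-!
# The lines in the Held group (`He.LCS`)
-/

set_option autoImplicit false
set_option maxRecDepth 200000
set_option linter.style.longLine false
open Subgroup

namespace Cfsg.Agent.H80.HeLc
open Cfsg.Agent.H46.S95 Cfsg.Agent.H44 Cfsg.Agent.H59

section general
variable {G : Type} [Group G]

/-- The restriction of an automorphism fixing `z` to the centraliser of `z`. -/
def resAut {z : G} (α : MulAut G) (h : α z = z) : MulAut (Cz z) where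
  toFun l := ⟨α l, mem_centralizer_singleton_iff.2 (by
    have := congrArg α (mem_centralizer_singleton_iff.1 l.2)
    simpa only [map_mul, h] using this)⟩
  invFun l := ⟨α.symm l, mem_centralizer_singleton_iff.2 (by
    have h' : α.symm z = z := by rw [MulEquiv.symm_apply_eq]; exact h.symm
    have := congrArg α.symm (mem_centralizer_singleton_iff.1 l.2)
    simpa only [map_mul, h'] using this)⟩
  left_inv l := Subtype.ext (α.symm_apply_apply _)
  right_inv l := Subtype.ext (α.apply_symm_apply _)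
  map_mul' a b := Subtype.ext (map_mul α _ _)

/-- An automorphism fixing `z` and `y` is inner. -/
theorem inn_of_fix {z : G} {y : Cz z} (H : HF z y 1) {α : MulAut G} (hz : α z = z)
    (hy : α y = y) : H46.S95.Inn α := by
  obtain ⟨c, hc⟩ := H.inn (resAut α hz) (Subtype.ext hy) ⟨1, by simp, by simp⟩
  obtain ⟨d, -, hd⟩ := H.cL (MulAut.conj (c : G)⁻¹ * α) fun l hl => by
    have e : α l = c * l * (c : G)⁻¹ := by
      simpa [resAut] using congrArg Subtype.val (DFunLike.congr_fun hc ⟨l, hl⟩)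
    simp only [MulAut.mul_apply, MulAut.conj_apply, e]
    group
  refine ⟨c * d, ?_⟩
  rw [map_mul, ← hd, ← mul_assoc, ← map_mul, mul_inv_cancel, map_one, one_mul]

/-- Different conjugates bound the index of a centraliser. -/
theorem card_step [Finite G] (K : Subgroup G) (x : G) (gs : List G) (hm : ∀ g ∈ gs, g ∈ K)
    (hn : (gs.map fun g => g * x * g⁻¹).Nodup) :
    gs.length * Nat.card ↥(K ⊓ Cz x) ≤ Nat.card K := by
  have hinj : Function.Injective fun p : Fin gs.length × ↥(K ⊓ Cz x) =>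
      (⟨gs[p.1] * p.2, K.mul_mem (hm _ (List.getElem_mem _)) p.2.2.1⟩ : K) := by
    rintro ⟨i, c⟩ ⟨j, d⟩ e
    have e' : gs[i] * (c : G) = gs[j] * d := congrArg Subtype.val e
    have hc := mem_centralizer_singleton_iff.1 c.2.2
    have hd := mem_centralizer_singleton_iff.1 d.2.2
    have e1 : gs[i] * x * gs[i]⁻¹ = gs[j] * x * gs[j]⁻¹ := by
      calc gs[i] * x * gs[i]⁻¹ = gs[i] * (x * c) * (gs[i] * c)⁻¹ := by group
        _ = (gs[i] * c) * x * (gs[i] * c)⁻¹ := by rw [← hc]; group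
        _ = gs[j] * (d * x) * (gs[j] * d)⁻¹ := by rw [e']; group
        _ = gs[j] * x * gs[j]⁻¹ := by rw [hd]; group
    have hij : i = j := by
      have := (List.nodup_iff_injective_getElem.1 hn)
        (a₁ := ⟨i, by simp⟩) (a₂ := ⟨j, by simp⟩) (by simpa using e1)
      exact Fin.ext (by simpa using this)
    subst hij
    exact Prod.ext rfl (Subtype.ext (mul_left_cancel e'))
  simpa using Nat.card_le_card_of_injective _ hinj

theorem conj_of {g x r : G} (e : g * x = r * g) : g * x * g⁻¹ = r := by rw [e]; group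

/-- `LC` from the centraliser of an elementary subgroup `⟨z, y, s, w⟩`. -/
theorem lc_of {z : G} {y : Cz z} {s w : G} (H : HF z y 1) (zs : z * s = s * z)
    (ys : y * s = s * y) (zw : w * z = z * w) (yw : w * y = y * w) (sw : w * s = s * w)
    (n1 : (y : G) ≠ z) (n2 : y * s ≠ 1) (n3 : y * s ≠ z)
    (sg : ∃ σ : G, σ * z = z * y * σ ∧ σ * y = y * σ)
    (q : ∃ q : G, q * z = z * q ∧ q * y = y * z * q ∧ q * s = s * z * q)
    (rho : ∃ ρ : G, ρ * z = z * ρ ∧ ρ * y = s * ρ ∧ ρ * s = y * s * ρ)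
    (hV : ∀ c : G, c * z = z * c → c * y = y * c → c * s = s * c → c * w = w * c →
      (c ∈ closure {z, (y : G)} ∨ ∃ l : G, l * z = z * l ∧ l * y = y * l ∧ c * l ≠ l * c) ∧
      (c ∈ closure {(y : G), s, z} ∨ ∃ l : G, l * y = y * l ∧ l * s = s * l ∧ c * l ≠ l * c)) :
    LC z y s := by
  have yz : (y : G) * z = z * y := mem_centralizer_singleton_iff.1 y.2
  have fx : ∀ {c l : G}, MulAut.conj c l = l → c * l = l * c := fun {c l} e => by
    rw [MulAut.conj_apply] at e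
    calc c * l = c * l * c⁻¹ * c := by group
      _ = l * c := by rw [e]
  refine ⟨H.zz, H.z1, yz.symm, ys, n1, n2, n3, ?_, ?_, ?_, fun α h => ?_, fun α h => ?_⟩
  · obtain ⟨σ, h1, h2⟩ := sg
    exact ⟨σ, conj_of h1, conj_of h2⟩
  · obtain ⟨σ, h1, h2, h3⟩ := q
    exact ⟨σ, conj_of h1, conj_of h2, conj_of h3⟩
  · obtain ⟨σ, h1, h2, h3⟩ := rho
    exact ⟨σ, conj_of h1, conj_of h2, conj_of h3⟩
  · obtain ⟨c, rfl⟩ := inn_of_fix H (h z rfl yz.symm) (h y yz rfl)
    refine ⟨c, ?_, rfl⟩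
    rcases (hV c (fx (h z rfl yz.symm)) (fx (h y yz rfl)) (fx (h s zs.symm ys.symm))
      (fx (h w zw yw))).1 with e | ⟨l, h1, h2, h3⟩
    exacts [e, (h3 (fx (h l h1 h2))).elim]
  · obtain ⟨c, rfl⟩ := inn_of_fix H (h z yz.symm zs) (h y rfl ys)
    refine ⟨c, ?_, rfl⟩
    rcases (hV c (fx (h z yz.symm zs)) (fx (h y rfl ys)) (fx (h s ys.symm rfl))
      (fx (h w yw sw))).2 with e | ⟨l, h1, h2, h3⟩
    exacts [e, (h3 (fx (h l h1 h2))).elim]

end general

section words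
variable {G : Type} [Group G] {D : MD} {ι : G →* Equiv.Perm (Fin D.n)} {ν : ℕ → G}

/-- The elements commuting with the words `xs`. -/
def Cw (ν : ℕ → G) (xs : List (List ℕ)) : Subgroup G := centralizer {g | ∃ a ∈ xs, g = ev ν a}

theorem mem_Cw {xs : List (List ℕ)} {c : G} :
    c ∈ Cw ν xs ↔ ∀ a ∈ xs, c * ev ν a = ev ν a * c :=
  ⟨fun h a ha => (h _ ⟨a, ha, rfl⟩).symm, fun h _ ⟨a, ha, e⟩ => e ▸ (h a ha).symm⟩

theorem Cw_cons (x : List ℕ) (xs : List (List ℕ)) :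
    Cw ν (x :: xs) = Cw ν xs ⊓ Cz (ev ν x) := by
  ext c
  simp only [mem_Cw, List.forall_mem_cons, mem_inf, mem_centralizer_singleton_iff, and_comm]

/-- The word `g` commutes with the words `xs`. -/
noncomputable def comB (D : MD) (xs : List (List ℕ)) (g : List ℕ) : Bool :=
  allL (fun a => D.eqW (g ++ a) (a ++ g)) xs

theorem com_spec (h : D.Ok ι ν) {xs : List (List ℕ)} {g : List ℕ} (e : comB D xs g = true) :
    ev ν g ∈ Cw ν xs := mem_Cw.2 fun a ha => by
  simpa only [ev_append] using h.eq (allL_iff.1 e a ha)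

theorem nodup_keys (h : D.Ok ι ν) {W : List (List ℕ)} (e : (W.map D.key).Nodup) :
    (W.map (ev ν)).Nodup := by
  rw [List.Nodup, List.pairwise_map] at e ⊢
  exact e.imp fun hne e' => hne (h.key_eq e')

/-- The check of an orbit. -/
noncomputable def stepB (D : MD) (xs : List (List ℕ)) (x : List ℕ)
    (P : List (List ℕ × List ℕ)) : Bool :=
  allL (fun p => comB D xs p.1 && D.eqW (p.1 ++ x) (p.2 ++ p.1)) P

theorem step_spec [Finite G] (h : D.Ok ι ν) {xs : List (List ℕ)} {x : List ℕ}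
    (P : List (List ℕ × List ℕ)) (e : stepB D xs x P = true)
    (e' : ((P.map Prod.snd).map D.key).Nodup) :
    P.length * Nat.card (Cw ν (x :: xs)) ≤ Nat.card (Cw ν xs) := by
  have e1 := allL_iff.1 e
  simp only [Bool.and_eq_true] at e1
  have := card_step (Cw ν xs) (ev ν x) (P.map fun p => ev ν p.1) (fun g hg => by
    obtain ⟨p, hp, rfl⟩ := List.mem_map.1 hg
    exact com_spec h (e1 p hp).1) (by
    have h2 := nodup_keys h e'
    rw [List.map_map] at h2 ⊢
    refine (List.map_congr_left fun p hp => ?_) ▸ h2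
    exact (conj_of (r := ev ν p.2) (by simpa only [ev_append] using h.eq (e1 p hp).2)).symm)
  rwa [List.length_map, ← Cw_cons] at this

theorem cover (h : D.Ok ι ν) [Finite G] {xs W : List (List ℕ)}
    (e : allL (comB D xs) W = true) (e' : (W.map D.key).Nodup)
    (hc : Nat.card (Cw ν xs) ≤ W.length) : ∀ c ∈ Cw ν xs, ∃ w ∈ W, c = ev ν w := fun c hc' => by
  obtain ⟨w, hw, rfl⟩ := List.mem_map.1 (cover_of_nodup (nodup_keys h e') (fun x hx => by
    obtain ⟨w, hw, rfl⟩ := List.mem_map.1 hx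
    exact com_spec h (allL_iff.1 e w hw)) (by simpa using hc) c hc')
  exact ⟨w, hw, rfl⟩

/-- A word is written in the letters `S` or does not commute with one of two words. -/
noncomputable def altB (D : MD) (S l l' w : List ℕ) : Bool :=
  w.all S.contains || (D.neW (w ++ l) (l ++ w) || D.neW (w ++ l') (l' ++ w))

theorem alt_spec (h : D.Ok ι ν) {S l l' w : List ℕ} (e : altB D S l l' w = true) {K : Subgroup G}
    (hK : ∀ x ∈ S, ν x ∈ K) : ev ν w ∈ K ∨ ev ν w * ev ν l ≠ ev ν l * ev ν w ∨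
      ev ν w * ev ν l' ≠ ev ν l' * ev ν w := by
  simp only [altB, Bool.or_eq_true] at e
  rcases e with e | e | e
  · exact Or.inl (ev_mem fun x hx => hK x (by simpa using List.all_eq_true.1 e x hx))
  · exact Or.inr (Or.inl (by simpa only [ev_append] using h.ne e))
  · exact Or.inr (Or.inr (by simpa only [ev_append] using h.ne e))

/-- `LC` from words. -/
theorem lc_words [Finite G] (h : D.Ok ι ν) {a b c : ℕ} {y : Cz (ν a)} (hy : (y : G) = ν b)
    (H : HF (ν a) y 1) (hN : Nat.card (Cz (ν a)) = 21504) (w sg q rho l1 l2 : List ℕ)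
    (P1 P2 P3 : List (List ℕ × List ℕ)) (W : List (List ℕ))
    (e1 : D.eqsB [([a, c], [c, a]), ([b, c], [c, b]), (w ++ [a], [a] ++ w), (w ++ [b], [b] ++ w),
      (w ++ [c], [c] ++ w), (sg ++ [a], [a, b] ++ sg), (sg ++ [b], [b] ++ sg),
      (q ++ [a], [a] ++ q), (q ++ [b], [b, a] ++ q), (q ++ [c], [c, a] ++ q),
      (rho ++ [a], [a] ++ rho), (rho ++ [b], [c] ++ rho), (rho ++ [c], [b, c] ++ rho),
      (l1 ++ [a], [a] ++ l1), (l1 ++ [b], [b] ++ l1), (l1 ++ [c], [c] ++ l1),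
      (l2 ++ [a], [a] ++ l2), (l2 ++ [b], [b] ++ l2)] = true)
    (e2 : (D.neW [b] [a] && D.neW [b, c] [] && D.neW [b, c] [a]) = true)
    (s1 : stepB D [[a]] [b] P1 = true) (t1 : ((P1.map Prod.snd).map D.key).Nodup)
    (s2 : stepB D [[b], [a]] [c] P2 = true) (t2 : ((P2.map Prod.snd).map D.key).Nodup)
    (s3 : stepB D [[c], [b], [a]] w P3 = true) (t3 : ((P3.map Prod.snd).map D.key).Nodup)
    (hl : P1.length = 14 ∧ P2.length = 12 ∧ P3.length = 8 ∧ W.length = 16)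
    (s4 : allL (comB D [w, [c], [b], [a]]) W = true) (t4 : (W.map D.key).Nodup)
    (s5 : allL (fun u => altB D [a, b] l1 l2 u && altB D [a, b, c] l1 l1 u) W = true) :
    LC (ν a) (ν b) (ν c) := by
  have E := h.eqs e1
  simp only [eqs_cons, eqs_nil, ev_append, ev_cons, ev_nil, mul_one, and_true] at E
  obtain ⟨a1, a2, a3, a4, a5, a6, a7, a8, a9, a10, a11, a12, a13, a14, a15, a16, a17, a18⟩ := E
  simp only [Bool.and_eq_true] at e2
  have n1 := h.ne e2.1.1
  have n2 := h.ne e2.1.2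
  have n3 := h.ne e2.2
  simp only [ev_cons, ev_nil, mul_one] at n1 n2 n3
  have c0 : Cw ν [[a]] = Cz (ν a) := by
    ext g
    simp [mem_Cw, mem_centralizer_singleton_iff, ev_single]
  have c1 := step_spec h P1 s1 t1
  have c2 := step_spec h P2 s2 t2
  have c3 := step_spec h P3 s3 t3
  rw [c0, hN, hl.1] at c1
  rw [hl.2.1] at c2
  rw [hl.2.2.1] at c3
  have cov := cover h s4 t4 (by rw [hl.2.2.2]; omega)
  rw [← hy]
  refine lc_of (w := ev ν w) H a1 (hy ▸ a2) a3 (hy ▸ a4) a5 (hy ▸ n1) (hy ▸ n2) (hy ▸ n3)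
    ⟨_, hy ▸ a6, hy ▸ a7⟩ ⟨_, a8, hy ▸ a9, a10⟩ ⟨_, a11, hy ▸ a12, hy ▸ a13⟩
    fun g g1 g2 g3 g4 => ?_
  rw [hy] at g2 ⊢
  obtain ⟨u, hu, rfl⟩ := cov g (mem_Cw.2 (by simp [ev_single, g1, g2, g3, g4]))
  have s := allL_iff.1 s5 u hu
  simp only [Bool.and_eq_true] at s
  constructor
  · rcases alt_spec h s.1 (K := closure {ν a, ν b}) (fun x hx => subset_closure (by
      simp only [List.mem_cons, List.not_mem_nil, or_false] at hx
      rcases hx with rfl | rfl <;> simp)) with e | e | e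
    exacts [Or.inl e, Or.inr ⟨ev ν l1, a14, a15, e⟩, Or.inr ⟨ev ν l2, a17, a18, e⟩]
  · rcases alt_spec h s.2 (K := closure {ν b, ν c, ν a}) (fun x hx => subset_closure (by
      simp only [List.mem_cons, List.not_mem_nil, or_false] at hx
      rcases hx with rfl | rfl | rfl <;> simp)) with e | e | e
    exacts [Or.inl e, Or.inr ⟨ev ν l1, a15, a16, e⟩, Or.inr ⟨ev ν l1, a15, a16, e⟩]

end words

open Cfsg.Agent.H44.KiHe Cfsg.Agent.H46.S95.He

theorem lc1 (h : HFS) : LC (ν 1) (ν 2) (ν 3) := by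
  obtain ⟨y, hy, H⟩ := h 2 (by simp)
  exact lc_words ok hy H cz_n [4] [62, 50, 41, 50, 53, 60, 5, 59, 54, 49, 42, 49, 61] [7]
    [11, 5, 8, 11, 11] [5] [6]
    [([], [2]), ([7], [1, 2]), ([11], [1, 2, 3, 4]), ([5, 11], [2, 3, 4]), ([8, 11], [3, 4]), ([9, 11], [1, 4]), ([11, 11], [1, 2, 3]), ([12, 11], [2, 4]), ([17, 11], [1, 3, 4]), ([5, 9, 11], [4]), ([5, 12, 11], [1, 2, 4]), ([6, 11, 11], [2, 3]), ([10, 11, 11], [1, 3]), ([11, 11, 11], [3])]
    [([], [3]), ([6], [1, 3]), ([10], [2, 3]), ([6, 10], [1, 2, 3]), ([11, 9, 11], [1, 4]), ([5, 11, 9, 11], [4]), ([8, 11, 9, 11], [2, 4]), ([9, 11, 9, 11], [1, 2, 3, 4]), ([10, 11, 9, 11], [1, 2, 4]), ([5, 9, 11, 9, 11], [2, 3, 4]), ([7, 12, 11, 9, 11], [3, 4]), ([9, 10, 11, 9, 11], [1, 3, 4])]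
    [([], [4]), ([5], [1, 4]), ([8], [1, 2, 4]), ([9], [2, 3, 4]), ([5, 8], [2, 4]), ([5, 9], [1, 2, 3, 4]), ([8, 9], [1, 3, 4]), ([12, 13], [3, 4])]
    [[], [4], [3], [3, 4], [2], [2, 4], [2, 3], [2, 3, 4], [1], [1, 4], [1, 3], [1, 3, 4], [1, 2], [1, 2, 4], [1, 2, 3], [1, 2, 3, 4]]
    (by decide +kernel) (by decide +kernel) (by decide +kernel) (by decide +kernel)
    (by decide +kernel) (by decide +kernel) (by decide +kernel) (by decide +kernel)
    ⟨rfl, rfl, rfl, rfl⟩ (by decide +kernel) (by decide +kernel) (by decide +kernel)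

theorem lc2 (h : HFS) : LC (ν 1) (ν 6) (ν 7) := by
  obtain ⟨y, hy, H⟩ := h 6 (by simp)
  exact lc_words ok hy H cz_n [3, 5]
    [50, 65, 31, 49, 48, 53, 53, 59, 3, 60, 54, 54, 47, 50, 32, 66, 49] [3] [9, 11, 8] [3, 13] [2]
    [([], [6]), ([3], [1, 6]), ([9], [6, 3, 5]), ([11], [7]), ([12], [1, 6, 3, 5]), ([2, 11], [1, 7]), ([8, 11], [1, 7, 3, 5]), ([10, 11], [6, 7]), ([11, 11], [3, 5]), ([12, 11], [7, 3, 5]), ([14, 11], [6, 7, 3, 5]), ([15, 11], [1, 6, 7, 3, 5]), ([2, 10, 11], [1, 6, 7]), ([4, 11, 11], [1, 3, 5])]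
    [([], [7]), ([2], [1, 7]), ([8], [1, 7, 3, 5]), ([10], [6, 7]), ([14], [6, 7, 3, 5]), ([15], [1, 6, 7, 3, 5]), ([2, 8], [7, 3, 5]), ([2, 10], [1, 6, 7]), ([3, 11, 9], [3, 5]), ([4, 11, 9], [1, 3, 5]), ([11, 12, 14], [1, 6, 3, 5]), ([11, 12, 15], [6, 3, 5])]
    [([], [3, 5]), ([3, 13], [1, 3, 5]), ([14, 11, 12], [7, 3, 5]), ([2, 17, 11, 12], [1, 7, 3, 5]), ([8, 11, 12, 10], [6, 7, 3, 5]), ([3, 8, 11, 9, 14], [1, 6, 7, 3, 5]), ([8, 11, 11, 17, 11], [1, 6, 3, 5]), ([11, 9, 11, 10, 12], [6, 3, 5])]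
    [[], [3, 5], [7], [7, 3, 5], [6], [6, 3, 5], [6, 7], [6, 7, 3, 5], [1], [1, 3, 5], [1, 7], [1, 7, 3, 5], [1, 6], [1, 6, 3, 5], [1, 6, 7], [1, 6, 7, 3, 5]]
    (by decide +kernel) (by decide +kernel) (by decide +kernel) (by decide +kernel)
    (by decide +kernel) (by decide +kernel) (by decide +kernel) (by decide +kernel)
    ⟨rfl, rfl, rfl, rfl⟩ (by decide +kernel) (by decide +kernel) (by decide +kernel)

theorem lcs (h : HFS) : LCS := ⟨lc1 h, lc2 h⟩

end Cfsg.Agent.H80.HeLc
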