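import Cfsg.Agent.H97.U5Defs
import Cfsg.Agent.H83.Cores

/-!
# The normalizer of the unitriangular group in `SU₅`
-/

set_option autoImplicit false

namespace Cfsg.Agent.H80.U5X2

open Cfsg.Agent.H97 Cfsg.Agent.H97.U5 Subgroup

universe u

variable {K : Type u} [Field K] {T : Hm K}

theorem unit_entry {M : Matrix (Fin 5) (Fin 5) K} (h : (M.map T.σ).transpose * J5 K * M = J5 K)
    (i j : Fin 5) : T.σ (M 0 i) * M 4 j + T.σ (M 1 i) * M 3 j + T.σ (M 2 i) * M 2 j +
      T.σ (M 3 i) * M 1 j + T.σ (M 4 i) * M 0 j = J5 K i j := by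
  rw [← congrFun (congrFun h i) j]
  simp [J5, Matrix.mul_apply, Fin.sum_univ_five]
  ring

/-- upper triangular matrices -/
def Up (M : Matrix (Fin 5) (Fin 5) K) : Prop :=
  M 1 0 = 0 ∧ M 2 0 = 0 ∧ M 3 0 = 0 ∧ M 4 0 = 0 ∧ M 2 1 = 0 ∧ M 3 1 = 0 ∧ M 4 1 = 0 ∧
    M 3 2 = 0 ∧ M 4 2 = 0 ∧ M 4 3 = 0

theorem up_of {M : Matrix (Fin 5) (Fin 5) K} (h : (M.map T.σ).transpose * J5 K * M = J5 K)
    (hn : ∀ u' : U T, ∃ u : U T, mat u' * M = M * mat u) : Up M := by
  have c0 : ∀ (u' : U T) i, (mat u' * M) i 0 = M i 0 := fun u' i => by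
    obtain ⟨u, hu⟩ := hn u'
    rw [hu]
    simp [mat, Matrix.mul_apply, Fin.sum_univ_five]
  have c1 : ∀ u' : U T, ∃ t, ∀ i, (mat u' * M) i 1 = M i 0 * t + M i 1 := fun u' => by
    obtain ⟨u, hu⟩ := hn u'
    refine ⟨u.t, fun i => ?_⟩
    rw [hu]
    simp [mat, Matrix.mul_apply, Fin.sum_univ_five]
  have h10 : M 1 0 = 0 := by
    simpa [mat, Matrix.mul_apply, Fin.sum_univ_five] using c0 (xt T 1) 0
  have h40 : M 4 0 = 0 := by
    simpa [mat, Matrix.mul_apply, Fin.sum_univ_five] using c0 (xt T 1) 3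
  have h20 : M 2 0 = 0 := by
    simpa [mat, Matrix.mul_apply, Fin.sum_univ_five, h40] using c0 (rv T 1 0) 0
  have h30 : M 3 0 = 0 := by
    simpa [mat, Matrix.mul_apply, Fin.sum_univ_five, h40] using c0 (xm T 1) 0
  have h41 : M 4 1 = 0 := by
    obtain ⟨t, ht⟩ := c1 (xt T 1)
    simpa [mat, Matrix.mul_apply, Fin.sum_univ_five, h30] using ht 3
  obtain ⟨t, ht⟩ := c1 (rv T 0 1)
  have h31 : M 3 1 = 0 := by
    simpa [mat, Matrix.mul_apply, Fin.sum_univ_five, h20] using ht 2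
  have h21 : M 2 1 = 0 := by
    simpa [mat, Matrix.mul_apply, Fin.sum_univ_five, h10, h31, h41] using ht 1
  have e04 := unit_entry h 0 4
  have e02 := unit_entry h 0 2
  have e03 := unit_entry h 0 3
  have e13 := unit_entry h 1 3
  have e12 := unit_entry h 1 2
  simp only [h10, h20, h30, h40, h21, h31, h41, map_zero, zero_mul, add_zero] at e04 e02 e03 e13 e12
  have n0 : T.σ (M 0 0) ≠ 0 := left_ne_zero_of_mul_eq_one e04
  have h42 : M 4 2 = 0 := (mul_eq_zero.1 e02).resolve_left n0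
  have h43 : M 4 3 = 0 := (mul_eq_zero.1 e03).resolve_left n0
  rw [h43, mul_zero, zero_add] at e13
  rw [h42, mul_zero, zero_add] at e12
  have n1 : T.σ (M 1 1) ≠ 0 := left_ne_zero_of_mul_eq_one e13
  exact ⟨h10, h20, h30, h40, h21, h31, h41, (mul_eq_zero.1 e12).resolve_left n1, h42, h43⟩

theorem exists_mat {M : Matrix (Fin 5) (Fin 5) K} (h : (M.map T.σ).transpose * J5 K * M = J5 K)
    (hu : Up M) (hd : ∀ i, M i i = 1) : ∃ s : U T, M = mat s := by
  obtain ⟨h10, h20, h30, h40, h21, h31, h41, h32, h42, h43⟩ := hu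
  have e14 := unit_entry h 1 4
  have e23 := unit_entry h 2 3
  have e24 := unit_entry h 2 4
  have e33 := unit_entry h 3 3
  have e34 := unit_entry h 3 4
  have e44 := unit_entry h 4 4
  simp only [h10, h20, h30, h40, h21, h31, h41, h32, h42, h43, hd, map_zero, map_one, zero_mul,
    add_zero, mul_one, one_mul, mul_zero, zero_add] at e14 e23 e24 e33 e34 e44
  change _ = (0 : K) at e14 e23 e24 e33 e34 e44
  have f34 : M 3 4 = -T.σ (M 0 1) := by linear_combination e14
  have f23 : M 2 3 = -T.σ (M 1 2) := by linear_combination e23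
  have f24 : M 2 4 = -T.σ (M 0 2) + T.σ (M 1 2) * T.σ (M 0 1) := by
    rw [f34] at e24; linear_combination e24
  have g33 : T.σ (M 1 3) = -M 1 3 - M 1 2 * T.σ (M 1 2) := by
    rw [f23, map_neg, T.inv] at e33; linear_combination e33
  have f14 : M 1 4 = -T.σ (M 0 3) - M 1 2 * T.σ (M 0 2) - M 1 3 * T.σ (M 0 1) := by
    rw [f34, f23, f24, g33, map_neg, T.inv] at e34; linear_combination e34
  refine ⟨⟨M 0 1, M 0 2, M 1 2, M 0 4 + M 0 3 * T.σ (M 0 1), M 0 3, M 1 3, ?_, ?_⟩, ?_⟩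
  · rw [f34, f24, f14] at e44
    simp only [map_add, map_sub, map_mul, map_neg, T.inv, g33] at e44 ⊢
    linear_combination e44
  · rw [g33]; ring
  · ext i j
    fin_cases i <;> fin_cases j <;> simp [mat, *]

/-- a diagonal matrix -/
def dm (T : Hm K) (a b : Kˣ) : Matrix (Fin 5) (Fin 5) K :=
  Matrix.diagonal ![a, b, T.σ a * T.σ b / (a * b), (T.σ b)⁻¹, (T.σ a)⁻¹]

/-- a diagonal element of `SU₅` -/
def dg (T : Hm K) (a b : Kˣ) : XU T := ⟨⟨dm T a b, by
    have := T.σ_ne_zero a.ne_zero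
    have := T.σ_ne_zero b.ne_zero
    simp [dm, Fin.prod_univ_five]
    field_simp⟩, by
    have := T.σ_ne_zero a.ne_zero
    have := T.σ_ne_zero b.ne_zero
    change ((dm T a b).map T.σ).transpose * J5 K * dm T a b = J5 K
    ext i j
    fin_cases i <;> fin_cases j <;>
      simp [dm, J5, Matrix.mul_apply, Fin.sum_univ_five, Matrix.diagonal]⟩

theorem dg_conj (a b : Kˣ) (u : U T) : dg T a b * iU T u * (dg T a b)⁻¹ =
    iU T (tor T (a, a⁻¹) (tor T (eta T (a * b)) u)) := by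
  have := T.σ_ne_zero a.ne_zero
  have := T.σ_ne_zero b.ne_zero
  rw [mul_inv_eq_iff_eq_mul]
  refine Subtype.ext (Subtype.ext ?_)
  change dm T a b * mat u = mat _ * dm T a b
  ext i j
  rw [dm, Matrix.diagonal_mul, Matrix.mul_diagonal]
  fin_cases i <;> fin_cases j <;> simp [mat, eta] <;> field_simp

theorem decomp {g : XU T} (hg : g ∈ normalizer ((iU T).range : Set (XU T))) :
    ∃ (s : U T) (a b : Kˣ), g = iU T s * dg T a b := by
  have h : (g.1.1.map T.σ).transpose * J5 K * g.1.1 = J5 K := g.2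
  have up := up_of h fun u' => by
    obtain ⟨u, hu⟩ := (mem_normalizer_iff''.1 hg (iU T u')).1 ⟨u', rfl⟩
    refine ⟨u, ?_⟩
    have e : iU T u' * g = g * iU T u := by rw [hu]; group
    exact congrArg (fun x : XU T => x.1.1) e
  obtain ⟨h10, h20, h30, h40, h21, h31, h41, h32, h42, h43⟩ := up
  have e04 := unit_entry h 0 4
  have e13 := unit_entry h 1 3
  simp only [h10, h20, h30, h40, h21, h31, h41, h43, map_zero, zero_mul, add_zero, mul_zero,
    zero_add] at e04 e13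
  change _ = (1 : K) at e04 e13
  have n0 : g.1.1 0 0 ≠ 0 := fun e => by simp [e] at e04
  have n1 : g.1.1 1 1 ≠ 0 := fun e => by simp [e] at e13
  have s0 := T.σ_ne_zero n0
  have s1 := T.σ_ne_zero n1
  have f4 : g.1.1 4 4 = (T.σ (g.1.1 0 0))⁻¹ := eq_inv_of_mul_eq_one_right e04
  have f3 : g.1.1 3 3 = (T.σ (g.1.1 1 1))⁻¹ := eq_inv_of_mul_eq_one_right e13
  have det : g.1.1.det = 1 := g.1.2
  rw [Matrix.det_of_isUpperTriangular (by
    intro i j hij
    fin_cases i <;> fin_cases j <;> simp_all), Fin.prod_univ_five, f3, f4] at det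
  have f2 : g.1.1 2 2 = T.σ (g.1.1 0 0) * T.σ (g.1.1 1 1) / (g.1.1 0 0 * g.1.1 1 1) := by
    field_simp at det ⊢
    linear_combination det
  set a := Units.mk0 _ n0
  set b := Units.mk0 _ n1
  set k := g * (dg T a b)⁻¹ with hk
  have e : k.1.1 * dm T a b = g.1.1 := by
    have : k * dg T a b = g := by rw [hk]; group
    exact congrArg (fun x : XU T => x.1.1) this
  have ent : ∀ i j, k.1.1 i j * dm T a b j j = g.1.1 i j := fun i j => by
    rw [← e, dm, Matrix.mul_diagonal, Matrix.diagonal_apply_eq]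
  have dd : ∀ j, dm T a b j j = g.1.1 j j := fun j => by
    fin_cases j
    · rfl
    · rfl
    · exact f2.symm
    · exact f3.symm
    · exact f4.symm
  have dn : ∀ j, dm T a b j j ≠ 0 := fun j => by
    fin_cases j <;> simp [dm, a, b, n0, n1]
  have z : ∀ i j, g.1.1 i j = 0 → k.1.1 i j = 0 := fun i j hz =>
    (mul_eq_zero.1 ((ent i j).trans hz)).resolve_right (dn j)
  obtain ⟨s, hs⟩ := exists_mat (T := T) (M := k.1.1) k.2
    ⟨z _ _ h10, z _ _ h20, z _ _ h30, z _ _ h40, z _ _ h21, z _ _ h31, z _ _ h41, z _ _ h32,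
      z _ _ h42, z _ _ h43⟩ fun i => by
      have := ent i i
      rw [← dd i] at this
      exact (mul_eq_right₀ (dn i)).1 this
  refine ⟨s, a, b, ?_⟩
  have : k = iU T s := Subtype.ext (Subtype.ext hs)
  rw [← this, hk]; group

theorem eq_one_of_pow {p : ℕ} [Fact p.Prime] [CharP K p] {x : K} {k : ℕ} (h : x ^ p ^ k = 1) :
    x = 1 := by
  have : (x - 1) ^ p ^ k = 0 := by rw [sub_pow_char_pow, h, one_pow, sub_self]
  exact sub_eq_zero.1 (pow_eq_zero_iff (pow_ne_zero k (Fact.out : p.Prime).ne_zero) |>.1 this)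

theorem dg_eq_one {p : ℕ} [Fact p.Prime] [CharP K p] {a b : Kˣ} {k : ℕ}
    (h : dg T a b ^ p ^ k = 1) : dg T a b = 1 := by
  have e : dm T a b ^ p ^ k = 1 := by
    have : (dg T a b).1.1 ^ p ^ k = 1 := by simpa using congrArg (fun x : XU T => x.1.1) h
    exact this
  rw [dm, Matrix.diagonal_pow] at e
  have ha : (a : K) = 1 := eq_one_of_pow (by simpa using congrFun (congrFun e 0) 0)
  have hb : (b : K) = 1 := eq_one_of_pow (by simpa using congrFun (congrFun e 1) 1)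
  refine Subtype.ext (Subtype.ext ?_)
  change dm T a b = 1
  ext i j
  fin_cases i <;> fin_cases j <;> simp [dm, ha, hb]

theorem x2 [Finite K] {p : ℕ} [Fact p.Prime] [CharP K p] : X2Stmt T p := by
  refine ⟨?_, fun g hg => ?_⟩
  · have hP : IsPGroup p (iU T).range :=
      (isPGroup_U p).of_surjective _ (iU T).rangeRestrict_surjective
    obtain ⟨S, hS⟩ := hP.exists_le_sylow
    rcases hS.eq_or_lt with e | e
    · rw [e]; exact S.not_dvd_index
    · obtain ⟨g, hg, hg'⟩ := SetLike.exists_of_lt (H83.lt_inf_normalizer S.isPGroup' e)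
      obtain ⟨s, a, b, rfl⟩ := decomp hg.2
      have h1 : dg T a b ∈ (S : Subgroup (XU T)) :=
        (Subgroup.mul_mem_cancel_left _ (hS ⟨s, rfl⟩)).1 hg.1
      obtain ⟨k, hk⟩ := H83.isPGroup_iff.1 S.isPGroup' _ h1
      rw [dg_eq_one hk, mul_one] at hg'
      exact absurd ⟨s, rfl⟩ hg'
  · obtain ⟨s, a, b, rfl⟩ := decomp hg
    refine ⟨s, a, a * b, fun u => ?_⟩
    rw [map_mul, map_mul, map_inv, ← dg_conj]
    group

end Cfsg.Agent.H80.U5X2
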